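import Mathlib

/-!
# Small dihedral two-groups as subgroups
-/

set_option autoImplicit false

namespace Cfsg.Lib.LenEight

open DihedralGroup

/-- The elementary facts used about a dihedral group of order `2 * n`. -/
structure DFacts (n : ℕ) (z a : DihedralGroup n) : Prop where
  z_sq : z * z = 1
  a_sq : a * a = z
  z_ne : z ≠ 1
  z_comm : ∀ x, x * z = z * x
  sr_ne : ∀ i, sr i ≠ z
  inv_cases : ∀ x, x * x = 1 → x = 1 ∨ x = z ∨ ∃ i, x = sr i
  cent_sr : ∀ i x, x * sr i = sr i * x → x = 1 ∨ x = z ∨ x = sr i ∨ x = sr i * z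
  a_move : ∀ i, a * sr i * a⁻¹ = sr i * z
  inv_a : ∀ x, x * x = 1 → x * a = a * x → x = 1 ∨ x = z

theorem dfacts_four : DFacts 4 (r 2) (r 1) where
  z_sq := by decide
  a_sq := by decide
  z_ne := by decide
  z_comm := by decide
  sr_ne := by decide
  inv_cases := by decide
  cent_sr := by decide
  a_move := by decide
  inv_a := by decide

theorem dfacts_eight : DFacts 8 (r 4) (r 2) where
  z_sq := by decide
  a_sq := by decide
  z_ne := by decide
  z_comm := by decide
  sr_ne := by decide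
  inv_cases := by decide
  cent_sr := by decide
  a_move := by decide
  inv_a := by decide

theorem dfacts_sixteen : DFacts 16 (r 8) (r 4) where
  z_sq := by decide
  a_sq := by decide
  z_ne := by decide
  z_comm := by decide
  sr_ne := by decide
  inv_cases := by decide +kernel
  cent_sr := by decide +kernel
  a_move := by decide
  inv_a := by decide +kernel

/-- A subgroup given as a dihedral group of order 8, 16 or 32. -/
structure Dih (Y : Type*) [Group Y] (B : Subgroup Y) where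
  n : ℕ
  cases : n = 4 ∨ n = 8 ∨ n = 16
  φ : DihedralGroup n →* Y
  inj : Function.Injective φ
  range : φ.range = B
  Z : DihedralGroup n
  A : DihedralGroup n
  facts : DFacts n Z A

theorem nonempty_dih {Y : Type*} [Group Y] {B : Subgroup Y} {n : ℕ} (hn : n = 4 ∨ n = 8 ∨ n = 16)
    (e : ↥B ≃* DihedralGroup n) : Nonempty (Dih Y B) := by
  have hinj : Function.Injective (B.subtype.comp e.symm.toMonoidHom) :=
    B.subtype_injective.comp e.symm.injective
  have hr : (B.subtype.comp e.symm.toMonoidHom).range = B := by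
    rw [MonoidHom.range_comp, MonoidHom.range_eq_top.mpr e.symm.surjective, ← MonoidHom.range_eq_map,
      Subgroup.range_subtype]
  rcases hn with rfl | rfl | rfl
  · exact ⟨⟨4, Or.inl rfl, _, hinj, hr, _, _, dfacts_four⟩⟩
  · exact ⟨⟨8, Or.inr (Or.inl rfl), _, hinj, hr, _, _, dfacts_eight⟩⟩
  · exact ⟨⟨16, Or.inr (Or.inr rfl), _, hinj, hr, _, _, dfacts_sixteen⟩⟩

namespace Dih

variable {Y : Type*} [Group Y] {B : Subgroup Y} (D : Dih Y B)

/-- The central involution. -/
def z : Y := D.φ D.Z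

/-- A rotation of order four. -/
def a : Y := D.φ D.A

/-- A reflection. -/
def s (i : ZMod D.n) : Y := D.φ (sr i)

theorem mem (x : DihedralGroup D.n) : D.φ x ∈ B :=
  (Subgroup.ext_iff.mp D.range _).mp ⟨x, rfl⟩

theorem exists_of_mem {y : Y} (hy : y ∈ B) : ∃ x, D.φ x = y :=
  (Subgroup.ext_iff.mp D.range y).mpr hy

theorem z_mem : D.z ∈ B := D.mem _
theorem a_mem : D.a ∈ B := D.mem _
theorem s_mem (i : ZMod D.n) : D.s i ∈ B := D.mem _

theorem z_ne : D.z ≠ 1 := fun h => D.facts.z_ne (D.inj (h.trans (map_one _).symm))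

theorem z_sq : D.z * D.z = 1 := by rw [z, ← map_mul, D.facts.z_sq, map_one]

theorem a_sq : D.a * D.a = D.z := by rw [a, z, ← map_mul, D.facts.a_sq]

theorem s_sq (i : ZMod D.n) : D.s i * D.s i = 1 := by rw [s, ← map_mul, sr_mul_self, map_one]

theorem s_ne_one (i : ZMod D.n) : D.s i ≠ 1 := fun h => by
  cases D.inj (h.trans (map_one _).symm)

theorem s_ne_z (i : ZMod D.n) : D.s i ≠ D.z := fun h => D.facts.sr_ne i (D.inj h)

theorem z_comm {y : Y} (hy : y ∈ B) : y * D.z = D.z * y := by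
  obtain ⟨x, rfl⟩ := D.exists_of_mem hy
  rw [z, ← map_mul, D.facts.z_comm, map_mul]

theorem inv_cases {y : Y} (hy : y ∈ B) (h2 : y * y = 1) : y = 1 ∨ y = D.z ∨ ∃ i, y = D.s i := by
  obtain ⟨x, rfl⟩ := D.exists_of_mem hy
  rcases D.facts.inv_cases x (D.inj (by rw [map_mul, h2, map_one])) with rfl | rfl | ⟨i, rfl⟩
  exacts [Or.inl (map_one _), Or.inr (Or.inl rfl), Or.inr (Or.inr ⟨i, rfl⟩)]

theorem cent_s {y : Y} (hy : y ∈ B) {i : ZMod D.n} (h : y * D.s i = D.s i * y) :
    y = 1 ∨ y = D.z ∨ y = D.s i ∨ y = D.s i * D.z := by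
  obtain ⟨x, rfl⟩ := D.exists_of_mem hy
  rw [s, ← map_mul, ← map_mul] at h
  rcases D.facts.cent_sr i x (D.inj h) with rfl | rfl | rfl | rfl
  exacts [Or.inl (map_one _), Or.inr (Or.inl rfl), Or.inr (Or.inr (Or.inl rfl)),
    Or.inr (Or.inr (Or.inr (map_mul _ _ _)))]

theorem a_move (i : ZMod D.n) : D.a * D.s i * D.a⁻¹ = D.s i * D.z := by
  rw [a, s, z, ← map_inv, ← map_mul, ← map_mul, ← map_mul, D.facts.a_move]

theorem inv_a {y : Y} (hy : y ∈ B) (h2 : y * y = 1) (h : y * D.a = D.a * y) : y = 1 ∨ y = D.z := by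
  obtain ⟨x, rfl⟩ := D.exists_of_mem hy
  rw [a, ← map_mul, ← map_mul] at h
  rcases D.facts.inv_a x (D.inj (by rw [map_mul, h2, map_one])) (D.inj h) with rfl | rfl
  exacts [Or.inl (map_one _), Or.inr rfl]

theorem card_eq : Nat.card B = 2 * D.n := by
  conv_lhs => rw [← D.range]
  rw [← Nat.card_congr (MonoidHom.ofInjective D.inj).toEquiv, DihedralGroup.nat_card]

end Dih

end Cfsg.Lib.LenEight
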