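import Cfsg.Agent.Lib.LenEight.Basic
import Cfsg.Agent.Lib.LenEight.Dihedral
import Cfsg.Agent.Lib.CIT.Classify
import Cfsg.Agent.Lib.CIT.TICount
import Cfsg.Agent.Lib.Core.PSolvable
import Cfsg.Agent.S1011
import Cfsg.Agent.S0107
import Cfsg.Agent.S0721

/-!
# Groups with a maximal Sylow 2-subgroup, no normal 2-subgroup and a simple normal subgroup
-/

set_option autoImplicit false
set_option linter.style.haveILetI false

namespace Cfsg.Lib.LenEight

open Subgroup

universe u

variable {Y : Type u} [Group Y]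

/-- `T` is a maximal 2-subgroup, normalizes no other overgroup's normal 2-subgroup, and `L` is the
simple socle. -/
structure AS (T L : Subgroup Y) : Prop where
  isPGroup : IsPGroup 2 T
  coatom : IsCoatom T
  no_two : ∀ N : Subgroup Y, N.Normal → IsPGroup 2 N → N = ⊥
  normal : L.Normal
  simple : IsSimpleGroup L
  na : ¬ IsMulCommutative L
  sup : L ⊔ T = ⊤
  cent : centralizer (L : Set Y) = ⊥

theorem isSolvable_sup_two [Finite Y] {M T : Subgroup Y} [M.Normal] (hM : Group.IsSolvable M)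
    (hT : IsPGroup 2 T) (h : M ⊔ T = ⊤) : Group.IsSolvable Y := by
  haveI : Fact (Nat.Prime 2) := ⟨Nat.prime_two⟩
  have hs : Function.Surjective ((QuotientGroup.mk' M).comp T.subtype) := by
    intro q
    obtain ⟨g, rfl⟩ := QuotientGroup.mk'_surjective M q
    obtain ⟨m, hm, t, ht, rfl⟩ := mem_sup_of_normal_left.1 (show g ∈ M ⊔ T from h ▸ mem_top g)
    refine ⟨⟨t, ht⟩, ?_⟩
    show QuotientGroup.mk' M t = _
    rw [map_mul, show QuotientGroup.mk' M m = 1 from (QuotientGroup.eq_one_iff m).2 hm, one_mul]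
  haveI := hT.isNilpotent
  haveI : Group.IsSolvable T := inferInstance
  haveI := Group.isSolvable_of_surjective hs
  exact Group.isSolvable_of_ker_le_range M.subtype (QuotientGroup.mk' M)
    (by rw [QuotientGroup.ker_mk', range_subtype])

theorem exists_as [Finite Y] {T M : Subgroup Y} (hT : IsPGroup 2 T) (hc : IsCoatom T)
    (hO : ∀ N : Subgroup Y, N.Normal → IsPGroup 2 N → N = ⊥) (hM : Core.IsMinNormal M)
    (hns : ¬ Group.IsSolvable M) (hlen : LenLe (⊤ : Subgroup Y) 7) : AS T M := by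
  haveI := hM.1
  have hMT : ¬ M ≤ T := fun hle => hns (by
    haveI : Fact (Nat.Prime 2) := ⟨Nat.prime_two⟩
    haveI := (hT.to_le hle).isNilpotent
    infer_instance)
  have hsup : ∀ {N : Subgroup Y}, ¬ N ≤ T → N ⊔ T = ⊤ := fun {N} hN =>
    hc.2 _ (lt_of_le_of_ne le_sup_right fun e => hN (e ▸ le_sup_left))
  have hna : ¬ IsMulCommutative M := fun h =>
    hns (Group.isSolvable_of_comm fun a b => h.is_comm.comm a b)
  refine ⟨hT, hc, hO, hM.1, ?_, hna, hsup hMT, ?_⟩
  · obtain ⟨P, _, m, hP, hm, ⟨e⟩⟩ := Cfsg.Agent.S0721.result M hM.2.1 hM.2.2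
    haveI : Finite P := Finite.of_injective (fun x : P => e.symm fun _ => x) fun x y h =>
      congrFun (e.symm.injective h) ⟨0, hm⟩
    have hPns : ¬ Group.IsSolvable P := fun hPs => hns (by
      have hcm : ∀ a b : P, a * b = b * a := IsSimpleGroup.comm_iff_isSolvable.2 hPs
      exact Group.isSolvable_of_comm fun a b => e.injective (by
        rw [map_mul, map_mul]; funext i; exact hcm _ _))
    rcases (show m = 1 ∨ 2 ≤ m by omega) with rfl | h2
    · exact (e.trans (MulEquiv.funUnique (Fin 1) P)).isSimpleGroup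
    · exfalso
      let p : (Fin m → P) →* P := Pi.evalMonoidHom _ ⟨0, hm⟩
      have hp : Function.Surjective p := fun x => ⟨fun _ => x, rfl⟩
      have hk : Chain p.ker 4 := by
        have h4 := (chain_four_of_not_solvable hPns).map (MonoidHom.mulSingle (fun _ : Fin m => P) ⟨1, h2⟩)
          (fun x y hxy => by simpa using congrFun hxy ⟨1, h2⟩)
        refine h4.mono ?_
        rintro _ ⟨x, -, rfl⟩
        rw [MonoidHom.mem_ker]
        exact Pi.mulSingle_eq_of_ne (M := fun _ : Fin m => P) (i := (⟨1, h2⟩ : Fin m)) (i' := ⟨0, hm⟩)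
          (by simp [Fin.ext_iff]) x
      have h8 := Chain.top_append p hp hk (chain_four_of_not_solvable hPns)
      have h8' := ((h8.map e.symm.toMonoidHom e.symm.injective).mono le_top).top_subtype.mono le_top
      exact hlen h8'
  · by_contra hC
    haveI hCn : (centralizer (M : Set Y)).Normal := inferInstance
    obtain ⟨N, hN, hNle⟩ := Core.exists_isMinNormal hCn hC
    haveI := hN.1
    have hinf : M ⊓ N = ⊥ := by
      rcases hM.inf_eq_bot_or_le N with h | h
      · exact h
      · refine absurd ⟨⟨fun a b => Subtype.ext ?_⟩⟩ hna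
        exact (mem_centralizer_iff.1 (hNle (h b.2)) a a.2)
    by_cases hNs : Group.IsSolvable N
    · have hNT : ¬ N ≤ T := fun hle => hN.2.1 (hO N hN.1 (hT.to_le hle))
      haveI := isSolvable_sup_two hNs hT (hsup hNT)
      exact hns inferInstance
    · have hMq : ¬ Group.IsSolvable (Y ⧸ N) := fun hq => hns (by
        refine Group.isSolvable_of_isSolvable_injective (f := (QuotientGroup.mk' N).comp M.subtype) ?_
        rw [← MonoidHom.ker_eq_bot_iff, eq_bot_iff]
        intro x hx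
        have h1 : (x : Y) ∈ M ⊓ N := ⟨x.2, (QuotientGroup.eq_one_iff _).1 hx⟩
        rw [hinf, mem_bot] at h1
        exact mem_bot.2 (Subtype.ext h1))
      have h8 := Chain.top_append (QuotientGroup.mk' N) (QuotientGroup.mk'_surjective N)
        (by rw [QuotientGroup.ker_mk']; exact (chain_four_of_not_solvable hNs).top_subtype)
        (chain_four_of_not_solvable hMq)
      exact hlen h8

namespace AS

variable [Finite Y] {T L : Subgroup Y} (h : AS T L)
include h

theorem exists_sylow : ∃ S : Sylow 2 Y, (S : Subgroup Y) = T := by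
  obtain ⟨S, hS⟩ := h.isPGroup.exists_le_sylow
  rcases eq_or_lt_of_le hS with e | e
  · exact ⟨S, e.symm⟩
  · exfalso
    have e' := h.coatom.2 _ e
    haveI := h.simple
    haveI : Fact (Nat.Prime 2) := ⟨Nat.prime_two⟩
    haveI := (S.2.to_le (show L ≤ (S : Subgroup Y) from e' ▸ le_top)).isNilpotent
    exact not_solvable_simple h.na inferInstance

theorem index_eq : L.index = (L ⊓ T).relIndex T := by
  haveI := h.normal
  rw [inf_relIndex_right, ← relIndex_sup_left (H := T) (K := L), h.sup, relIndex_top_right]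

theorem card_mul_index : Nat.card ↥(L ⊓ T) * L.index = Nat.card T := by
  rw [h.index_eq, Core.card_mul_relIndex inf_le_right]

theorem exists_sylow_inf : ∃ S : Sylow 2 L, (S : Subgroup L) = T.subgroupOf L := by
  haveI : Fact (Nat.Prime 2) := ⟨Nat.prime_two⟩
  obtain ⟨S, hS⟩ := h.exists_sylow
  have hodd : ¬ 2 ∣ T.index := hS ▸ S.not_dvd_index
  have hidx : (T.subgroupOf L).index = T.index := by
    have e1 := (T.subgroupOf L).card_mul_index
    rw [show Nat.card ↥(T.subgroupOf L) = Nat.card ↥(L ⊓ T) by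
      rw [← card_map_of_injective (K := T.subgroupOf L) L.subtype_injective, subgroupOf_map_subtype,
        inf_comm]] at e1
    have e2 := T.card_mul_index
    have e3 := L.card_mul_index
    rw [← h.card_mul_index, ← e3, ← e1, mul_right_comm (Nat.card ↥(L ⊓ T))] at e2
    exact (Nat.eq_of_mul_eq_mul_left Nat.card_pos
      (Nat.eq_of_mul_eq_mul_right (Nat.pos_of_ne_zero index_ne_zero_of_finite) e2)).symm
  have hp : IsPGroup 2 ↥(T.subgroupOf L) := h.isPGroup.comap_subtype
  exact ⟨hp.toSylow (hidx ▸ hodd), rfl⟩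

theorem normalizer_eq {N : Subgroup Y} (hle : N ≤ T) (hN : N ≠ ⊥) (hn : T ≤ normalizer (N : Set Y)) :
    normalizer (N : Set Y) = T := by
  rcases eq_or_lt_of_le hn with e | e
  · exact e.symm
  · exact absurd (h.no_two N (normalizer_eq_top_iff.mp (h.coatom.2 _ e)) (h.isPGroup.to_le hle)) hN

theorem cent_eq {z : Y} (hz : z ∈ T) (h1 : z ≠ 1) (hc : ∀ x ∈ T, x * z = z * x) :
    centralizer ({z} : Set Y) = T := by
  refine le_antisymm ?_ (le_cent_iff.2 hc)
  rw [← h.normalizer_eq (zpowers_le.2 hz) (fun e => h1 (zpowers_eq_bot.1 e)) (le_normalizer_zpowers hc)]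
  exact le_normalizer_zpowers fun x hx => mem_cent.1 hx

theorem inf_ne_bot : L ⊓ T ≠ ⊥ := fun e => by
  obtain ⟨S, hS⟩ := h.exists_sylow_inf
  haveI := h.simple
  have h2 : 2 ∣ Nat.card L := CIT.two_dvd_card h.na
  haveI : Fact (Nat.Prime 2) := ⟨Nat.prime_two⟩
  have h3 := S.not_dvd_index
  have hb : T.subgroupOf L = ⊥ := subgroupOf_eq_bot.2 (disjoint_iff.2 (inf_comm T L ▸ e))
  rw [hS, hb, index_bot] at h3
  exact h3 h2

theorem le_normalizer_inf : T ≤ normalizer ((L ⊓ T : Subgroup Y) : Set Y) := by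
  haveI := h.normal
  refine Core.le_normalizer_iff_conj_mem.2 fun x hx y hy => ?_
  exact ⟨h.normal.conj_mem y hy.1 x, T.mul_mem (T.mul_mem hx hy.2) (T.inv_mem hx)⟩

theorem mem_inf_of_normalizes {g : Y} (hg : g ∈ L) (hn : g ∈ normalizer ((L ⊓ T : Subgroup Y) : Set Y)) :
    g ∈ L ⊓ T := ⟨hg, h.normalizer_eq inf_le_right h.inf_ne_bot h.le_normalizer_inf ▸ hn⟩

theorem card_sylow (S : Sylow 2 L) : Nat.card ↥(S : Subgroup L) = Nat.card ↥(L ⊓ T) := by
  haveI : Fact (Nat.Prime 2) := ⟨Nat.prime_two⟩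
  obtain ⟨R, hR⟩ := h.exists_sylow_inf
  rw [S.card_eq_multiplicity, ← R.card_eq_multiplicity, hR,
    ← card_map_of_injective (K := T.subgroupOf L) L.subtype_injective, subgroupOf_map_subtype, inf_comm]

theorem mem_normalizer_subgroupOf {x : L} (hx : x ∈ normalizer ((T.subgroupOf L : Subgroup L) : Set L)) :
    (x : Y) ∈ L ⊓ T := by
  refine h.mem_inf_of_normalizes x.2 (mem_normalizer_iff.2 fun y => ⟨fun hy => ?_, fun hy => ?_⟩)
  · have := (mem_normalizer_iff.1 hx ⟨y, hy.1⟩).1 (mem_subgroupOf.2 hy.2)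
    exact ⟨L.mul_mem (L.mul_mem x.2 hy.1) (L.inv_mem x.2), mem_subgroupOf.1 this⟩
  · have hyL : y ∈ L := by
      have := L.mul_mem (L.mul_mem (L.inv_mem x.2) hy.1) x.2
      simpa [mul_assoc] using this
    exact ⟨hyL, mem_subgroupOf.1 ((mem_normalizer_iff.1 hx ⟨y, hyL⟩).2 (mem_subgroupOf.2 hy.2))⟩

theorem not_comm : ¬ IsMulCommutative ↥(L ⊓ T) := fun hab => by
  obtain ⟨S, hS⟩ := h.exists_sylow_inf
  haveI := h.simple
  refine burnside h.na S fun a ha b hb => Subtype.ext ?_
  rw [hS] at ha hb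
  exact (congrArg Subtype.val (hab.is_comm.comm (⟨a, h.mem_normalizer_subgroupOf ha⟩ : ↥(L ⊓ T))
    ⟨b, h.mem_normalizer_subgroupOf hb⟩) :)

theorem card_inf : ∃ b : ℕ, 3 ≤ b ∧ Nat.card ↥(L ⊓ T) = 2 ^ b := by
  haveI : Fact (Nat.Prime 2) := ⟨Nat.prime_two⟩
  obtain ⟨b, hb⟩ := IsPGroup.iff_card.1 (h.isPGroup.to_le (inf_le_right : L ⊓ T ≤ T))
  refine ⟨b, ?_, hb⟩
  by_contra hlt
  rcases (show b = 0 ∨ b = 1 ∨ b = 2 by omega) with rfl | rfl | rfl
  · exact h.inf_ne_bot (card_eq_one.1 hb)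
  · haveI := isCyclic_of_prime_card (α := ↥(L ⊓ T)) (by rw [hb, pow_one])
    exact h.not_comm inferInstance
  · exact h.not_comm (IsPGroup.isMulCommutative_of_card_eq_prime_sq hb)

/-- Chains of `L` lengthen by the index of `L`. -/
theorem chain_add {n c : ℕ} (hn : Chain (⊤ : Subgroup L) n) (hc : L.index = 2 ^ c) :
    Chain (⊤ : Subgroup Y) (n + c) := by
  haveI := h.normal
  haveI : Fact (Nat.Prime 2) := ⟨Nat.prime_two⟩
  refine Chain.top_append (QuotientGroup.mk' L) (QuotientGroup.mk'_surjective L) ?_ ?_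
  · rw [QuotientGroup.ker_mk']; exact hn.top_subtype
  · exact chain_of_card_eq_pow (p := 2) (by rw [card_top]; exact hc)

theorem dih_of_eight (h8 : Nat.card ↥(L ⊓ T) = 8) : Nonempty (Dih Y (L ⊓ T)) := by
  haveI : Fact (Nat.Prime 2) := ⟨Nat.prime_two⟩
  obtain ⟨z, hz⟩ := exists_prime_orderOf_dvd_card' (G := ↥(L ⊓ T)) 2 (h8 ▸ by norm_num)
  by_cases hw : ∃ w : ↥(L ⊓ T), orderOf w = 2 ∧ w ≠ z
  · obtain ⟨w, hw, hwz⟩ := hw
    obtain ⟨e⟩ := Cfsg.Agent.S1011.dihedral_of_card_eight h8 h.not_comm hz hw (Ne.symm hwz)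
    exact nonempty_dih (Or.inl rfl) e
  · exfalso
    push Not at hw
    obtain ⟨S, hS⟩ := h.exists_sylow_inf
    haveI := h.simple
    let zL : L := ⟨(z : Y), z.2.1⟩
    have ho : orderOf zL = 2 := by rw [← orderOf_coe]; exact (orderOf_coe z).trans hz
    have hiso : IsIsolatedInvolution zL := ZStar.isolated_of_unique_involution S ho fun x hx hx2 => by
      rw [hS] at hx
      have := hw ⟨(x : Y), x.2, hx⟩ (by
        rw [← orderOf_coe (H := L ⊓ T)]; exact (orderOf_coe x).trans hx2)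
      exact Subtype.ext (congrArg Subtype.val this :)
    have hc := ZStar.mem_center_of_isolated (CIT.oddCore_eq_bot h.na) hiso
    refine (sq_of_orderOf ho).2 ?_
    rcases (inferInstance : (center L).Normal).eq_bot_or_eq_top with e | e
    · exact mem_bot.1 (e ▸ hc)
    · exact absurd ⟨⟨fun a b => (mem_center_iff.1 (e ▸ mem_top a : a ∈ center L) b).symm⟩⟩ h.na

theorem dih_of_cit (hG : CIT.IsCIT L) (h16 : Nat.card ↥(L ⊓ T) = 16 ∨ Nat.card ↥(L ⊓ T) = 32) :
    Nonempty (Dih Y (L ⊓ T)) := by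
  haveI := h.simple
  haveI : Fact (Nat.Prime 2) := ⟨Nat.prime_two⟩
  obtain ⟨S, hS⟩ := h.exists_sylow_inf
  have hti : CIT.TIHolds.{u} := fun Y _ _ H hD => CIT.exists_tiShape hD
  rcases CIT.trichotomy (CIT.ffHolds hti) (Nat.card L + 1) L h.na hG (Nat.lt_succ_self _) with ht | ht | ht
  · exfalso
    have hD := CIT.tiData h.na hG ht S
    obtain ⟨E, t, hE⟩ := hti L _ hD
    have hself : normalizer ((S : Subgroup L) : Set L) = (S : Subgroup L) := by
      refine le_antisymm (fun x hx => ?_) le_normalizer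
      rw [hS] at hx ⊢
      exact mem_subgroupOf.2 (h.mem_normalizer_subgroupOf hx).2
    have hE1 : E = ⊥ := by
      rw [eq_bot_iff, ← hE.inf_eq]
      exact le_inf (hself ▸ hE.le_normalizer) le_rfl
    obtain ⟨a, ha, b, hb, hoa, hob, hab⟩ := hD.two_involutions
    have hc := hE.card_eq
    rw [hE1, card_bot] at hc
    haveI := (Nat.card_eq_one_iff_unique.1 hc.symm).1
    exact hab (congrArg Subtype.val (Subsingleton.elim (⟨a, ha, hoa⟩ : {a : L // a ∈ (S : Subgroup L) ∧ orderOf a = 2})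
      ⟨b, hb, hob⟩))
  · obtain ⟨k, hk, ⟨e⟩⟩ := ht S
    have hcd := Nat.card_congr e.toEquiv
    rw [h.card_sylow, DihedralGroup.nat_card] at hcd
    have e' : ↥(L ⊓ T) ≃* DihedralGroup (2 ^ k) := by
      refine ((equivMapOfInjective (S : Subgroup L) L.subtype L.subtype_injective).trans
        (MulEquiv.subgroupCongr ?_)).symm.trans e
      rw [hS, subgroupOf_map_subtype, inf_comm]
    exact nonempty_dih (by omega) e'
  · exfalso
    obtain ⟨F, i, j, hF, ⟨e⟩⟩ := ht
    have hc : Nat.card L = 20160 :=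
      (Nat.card_congr e.toEquiv).trans (Cfsg.Lib.Concrete.MTwentyOne.card_psl34 F hF)
    have h64 := S.card_eq_multiplicity
    rw [h.card_sylow, hc, show 20160 = 2 ^ 6 * 315 by norm_num, Nat.factorization_mul (by norm_num)
      (by norm_num), Nat.Prime.factorization_pow Nat.prime_two] at h64
    rw [Finsupp.add_apply, Finsupp.single_eq_same,
      Nat.factorization_eq_zero_of_not_dvd (by norm_num : ¬ 2 ∣ 315)] at h64
    omega

end AS

end Cfsg.Lib.LenEight
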