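import Cfsg.Agent.Lib.LenEight.Almost

/-!
# The consequences of a dihedral Sylow subgroup of the socle
-/

set_option autoImplicit false
set_option linter.style.haveILetI false

namespace Cfsg.Lib.LenEight

open Subgroup

universe u

variable {Y : Type u} [Group Y] [Finite Y] {T L : Subgroup Y} (h : AS T L) (D : Dih Y (L ⊓ T))
include h D

omit D in
theorem pResidual_simple : Cfsg.pResidual 2 L = ⊤ := by
  haveI := h.simple
  haveI : Fact (Nat.Prime 2) := ⟨Nat.prime_two⟩
  haveI hn : (Cfsg.pResidual 2 L).Normal := by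
    refine ⟨fun x hx g => ?_⟩
    have hle : Cfsg.pResidual 2 L ≤ (Cfsg.pResidual 2 L).comap (MulAut.conj g).toMonoidHom := by
      refine (closure_le _).2 fun y hy => subset_closure ?_
      show Nat.Coprime (orderOf (MulAut.conj g y)) 2
      rw [MulEquiv.orderOf_eq]
      exact hy
    exact hle hx
  refine hn.eq_bot_or_eq_top.resolve_left fun e => ?_
  have hp : IsPGroup 2 L := fun g => by
    obtain ⟨c, d, hd, hcd⟩ := Nat.exists_eq_pow_mul_and_not_dvd (orderOf_pos g).ne' 2 (by norm_num)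
    refine ⟨c, ?_⟩
    have hmem : g ^ 2 ^ c ∈ Cfsg.pResidual 2 L := subset_closure (by
      show Nat.Coprime (orderOf (g ^ 2 ^ c)) 2
      rw [orderOf_pow_of_dvd (by positivity) (hcd ▸ dvd_mul_right _ _), hcd,
        Nat.mul_div_cancel_left _ (by positivity)]
      exact (Nat.coprime_two_right).2 (Nat.odd_iff.2 (Nat.two_dvd_ne_zero.1 hd)))
    rw [e, mem_bot] at hmem
    exact hmem
  haveI := hp.isNilpotent
  exact not_solvable_simple h.na inferInstance

theorem Dih.z_central {x : Y} (hx : x ∈ T) : x * D.z = D.z * x := by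
  have hmem : x * D.z * x⁻¹ ∈ L ⊓ T := ⟨h.normal.conj_mem _ D.z_mem.1 x,
    T.mul_mem (T.mul_mem hx D.z_mem.2) (T.inv_mem hx)⟩
  have hsq : x * D.z * x⁻¹ * (x * D.z * x⁻¹) = 1 := by
    rw [show x * D.z * x⁻¹ * (x * D.z * x⁻¹) = x * (D.z * D.z) * x⁻¹ by group, D.z_sq]
    group
  rcases D.inv_cases hmem hsq with e | e | ⟨i, e⟩
  · exact absurd (conj_eq_one_iff.1 e) D.z_ne
  · exact mul_inv_eq_iff_eq_mul.1 e
  · exfalso
    have hm : x⁻¹ * D.a * x ∈ L ⊓ T := ⟨by simpa using h.normal.conj_mem _ D.a_mem.1 x⁻¹,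
      T.mul_mem (T.mul_mem (T.inv_mem hx) D.a_mem.2) hx⟩
    have hc : D.a * D.s i * D.a⁻¹ = D.s i := by
      rw [← e, mul_inv_eq_iff_eq_mul]
      calc D.a * (x * D.z * x⁻¹) = x * ((x⁻¹ * D.a * x) * D.z) * x⁻¹ := by group
        _ = x * (D.z * (x⁻¹ * D.a * x)) * x⁻¹ := by rw [D.z_comm hm]
        _ = x * D.z * x⁻¹ * D.a := by group
    rw [D.a_move i] at hc
    exact D.z_ne (mul_eq_left.1 hc)

theorem Dih.cent_z : centralizer ({D.z} : Set Y) = T :=
  h.cent_eq D.z_mem.2 D.z_ne fun _ hx => D.z_central h hx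

theorem Dih.one_class {x y : Y} (hx : x ∈ L) (hy : y ∈ L) (hx2 : x * x = 1) (hx1 : x ≠ 1)
    (hy2 : y * y = 1) (hy1 : y ≠ 1) : ∃ g ∈ L, g * x * g⁻¹ = y := by
  obtain ⟨S, hS⟩ := h.exists_sylow_inf
  have e : (S : Subgroup L) ≃* DihedralGroup D.n := by
    refine ((equivMapOfInjective (S : Subgroup L) L.subtype L.subtype_injective).trans
      (MulEquiv.subgroupCongr ?_)).trans ((MonoidHom.ofInjective D.inj).trans
        (MulEquiv.subgroupCongr D.range)).symm
    rw [hS, subgroupOf_map_subtype, inf_comm]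
  obtain ⟨k, hk, hk'⟩ : ∃ k, 2 ≤ k ∧ D.n = 2 ^ k := by
    rcases D.cases with e | e | e
    exacts [⟨2, le_rfl, by rw [e]; rfl⟩, ⟨3, by norm_num, by rw [e]; rfl⟩, ⟨4, by norm_num, by rw [e]; rfl⟩]
  have e2 : Nonempty ((S : Subgroup L) ≃* DihedralGroup (2 ^ k)) := hk' ▸ ⟨e⟩
  obtain ⟨g, hg⟩ := Cfsg.Agent.S0107.result S k hk e2 (pResidual_simple h) ⟨x, hx⟩ ⟨y, hy⟩
    (by rw [← orderOf_coe]; exact orderOf_two hx2 hx1) (by rw [← orderOf_coe]; exact orderOf_two hy2 hy1)
  exact ⟨g, g.2, congrArg Subtype.val hg⟩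

/-- The four-group of a reflection. -/
def Dih.F (i : ZMod D.n) : Subgroup Y where
  carrier := {1, D.z, D.s i, D.s i * D.z}
  one_mem' := Set.mem_insert _ _
  mul_mem' := by
    have hz := D.z_sq
    have hs := D.s_sq i
    have hc : D.z * D.s i = D.s i * D.z := (D.z_comm (D.s_mem i)).symm
    have hz' : ∀ x : Y, D.z * (D.z * x) = x := fun x => by rw [← mul_assoc, hz, one_mul]
    have hs' : ∀ x : Y, D.s i * (D.s i * x) = x := fun x => by rw [← mul_assoc, hs, one_mul]
    have hc' : ∀ x : Y, D.z * (D.s i * x) = D.s i * (D.z * x) := fun x => by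
      rw [← mul_assoc, hc, mul_assoc]
    intro a b ha hb
    simp only [Set.mem_insert_iff, Set.mem_singleton_iff] at ha hb ⊢
    rcases ha with rfl | rfl | rfl | rfl <;> rcases hb with rfl | rfl | rfl | rfl <;>
      simp [hz, hs, hc, hz', hs', hc', mul_assoc]
  inv_mem' := by
    have hz := inv_self D.z_sq
    have hs := inv_self (D.s_sq i)
    have hc : D.z * D.s i = D.s i * D.z := (D.z_comm (D.s_mem i)).symm
    intro a ha
    simp only [Set.mem_insert_iff, Set.mem_singleton_iff] at ha ⊢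
    rcases ha with rfl | rfl | rfl | rfl <;> simp [hz, hs, hc]

omit h in
theorem Dih.mem_F {i : ZMod D.n} {x : Y} :
    x ∈ D.F i ↔ x = 1 ∨ x = D.z ∨ x = D.s i ∨ x = D.s i * D.z := Iff.rfl

omit h in
theorem Dih.F_le (i : ZMod D.n) : D.F i ≤ L ⊓ T := fun x hx => by
  rcases hx with rfl | rfl | rfl | rfl
  exacts [one_mem _, D.z_mem, D.s_mem i, mul_mem (D.s_mem i) D.z_mem]

omit h in
theorem Dih.card_F_le (i : ZMod D.n) : Nat.card ↥(D.F i) ≤ 4 := by
  have h1 : ((D.F i : Subgroup Y) : Set Y).ncard ≤ 4 :=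
    (Set.ncard_insert_le _ _).trans (Nat.succ_le_succ ((Set.ncard_insert_le _ _).trans
      (Nat.succ_le_succ ((Set.ncard_insert_le _ _).trans (Nat.succ_le_succ (Set.ncard_singleton _).le)))))
  rwa [← Nat.card_coe_set_eq] at h1

omit h in
theorem Dih.isFour_F (i : ZMod D.n) : IsFour (D.F i) := by
  refine ⟨le_antisymm (D.card_F_le i) ?_, ?_⟩
  · have hs : (({1, D.z, D.s i, D.s i * D.z} : Set Y)).ncard = 4 := by
      rw [Set.ncard_insert_of_notMem, Set.ncard_insert_of_notMem, Set.ncard_insert_of_notMem,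
        Set.ncard_singleton]
      · simp only [Set.mem_singleton_iff]
        exact fun e => D.z_ne (mul_eq_left.1 e.symm)
      · simp only [Set.mem_insert_iff, Set.mem_singleton_iff, not_or]
        exact ⟨fun e => D.s_ne_z i e.symm, fun e => D.s_ne_one i (mul_eq_right.1 e.symm)⟩
      · simp only [Set.mem_insert_iff, Set.mem_singleton_iff, not_or]
        exact ⟨D.z_ne.symm, (D.s_ne_one i).symm, fun e => D.s_ne_z i (by
          rw [← inv_eq_of_mul_eq_one_left e.symm, inv_self D.z_sq])⟩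
    exact (hs.symm.le.trans_eq (Nat.card_coe_set_eq (D.F i : Set Y)).symm :)
  · intro x hx
    have hc : D.z * D.s i = D.s i * D.z := (D.z_comm (D.s_mem i)).symm
    rcases hx with rfl | rfl | rfl | rfl
    · exact one_mul 1
    · exact D.z_sq
    · exact D.s_sq i
    · rw [mul_assoc, ← mul_assoc D.z, hc, mul_assoc, D.z_sq, mul_one, D.s_sq]

omit h in
theorem Dih.mem_normalizer_F {i : ZMod D.n} {y : Y} (h1 : y * D.z * y⁻¹ ∈ D.F i)
    (h2 : y * D.s i * y⁻¹ ∈ D.F i) : y ∈ normalizer ((D.F i : Subgroup Y) : Set Y) := by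
  refine Core.mem_normalizer_iff_map_conj.2 (eq_of_le_of_card_ge ?_ ?_)
  · rintro _ ⟨x, hx, rfl⟩
    rcases hx with rfl | rfl | rfl | rfl
    · rw [map_one]; exact one_mem _
    · exact h1
    · exact h2
    · rw [map_mul]; exact mul_mem h2 h1
  · rw [card_map_of_injective (f := (MulAut.conj y).toMonoidHom) (MulAut.conj y).injective]

/-- Some element of `L` normalizing a four-group moves `z` to the reflection. -/
theorem Dih.exists_move (i : ZMod D.n) :
    ∃ y ∈ L, y ∈ normalizer ((D.F i : Subgroup Y) : Set Y) ∧ y * D.z * y⁻¹ = D.s i := by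
  haveI : Fact (Nat.Prime 2) := ⟨Nat.prime_two⟩
  obtain ⟨g, hgL, hg⟩ := D.one_class h D.z_mem.1 (D.s_mem i).1 D.z_sq D.z_ne (D.s_sq i) (D.s_ne_one i)
  set P := (L ⊓ T).map (MulAut.conj g).toMonoidHom with hPdef
  have hP : IsPGroup 2 P := (h.isPGroup.to_le inf_le_right).map _
  have hPc : ∀ x ∈ P, x * D.s i = D.s i * x := by
    rintro _ ⟨x, hx, rfl⟩
    rw [← hg]
    exact mem_cent.1 (conj_mem_cent (mem_cent.2 (D.z_comm hx)))
  -- `F` lies in a Sylow subgroup of `C_L(s)`
  have hzs : D.s i * D.z = D.z * D.s i := D.z_comm (D.s_mem i)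
  obtain ⟨P', hP', hFP', hP'c, hP'L⟩ : ∃ P' : Subgroup Y, IsPGroup 2 P' ∧ D.F i ≤ P' ∧
      (∀ x ∈ P', x * D.s i = D.s i * x) ∧ P' ≤ L ∧ 8 ≤ Nat.card P' := by
    set C := L ⊓ centralizer ({D.s i} : Set Y)
    have hPC : P ≤ C := fun x hx => ⟨by
      obtain ⟨w, hw, rfl⟩ := hx
      exact h.normal.conj_mem w hw.1 g, mem_cent.2 (hPc x hx)⟩
    have hFC : D.F i ≤ C := fun x hx => ⟨(D.F_le i hx).1, mem_cent.2 (by
      rcases hx with rfl | rfl | rfl | rfl
      · rw [one_mul, mul_one]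
      · exact hzs.symm
      · rfl
      · rw [mul_assoc, ← hzs])⟩
    obtain ⟨R, hR⟩ := ((D.isFour_F i).isPGroup.comap_subtype :
      IsPGroup 2 ↥((D.F i).subgroupOf C)).exists_le_sylow
    refine ⟨(R : Subgroup C).map C.subtype, R.2.map _, ?_, ?_, (map_subtype_le _).trans inf_le_left, ?_⟩
    · rw [← map_subgroupOf_eq_of_le hFC]; exact map_mono hR
    · rintro _ ⟨x, -, rfl⟩
      exact mem_cent.1 x.2.2
    · obtain ⟨R', hR'⟩ := (hP.comap_subtype : IsPGroup 2 ↥(P.subgroupOf C)).exists_le_sylow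
      have hc : Nat.card ↥(R : Subgroup C) = Nat.card ↥(R' : Subgroup C) := by
        rw [R.card_eq_multiplicity, R'.card_eq_multiplicity]
      rw [card_map_of_injective C.subtype_injective, hc]
      refine le_trans ?_ ((Nat.card_congr (subgroupOfEquivOfLe hPC).toEquiv).symm.le.trans
        (Nat.le_of_dvd Nat.card_pos (card_dvd_of_le hR')))
      rw [hPdef,
        card_map_of_injective (f := (MulAut.conj g).toMonoidHom) (MulAut.conj g).injective, D.card_eq]
      rcases D.cases with e | e | e <;> omega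
  have hlt : D.F i < P' := lt_of_le_of_ne hFP' fun e => by
    have := hP'L.2
    rw [← e, (D.isFour_F i).1] at this
    omega
  obtain ⟨a', ha', ha'F, ha'n⟩ := exists_normalizer_grow hP' hlt
  have hfix : a' * D.s i * a'⁻¹ = D.s i := by rw [hP'c a' ha', mul_assoc, mul_inv_cancel, mul_one]
  have hza' : a' * D.z * a'⁻¹ = D.s i * D.z := by
    have hm : a' * D.z * a'⁻¹ ∈ D.F i := (mem_normalizer_iff.1 ha'n D.z).1 (D.mem_F.2 (Or.inr (Or.inl rfl)))
    rcases D.mem_F.1 hm with e | e | e | e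
    · exact absurd (conj_eq_one_iff.1 e) D.z_ne
    · exfalso
      have hB : a' ∈ L ⊓ T := ⟨hP'L.1 ha', D.cent_z h ▸ mem_cent.2 (mul_inv_eq_iff_eq_mul.1 e)⟩
      rcases D.cent_s hB (hP'c a' ha') with r | r | r | r <;> exact ha'F (D.mem_F.2 (by simp [r]))
    · exfalso
      exact D.s_ne_z i (mul_left_cancel (mul_right_cancel (e.trans hfix.symm))).symm
    · exact e
  refine ⟨D.a * a', L.mul_mem D.a_mem.1 (hP'L.1 ha'), mul_mem ?_ ha'n, ?_⟩
  · refine D.mem_normalizer_F ?_ ?_
    · rw [D.z_comm D.a_mem, mul_assoc, mul_inv_cancel, mul_one]; exact Or.inr (Or.inl rfl)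
    · rw [D.a_move]; exact Or.inr (Or.inr (Or.inr rfl))
  · calc D.a * a' * D.z * (D.a * a')⁻¹ = D.a * (a' * D.z * a'⁻¹) * D.a⁻¹ := by group
      _ = D.a * (D.s i * D.z) * D.a⁻¹ := by rw [hza']
      _ = D.a * D.s i * D.a⁻¹ * (D.a * D.z * D.a⁻¹) := by group
      _ = D.s i := by
        rw [D.a_move, D.z_comm D.a_mem, mul_assoc D.z, mul_inv_cancel, mul_one, mul_assoc, D.z_sq,
          mul_one]

/-- No four-group of `L ∩ T` is normalized by `T`. -/
theorem Dih.no_invariant_four {N : Subgroup Y} (hN : IsFour N) (hle : N ≤ L ⊓ T)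
    (hn : T ≤ normalizer (N : Set Y)) : False := by
  have hne : N ≠ ⊥ := fun e => by have := hN.1; rw [e, card_bot] at this; omega
  obtain ⟨e, heN, he2, he1, hec⟩ := exists_fixed_involution h.isPGroup (hle.trans inf_le_right) hne hn
  have hez : e = D.z := by
    rcases D.inv_cases (hle heN) he2 with r | r | ⟨i, r⟩
    · exact absurd r he1
    · exact r
    · exfalso
      have := D.a_move i
      rw [← r, hec _ D.a_mem.2, mul_assoc, mul_inv_cancel, mul_one] at this
      exact D.z_ne (mul_eq_left.1 this.symm)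
  obtain ⟨f, hfN, hf1, hfz⟩ := hN.exists_other D.z
  rcases D.inv_cases (hle hfN) (hN.2 f hfN) with r | r | ⟨i, r⟩
  · exact hf1 r
  · exact hfz r
  obtain ⟨y, -, hyn, hy⟩ := D.exists_move h i
  have hFN : D.F i = N := by
    refine eq_of_le_of_card_ge ?_ (le_of_eq (hN.1.trans (D.isFour_F i).1.symm))
    exact (D.isFour_F i).le_of_mem (D.mem_F.2 (Or.inr (Or.inl rfl)))
      (D.mem_F.2 (Or.inr (Or.inr (Or.inl rfl)))) D.z_ne (D.s_ne_one i) (D.s_ne_z i).symm
      (hez ▸ heN) (r ▸ hfN)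
  have hyT : y ∈ T := by
    rw [← h.normalizer_eq (hle.trans inf_le_right) hne hn, ← hFN]
    exact hyn
  rw [D.z_central h hyT, mul_assoc, mul_inv_cancel, mul_one] at hy
  exact D.s_ne_z i hy.symm

theorem Dih.chain_five (hn : D.n = 4) : Chain (⊤ : Subgroup L) 5 := by
  haveI : Fact (Nat.Prime 2) := ⟨Nat.prime_two⟩
  haveI := h.simple
  set F := D.F 0
  set N := L ⊓ normalizer ((F : Subgroup Y) : Set Y)
  have hcard : Nat.card ↥(L ⊓ T) = 8 := by rw [D.card_eq, hn]
  have hFL : F ≤ L := (D.F_le 0).trans inf_le_left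
  have hFN : F ≤ N := le_inf hFL le_normalizer
  have hBN : L ⊓ T ≤ N := by
    refine le_inf inf_le_left fun x hx => ?_
    have hi : (F.subgroupOf (L ⊓ T)).index = 2 := by
      have e := (F.subgroupOf (L ⊓ T)).card_mul_index
      rw [Nat.card_congr (subgroupOfEquivOfLe (D.F_le 0)).toEquiv, (D.isFour_F 0).1, hcard] at e
      omega
    haveI := normal_of_index_eq_two hi
    exact (normal_subgroupOf_iff_le_normalizer (D.F_le 0)).1 inferInstance hx
  obtain ⟨y, hyL, hyn, hy⟩ := D.exists_move h 0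
  have hyN : y ∈ N := ⟨hyL, hyn⟩
  have hyB : y ∉ L ⊓ T := fun hb => by
    rw [D.z_comm hb, mul_assoc, mul_inv_cancel, mul_one] at hy
    exact D.s_ne_z 0 hy.symm
  have hnp : ¬ IsPGroup 2 N := fun hp => by
    obtain ⟨S, hS⟩ := (hp.comap_subtype : IsPGroup 2 ↥(N.subgroupOf L)).exists_le_sylow
    have h1 : Nat.card N ≤ Nat.card ↥(L ⊓ T) := by
      rw [← h.card_sylow S, ← Nat.card_congr (subgroupOfEquivOfLe (inf_le_left : N ≤ L)).toEquiv]
      exact Nat.le_of_dvd Nat.card_pos (card_dvd_of_le hS)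
    exact hyB ((eq_of_le_of_card_ge hBN h1).ge hyN)
  obtain ⟨p, hp, hpd, hp2⟩ : ∃ p, p.Prime ∧ p ∣ Nat.card N ∧ p ≠ 2 := by
    by_contra hne
    push Not at hne
    exact hnp (IsPGroup.of_card (n := (Nat.card N).primeFactorsList.length)
      (Nat.eq_prime_pow_of_unique_prime_dvd Nat.card_pos.ne' fun {d} hd hdd => hne d hd hdd))
  haveI : Fact p.Prime := ⟨hp⟩
  obtain ⟨x, hx⟩ := exists_prime_orderOf_dvd_card' (G := N) p hpd
  have hxo : orderOf (x : Y) = p := (orderOf_coe x).trans hx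
  set M := F ⊔ zpowers (x : Y)
  have hxn : zpowers (x : Y) ≤ normalizer (F : Set Y) := zpowers_le.2 x.2.2
  have hMN : M ≤ N := sup_le hFN (zpowers_le.2 x.2)
  have hFM : F < M := lt_of_le_of_ne le_sup_left fun e => by
    have hxF : (x : Y) ∈ F := e.ge (mem_sup_right (mem_zpowers _))
    have h2 : (x : Y) ^ 2 = 1 := by rw [pow_two]; exact (D.isFour_F 0).2 _ hxF
    have := orderOf_dvd_of_pow_eq_one h2
    rw [hxo, Nat.prime_dvd_prime_iff_eq hp Nat.prime_two] at this
    exact hp2 this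
  have hMlt : M < N := lt_of_le_of_ne hMN fun e => by
    haveI : (F.subgroupOf M).Normal :=
      (normal_subgroupOf_iff_le_normalizer le_sup_left).2 (sup_le le_normalizer hxn)
    have h8 : 8 ∣ Nat.card M := e.symm ▸ hcard ▸ card_dvd_of_le hBN
    have hdvd : Nat.card M ∣ 4 * p := by
      rw [← Nat.card_congr (subgroupOfEquivOfLe (le_refl M)).toEquiv]
      have hsup : M.subgroupOf M = (zpowers (x : Y)).subgroupOf M ⊔ F.subgroupOf M := by
        rw [← subgroupOf_sup le_sup_right le_sup_left, sup_comm]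
      rw [hsup]
      refine (Core.card_sup_dvd_mul _ _).trans ?_
      rw [Nat.card_congr (subgroupOfEquivOfLe (le_sup_left : F ≤ M)).toEquiv,
        Nat.card_congr (subgroupOfEquivOfLe (le_sup_right : zpowers (x : Y) ≤ M)).toEquiv,
        Nat.card_zpowers, hxo, (D.isFour_F 0).1, mul_comm]
    have h9 : 4 * 2 ∣ 4 * p := by simpa using h8.trans hdvd
    have := Nat.dvd_of_mul_dvd_mul_left (by norm_num : (0:ℕ) < 4) h9
    rw [Nat.prime_dvd_prime_iff_eq Nat.prime_two hp] at this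
    exact hp2 this.symm
  have hNL : N < L := lt_of_le_of_ne inf_le_left fun e => by
    haveI hFn : (F.subgroupOf L).Normal :=
      (normal_subgroupOf_iff_le_normalizer hFL).2 (e.ge.trans inf_le_right)
    rcases hFn.eq_bot_or_eq_top with r | r
    · have := (D.isFour_F 0).1
      rw [← Nat.card_congr (subgroupOfEquivOfLe hFL).toEquiv, r, card_bot] at this
      omega
    · have hLF : L ≤ F := subgroupOf_eq_top.1 r
      haveI := ((D.isFour_F 0).isPGroup.to_le hLF).isNilpotent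
      exact not_solvable_simple h.na inferInstance
  have hF2 : Chain F 2 := chain_of_card_eq_pow (p := 2) (D.isFour_F 0).1
  exact chain_top_of_le (((hF2.succ hFM).succ hMlt).succ hNL)

theorem Dih.no_normal_four (hcase : L.index = 1 ∨ (D.n = 4 ∧ L.index = 2)) {N : Subgroup Y}
    (hN : IsFour N) (hle : N ≤ T) (hn : T ≤ normalizer (N : Set Y)) : False := by
  haveI := h.normal
  by_cases hNL : N ≤ L
  · exact D.no_invariant_four h hN (le_inf hNL hle) hn
  rcases hcase with h1 | ⟨hn4, h2⟩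
  · exact hNL (index_eq_one.1 h1 ▸ le_top)
  obtain ⟨v, hvN, hvL⟩ := SetLike.not_le_iff_exists.1 hNL
  have hF : T ≤ normalizer ((D.F 0 : Subgroup Y) : Set Y) := by
    intro x hx
    have hcase : x ∈ L ∨ v * x ∈ L := by
      by_cases hxL : x ∈ L
      · exact Or.inl hxL
      · exact Or.inr ((mul_mem_iff_of_index_two h2).2 (iff_of_false hvL hxL))
    have hB : ∀ x ∈ L ⊓ T, x ∈ normalizer ((D.F 0 : Subgroup Y) : Set Y) := by
      have hi : ((D.F 0).subgroupOf (L ⊓ T)).index = 2 := by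
        have e := ((D.F 0).subgroupOf (L ⊓ T)).card_mul_index
        rw [Nat.card_congr (subgroupOfEquivOfLe (D.F_le 0)).toEquiv, (D.isFour_F 0).1, D.card_eq] at e
        omega
      haveI := normal_of_index_eq_two hi
      exact fun x hx => (normal_subgroupOf_iff_le_normalizer (D.F_le 0)).1 inferInstance hx
    have hv : v ∈ normalizer ((D.F 0 : Subgroup Y) : Set Y) := by
      refine D.mem_normalizer_F ?_ ?_
      · rw [D.z_central h (hle hvN), mul_assoc, mul_inv_cancel, mul_one]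
        exact Or.inr (Or.inl rfl)
      · set f := D.s 0 with hf
        have hfT : f ∈ T := (D.s_mem 0).2
        set c := v * f * v⁻¹ * f⁻¹ with hc
        have hcN : c ∈ N := by
          have h' := (mem_normalizer_iff.1 (hn hfT) v⁻¹).1 (N.inv_mem hvN)
          have := N.mul_mem hvN h'
          convert this using 1
          simp only [hc]; group
        have hcB : c ∈ L ⊓ T := by
          refine ⟨L.mul_mem (h.normal.conj_mem f (D.s_mem 0).1 v) (L.inv_mem (D.s_mem 0).1), ?_⟩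
          exact T.mul_mem (T.mul_mem (T.mul_mem (hle hvN) hfT) (T.inv_mem (hle hvN))) (T.inv_mem hfT)
        have hcz : c = 1 ∨ c = D.z := by
          rcases D.inv_cases hcB (hN.2 c hcN) with r | r | ⟨i, r⟩
          · exact Or.inl r
          · exact Or.inr r
          exfalso
          have hem : D.a * D.s i * D.a⁻¹ ∈ N :=
            (mem_normalizer_iff.1 (hn D.a_mem.2) _).1 (r ▸ hcN)
          rw [D.a_move] at hem
          have hzN : D.z ∈ N := (N.mul_mem_cancel_left (r ▸ hcN : D.s i ∈ N)).1 hem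
          exact hvL ((hN.le_of_mem hzN (r ▸ hcN) D.z_ne (D.s_ne_one i) (D.s_ne_z i).symm
            D.z_mem.1 (D.s_mem i).1) hvN)
        have hvf : v * f * v⁻¹ = c * f := by simp only [hc]; group
        rw [hvf]
        rcases hcz with r | r <;> rw [r]
        · rw [one_mul]; exact Or.inr (Or.inr (Or.inl rfl))
        · exact mul_mem (Or.inr (Or.inl rfl)) (Or.inr (Or.inr (Or.inl rfl)))
    rcases hcase with hxL | hxL
    · exact hB x ⟨hxL, hx⟩
    · have h' := hB (v * x) ⟨hxL, T.mul_mem (hle hvN) hx⟩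
      have := mul_mem (inv_mem hv) h'
      rwa [inv_mul_cancel_left] at this
  exact D.no_invariant_four h (D.isFour_F 0) (D.F_le 0) hF

end Cfsg.Lib.LenEight
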