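import Cfsg.Agent.Lib.LenEight.Chain
import Cfsg.Agent.Lib.GW.Basic
import Cfsg.Agent.Lib.MinNonCA.Kernel
import Cfsg.Agent.Lib.Local.QuadTorus.Basic
import Cfsg.Agent.Lib.Core.Basic
import Cfsg.Agent.Lib.PGroup.Basic

/-!
# Elementary lemmas for simple groups of small length
-/

set_option autoImplicit false
set_option linter.style.haveILetI false

namespace Cfsg.Lib.LenEight

open Subgroup

universe u

variable {G : Type u} [Group G]

/-- A four-group inside `G`. -/
def IsFour (U : Subgroup G) : Prop := Nat.card U = 4 ∧ ∀ x ∈ U, x * x = 1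

theorem inv_self {x : G} (h : x * x = 1) : x⁻¹ = x := inv_eq_of_mul_eq_one_right h

theorem orderOf_two {x : G} (h : x * x = 1) (h1 : x ≠ 1) : orderOf x = 2 :=
  orderOf_eq_prime (by rw [pow_two, h]) h1

theorem sq_of_orderOf {x : G} (h : orderOf x = 2) : x * x = 1 ∧ x ≠ 1 :=
  ⟨by rw [← pow_two, ← h, pow_orderOf_eq_one], fun e => by rw [e, orderOf_one] at h; omega⟩

theorem mem_cent {x a : G} : x ∈ centralizer ({a} : Set G) ↔ x * a = a * x :=
  mem_centralizer_singleton_iff

theorem mem_cent_symm {x a : G} (h : x ∈ centralizer ({a} : Set G)) :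
    a ∈ centralizer ({x} : Set G) := mem_cent.2 (mem_cent.1 h).symm

theorem conj_mem_cent {x a g : G} (h : x ∈ centralizer ({a} : Set G)) :
    g * x * g⁻¹ ∈ centralizer ({g * a * g⁻¹} : Set G) := mem_cent.2 (by
  calc g * x * g⁻¹ * (g * a * g⁻¹) = g * (x * a) * g⁻¹ := by group
    _ = g * (a * x) * g⁻¹ := by rw [mem_cent.1 h]
    _ = g * a * g⁻¹ * (g * x * g⁻¹) := by group)

theorem le_normalizer_zpowers {H : Subgroup G} {z : G} (h : ∀ x ∈ H, x * z = z * x) :
    H ≤ normalizer ((zpowers z : Subgroup G) : Set G) := fun x hx => by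
  refine Core.mem_normalizer_iff_map_conj.2 ?_
  rw [MonoidHom.map_zpowers]
  congr 1
  show x * z * x⁻¹ = z
  rw [h x hx, mul_assoc, mul_inv_cancel, mul_one]

theorem le_cent_iff {H : Subgroup G} {z : G} :
    H ≤ centralizer ({z} : Set G) ↔ ∀ x ∈ H, x * z = z * x :=
  ⟨fun h x hx => mem_cent.1 (h hx), fun h x hx => mem_cent.2 (h x hx)⟩

variable [Finite G]

theorem four_cases {U : Subgroup G} (hU : IsFour U) {a b : G} (ha : a ∈ U) (hb : b ∈ U) (ha1 : a ≠ 1)
    (hb1 : b ≠ 1) (hab : a ≠ b) {x : G} (hx : x ∈ U) : x = 1 ∨ x = a ∨ x = b ∨ x = a * b := by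
  classical
  by_contra hne
  push Not at hne
  obtain ⟨h1, h2, h3, h4⟩ := hne
  have e1 : a * b ≠ 1 := fun e => hab (by
    rw [← inv_eq_of_mul_eq_one_right e, inv_self (hU.2 a ha)])
  have e2 : a * b ≠ a := fun e => hb1 (mul_eq_left.1 e)
  have e3 : a * b ≠ b := fun e => ha1 (mul_eq_right.1 e)
  have hs : (({1, a, b, a * b, x} : Finset G) : Set G) ⊆ (U : Set G) := by
    intro y hy
    simp only [Finset.coe_insert, Finset.coe_singleton, Set.mem_insert_iff, Set.mem_singleton_iff] at hy
    rcases hy with rfl | rfl | rfl | rfl | rfl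
    exacts [U.one_mem, ha, hb, U.mul_mem ha hb, hx]
  have h := Set.ncard_le_ncard hs (Set.toFinite _)
  rw [Set.ncard_coe_finset, ← Nat.card_coe_set_eq, show Nat.card (U : Set G) = 4 from hU.1] at h
  rw [Finset.card_insert_of_notMem (by simp [ha1.symm, hb1.symm, e1.symm, h1.symm]),
    Finset.card_insert_of_notMem (by simp [hab, e2.symm, h2.symm]),
    Finset.card_insert_of_notMem (by simp [e3.symm, h3.symm]),
    Finset.card_insert_of_notMem (by simp [h4.symm]), Finset.card_singleton] at h
  omega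

theorem IsFour.le_of_mem {U H : Subgroup G} (hU : IsFour U) {a b : G} (ha : a ∈ U) (hb : b ∈ U)
    (ha1 : a ≠ 1) (hb1 : b ≠ 1) (hab : a ≠ b) (haH : a ∈ H) (hbH : b ∈ H) : U ≤ H := fun x hx => by
  rcases four_cases hU ha hb ha1 hb1 hab hx with rfl | rfl | rfl | rfl
  exacts [H.one_mem, haH, hbH, H.mul_mem haH hbH]

theorem IsFour.exists_other {U : Subgroup G} (hU : IsFour U) (z : G) :
    ∃ f ∈ U, f ≠ 1 ∧ f ≠ z := by
  by_contra hne
  push Not at hne
  have hs : (U : Set G) ⊆ {1, z} := fun x hx => by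
    by_cases h1 : x = 1
    · exact Or.inl h1
    · exact Or.inr (hne x hx h1)
  have h := Set.ncard_le_ncard hs (Set.toFinite _)
  rw [← Nat.card_coe_set_eq, show Nat.card (U : Set G) = 4 from hU.1] at h
  have := Set.ncard_insert_le (1 : G) {z}
  rw [Set.ncard_singleton] at this
  omega

theorem IsFour.map {G' : Type*} [Group G'] {U : Subgroup G} (hU : IsFour U) (f : G →* G')
    (hf : ∀ x ∈ U, f x = 1 → x = 1) : IsFour (U.map f) := by
  refine ⟨?_, ?_⟩
  · rw [← hU.1]
    refine (Nat.card_congr (Equiv.ofBijective (fun x : U => (⟨f x, mem_map_of_mem f x.2⟩ : U.map f))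
      ⟨fun x y h => ?_, ?_⟩)).symm
    · have h' : f x = f y := congrArg Subtype.val h
      exact Subtype.ext (eq_of_mul_inv_eq_one (hf _ (U.mul_mem x.2 (U.inv_mem y.2))
        (by rw [map_mul, map_inv, h', mul_inv_cancel])))
    · rintro ⟨_, x, hx, rfl⟩
      exact ⟨⟨x, hx⟩, rfl⟩
  · rintro _ ⟨x, hx, rfl⟩
    rw [← map_mul, hU.2 x hx, map_one]

theorem IsFour.isPGroup {U : Subgroup G} (hU : IsFour U) : IsPGroup 2 U :=
  IsPGroup.of_card (n := 2) hU.1

/-- A nontrivial subgroup normalized by a two-group `T` contains an involution centralized by `T`. -/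
theorem exists_fixed_involution {T N : Subgroup G} (hT : IsPGroup 2 T) (hle : N ≤ T) (hN : N ≠ ⊥)
    (hn : T ≤ normalizer (N : Set G)) :
    ∃ e ∈ N, e * e = 1 ∧ e ≠ 1 ∧ ∀ x ∈ T, x * e = e * x := by
  haveI : Fact (Nat.Prime 2) := ⟨Nat.prime_two⟩
  haveI hn' : (N.subgroupOf T).Normal := (normal_subgroupOf_iff_le_normalizer hle).2 hn
  have hne : N.subgroupOf T ≠ ⊥ := fun e => hN (by
    rw [subgroupOf_eq_bot] at e
    exact e.eq_bot_of_le hle)
  have hI := PGroup.inf_center_ne_bot hT (N := N.subgroupOf T) hne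
  obtain ⟨k, hk⟩ := IsPGroup.iff_card.1 (hT.to_subgroup (N.subgroupOf T ⊓ center ↥T))
  have hdvd : 2 ∣ Nat.card ↥(N.subgroupOf T ⊓ center ↥T) := by
    rw [hk]
    refine dvd_pow_self 2 fun h => hI ?_
    rw [h, pow_zero] at hk
    exact card_eq_one.1 hk
  obtain ⟨e, he⟩ := exists_prime_orderOf_dvd_card' 2 hdvd
  have h2 : orderOf ((e : ↥T) : G) = 2 := by rw [orderOf_coe, orderOf_coe]; exact he
  exact ⟨_, e.2.1, (sq_of_orderOf h2).1, (sq_of_orderOf h2).2,
    fun x hx => congrArg Subtype.val (mem_center_iff.1 e.2.2 ⟨x, hx⟩)⟩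

theorem exists_normalizer_grow {T P : Subgroup G} (hP : IsPGroup 2 P) (hlt : T < P) :
    ∃ u ∈ P, u ∉ T ∧ u ∈ normalizer (T : Set G) := by
  haveI : Fact (Nat.Prime 2) := ⟨Nat.prime_two⟩
  obtain ⟨u, hu, huT⟩ := SetLike.exists_of_lt (Local.QuadTorus.lt_inf_normalizer' hP hlt)
  exact ⟨u, hu.1, huT, hu.2⟩

theorem normalizer_ne_top [IsSimpleGroup G] {N : Subgroup G} (h1 : N ≠ ⊥) (h2 : N ≠ ⊤) :
    normalizer (N : Set G) ≠ ⊤ := fun h => by
  rcases (normalizer_eq_top_iff.mp h).eq_bot_or_eq_top with e | e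
  · exact h1 e
  · exact h2 e

theorem centralizer_ne_top [IsSimpleGroup G] (hna : ¬ IsMulCommutative G) {z : G} (hz : z ≠ 1) :
    centralizer ({z} : Set G) ≠ ⊤ := fun h => by
  rcases (inferInstance : (center G).Normal).eq_bot_or_eq_top with e | e
  · exact hz (mem_bot.1 (e ▸ mem_center_iff.2 fun g => mem_cent.1 (h ▸ mem_top g)))
  · exact hna ⟨⟨fun a b => (mem_center_iff.1 (e ▸ mem_top a : a ∈ center G) b).symm⟩⟩

theorem not_solvable_simple [IsSimpleGroup G] (hna : ¬ IsMulCommutative G) : ¬ Group.IsSolvable G :=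
  fun h => hna ⟨⟨IsSimpleGroup.comm_iff_isSolvable.2 h⟩⟩

theorem commutator_eq_top [IsSimpleGroup G] (hna : ¬ IsMulCommutative G) : commutator G = ⊤ := by
  rcases (inferInstance : (commutator G).Normal).eq_bot_or_eq_top with e | e
  · exact absurd ⟨⟨fun a b => (mem_center_iff.1 (((commutator_eq_bot_iff_center_eq_top G).1 e) ▸ mem_top a)
      b).symm⟩⟩ hna
  · exact e

/-- A nonabelian simple group does not have an abelian self-normalizing Sylow subgroup. -/
theorem burnside [IsSimpleGroup G] (hna : ¬ IsMulCommutative G) (S : Sylow 2 G)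
    (hc : ∀ a ∈ normalizer ((S : Subgroup G) : Set G), ∀ b ∈ normalizer ((S : Subgroup G) : Set G),
      a * b = b * a) : False := by
  haveI : Fact (Nat.Prime 2) := ⟨Nat.prime_two⟩
  refine MinNonCA.burnside_false (commutator_eq_top hna) S (fun e => ?_) fun a ha b hb => hc a ha b hb
  have h := S.card_eq_multiplicity
  rw [e, card_bot] at h
  have h4 : 4 ∣ Nat.card G := by
    by_contra h4
    exact not_solvable_simple hna (GW.isSolvable_of_not_four_dvd h4)
  have := (Nat.Prime.pow_dvd_iff_le_factorization Nat.prime_two Nat.card_pos.ne' (k := 2)).1 h4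
  have h2 : 2 ^ 2 ≤ 2 ^ (Nat.card G).factorization 2 := Nat.pow_le_pow_right two_pos this
  omega

/-- A nonsolvable finite group has a chain of length four. -/
theorem chain_four : ∀ (n : ℕ) (X : Type u) [Group X] [Finite X], Nat.card X ≤ n →
    ¬ Group.IsSolvable X → Chain (⊤ : Subgroup X) 4 := by
  intro n
  induction n with
  | zero => intro X _ _ h; exact absurd (Nat.card_pos (α := X)) (by omega)
  | succ n ih =>
    intro X _ _ hcard hns
    haveI : Fact (Nat.Prime 2) := ⟨Nat.prime_two⟩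
    haveI : Nontrivial X := by
      by_contra h
      rw [not_nontrivial_iff_subsingleton] at h
      exact hns inferInstance
    by_cases hs : IsSimpleGroup X
    · have hna : ¬ IsMulCommutative X := fun h => hns (Group.isSolvable_of_comm fun a b => h.is_comm.comm a b)
      obtain ⟨S⟩ : Nonempty (Sylow 2 X) := inferInstance
      obtain ⟨a, ha⟩ := IsPGroup.iff_card.1 S.2
      have h4 : 4 ∣ Nat.card X := by
        by_contra h4
        exact hns (GW.isSolvable_of_not_four_dvd h4)
      have ha2 : 2 ≤ a := by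
        have := (Nat.Prime.pow_dvd_iff_le_factorization Nat.prime_two Nat.card_pos.ne' (k := 2)).1 h4
        rw [S.card_eq_multiplicity] at ha
        exact this.trans (Nat.pow_right_injective le_rfl ha).le
      have hStop : (S : Subgroup X) < ⊤ := lt_top_iff_ne_top.2 fun e => hns (by
        have hp : IsPGroup 2 X := fun g => by
          obtain ⟨k, hk⟩ := S.2 ⟨g, e ▸ mem_top g⟩
          exact ⟨k, congrArg Subtype.val hk⟩
        haveI := hp.isNilpotent
        infer_instance)
      rcases (show a = 2 ∨ 3 ≤ a by omega) with rfl | ha3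
      · have hlt : (S : Subgroup X) < normalizer ((S : Subgroup X) : Set X) := by
          refine lt_of_le_of_ne le_normalizer fun e => burnside hna S ?_
          rw [← e]
          intro u hu v hv
          haveI := IsPGroup.isMulCommutative_of_card_eq_prime_sq (p := 2) (G := (S : Subgroup X)) ha
          exact congrArg Subtype.val (mul_comm' (⟨u, hu⟩ : (S : Subgroup X)) ⟨v, hv⟩)
        have htop : normalizer ((S : Subgroup X) : Set X) < ⊤ := lt_top_iff_ne_top.2
          (normalizer_ne_top (fun e => by rw [e, card_bot] at ha; norm_num at ha) hStop.ne)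
        exact ((chain_of_card_eq_pow ha).succ hlt).succ htop
      · exact ((chain_of_card_eq_pow ha).of_le ha3).succ hStop
    · obtain ⟨N, hN, hb, ht⟩ : ∃ N : Subgroup X, N.Normal ∧ N ≠ ⊥ ∧ N ≠ ⊤ := by
        by_contra hne
        push Not at hne
        exact hs ⟨fun N hN => or_iff_not_imp_left.2 (hne N hN)⟩
      haveI := hN
      by_cases hsN : Group.IsSolvable N
      · have hq : ¬ Group.IsSolvable (X ⧸ N) := fun hq => hns (Group.isSolvable_of_ker_le_range N.subtype (QuotientGroup.mk' N)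
          (by rw [QuotientGroup.ker_mk', range_subtype]))
        have h4 := ih (X ⧸ N) (by have := Core.card_quotient_lt hb; omega) hq
        have := Chain.top_append (QuotientGroup.mk' N) (QuotientGroup.mk'_surjective N) (Chain.zero _) h4
        simpa using this
      · have h4 := ih N (by have := Core.lt_card_of_ne_top ht; omega) hsN
        exact h4.top_subtype.mono le_top

theorem chain_four_of_not_solvable {X : Type u} [Group X] [Finite X] (h : ¬ Group.IsSolvable X) :
    Chain (⊤ : Subgroup X) 4 := chain_four _ X le_rfl h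

end Cfsg.Lib.LenEight
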