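import Mathlib

/-!
# Chains of subgroups
-/

set_option autoImplicit false

namespace Cfsg.Lib.LenEight

open Subgroup

variable {G : Type*} [Group G]

/-- `Chain H n`: there is a strictly decreasing chain of subgroups with `n` steps starting at `H`. -/
inductive Chain : Subgroup G → ℕ → Prop
  | zero (H : Subgroup G) : Chain H 0
  | succ {K H : Subgroup G} {n : ℕ} : Chain K n → K < H → Chain H (n + 1)

/-- Every chain starting at `H` has at most `n` steps. -/
def LenLe (H : Subgroup G) (n : ℕ) : Prop := ¬ Chain H (n + 1)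

theorem Chain.of_le {H : Subgroup G} {n m : ℕ} (h : Chain H n) (hmn : m ≤ n) : Chain H m := by
  induction h generalizing m with
  | zero H => exact (Nat.le_zero.mp hmn) ▸ Chain.zero H
  | @succ K H n hc hlt ih =>
    rcases m with _ | m
    · exact Chain.zero H
    · exact (ih (Nat.le_of_succ_le_succ hmn)).succ hlt

theorem Chain.mono {H H' : Subgroup G} {n : ℕ} (h : Chain H n) (hle : H ≤ H') : Chain H' n := by
  cases h with
  | zero => exact Chain.zero H'
  | succ hc hlt => exact hc.succ (lt_of_lt_of_le hlt hle)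

theorem LenLe.chain_le {H : Subgroup G} {n m : ℕ} (h : LenLe H n) (hc : Chain H m) : m ≤ n := by
  by_contra hm
  exact h (hc.of_le (by omega))

theorem LenLe.mono {H H' : Subgroup G} {n : ℕ} (h : LenLe H' n) (hle : H ≤ H') : LenLe H n :=
  fun hc => h (hc.mono hle)

theorem LenLe.of_lt {H K : Subgroup G} {n : ℕ} (h : LenLe H (n + 1)) (hlt : K < H) : LenLe K n :=
  fun hc => h (hc.succ hlt)

theorem Chain.map {G' : Type*} [Group G'] {H : Subgroup G} {n : ℕ} (h : Chain H n) (f : G →* G')
    (hf : Function.Injective f) : Chain (H.map f) n := by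
  induction h with
  | zero H => exact Chain.zero _
  | @succ K H n hc hlt ih => exact ih.succ (lt_of_le_of_ne (map_mono hlt.le)
      fun e => hlt.ne (map_injective hf e))

theorem Chain.exists_strictAnti {H : Subgroup G} {n : ℕ} (h : Chain H n) :
    ∃ c : Fin (n + 1) → Subgroup G, StrictAnti c ∧ c 0 = H := by
  induction h with
  | zero H => exact ⟨fun _ => H, fun a b hab => absurd hab (by omega), rfl⟩
  | @succ K H n hc hlt ih =>
    obtain ⟨c, hc, h0⟩ := ih
    refine ⟨Fin.cons H c, Fin.strictAnti_iff_succ_lt.2 fun i => ?_, Fin.cons_zero _ _⟩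
    rcases Fin.eq_zero_or_eq_succ i with rfl | ⟨j, rfl⟩
    · simpa [h0] using hlt
    · rw [Fin.cons_succ]
      have e : (Fin.succ j).castSucc = (j.castSucc).succ := rfl
      rw [e, Fin.cons_succ]
      exact hc Fin.castSucc_lt_succ

theorem lenLe_of_no_strictAnti {n : ℕ} (h : ∀ c : Fin (n + 2) → Subgroup G, ¬ StrictAnti c) :
    LenLe (⊤ : Subgroup G) n := fun hc => by
  obtain ⟨c, hc, -⟩ := hc.exists_strictAnti
  exact h c hc

/-- Chains of the image lengthen by chains of the kernel. -/
theorem Chain.comap_append {G' : Type*} [Group G'] (f : G →* G') (hf : Function.Surjective f) {m : ℕ}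
    (hk : Chain f.ker m) {K : Subgroup G'} {n : ℕ} (h : Chain K n) : Chain (K.comap f) (m + n) := by
  induction h with
  | zero K => exact (hk.mono fun x hx => by
      rw [mem_comap, MonoidHom.mem_ker.1 hx]; exact one_mem _)
  | @succ L K n hc hlt ih =>
    exact ih.succ (lt_of_le_of_ne (comap_mono hlt.le) fun e => hlt.ne (comap_injective hf e))

theorem Chain.top_append {G' : Type*} [Group G'] (f : G →* G') (hf : Function.Surjective f) {m n : ℕ}
    (hk : Chain f.ker m) (h : Chain (⊤ : Subgroup G') n) : Chain (⊤ : Subgroup G) (m + n) := by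
  simpa using Chain.comap_append f hf hk h

theorem Chain.top_subtype {H : Subgroup G} {n : ℕ} (h : Chain (⊤ : Subgroup H) n) : Chain H n := by
  simpa [← MonoidHom.range_eq_map] using h.map H.subtype H.subtype_injective

theorem Chain.to_subtype {H K : Subgroup G} {n : ℕ} (h : Chain K n) (hle : K ≤ H) :
    Chain (K.subgroupOf H) n := by
  induction h with
  | zero K => exact Chain.zero _
  | @succ L K n hc hlt ih =>
    refine (ih (hlt.le.trans hle)).succ (lt_of_le_of_ne (fun x hx => hlt.le hx) fun e => hlt.ne ?_)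
    rw [← inf_eq_left.mpr (hlt.le.trans hle), ← inf_eq_left.mpr hle]
    exact (subgroupOf_inj.mp e)

theorem chain_top_of_le {H : Subgroup G} {n : ℕ} (h : Chain H n) : Chain (⊤ : Subgroup H) n := by
  simpa [subgroupOf_self] using h.to_subtype le_rfl

theorem LenLe.subtype {H : Subgroup G} {n : ℕ} (h : LenLe H n) : LenLe (⊤ : Subgroup H) n :=
  fun hc => h hc.top_subtype

theorem chain_of_card_eq_pow [Finite G] {p : ℕ} [hp : Fact p.Prime] {a : ℕ} :
    ∀ {H : Subgroup G}, Nat.card H = p ^ a → Chain H a := by
  induction a with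
  | zero => exact fun _ => Chain.zero _
  | succ a ih =>
    intro H hH
    obtain ⟨K, hK⟩ := Sylow.exists_subgroup_card_pow_prime (G := H) p (n := a)
      (hH ▸ pow_dvd_pow p (Nat.le_succ a))
    have hKc : Nat.card (K.map H.subtype) = p ^ a := by
      rw [card_map_of_injective H.subtype_injective, hK]
    refine (ih hKc).succ (lt_of_le_of_ne (map_subtype_le K) fun e => ?_)
    rw [e, hH] at hKc
    exact absurd (Nat.pow_right_injective hp.out.two_le hKc) (by omega)

/-- The quotient by a normal subgroup of order `p ^ a`. -/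
theorem chain_quotient [Finite G] {p : ℕ} [Fact p.Prime] {N : Subgroup G} [N.Normal] {a n : ℕ}
    (hN : Nat.card N = p ^ a) (h : Chain (⊤ : Subgroup (G ⧸ N)) n) :
    Chain (⊤ : Subgroup G) (a + n) := by
  refine Chain.top_append (QuotientGroup.mk' N) (QuotientGroup.mk'_surjective N) ?_ h
  rw [QuotientGroup.ker_mk']
  exact chain_of_card_eq_pow hN

end Cfsg.Lib.LenEight
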