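import Cfsg.Agent.Lib.LenEight.Main
import Cfsg.Agent.Lib.LenEight.Almost
import Cfsg.Agent.Lib.SelfNormNA.Converse

/-!
# A simple group of length eight with Sylow 2-subgroups of order `2 ^ 7`
-/

set_option autoImplicit false
set_option linter.style.haveILetI false

namespace Cfsg.Lib.LenEight

open Subgroup Cfsg

universe u

theorem Ctx.of_len {G : Type u} [Group G] [Finite G] [IsSimpleGroup G] (hna : ¬ IsMulCommutative G)
    (h8 : LenLe (⊤ : Subgroup G) 8) (S : Sylow 2 G) (hS : Nat.card ↥(S : Subgroup G) = 2 ^ 7) : Ctx G S 7 := by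
  haveI : Fact (Nat.Prime 2) := ⟨Nat.prime_two⟩
  refine ⟨hna, hS, by norm_num, le_rfl, ⟨fun e => ?_, fun H hH => ?_⟩, h8, fun _ => h8,
    fun L _ _ _ hLna _ B b => isCIT_of_len (Nat.card L) L le_rfl hLna B b⟩
  · refine not_solvable_simple hna ?_
    have hp : IsPGroup 2 G := IsPGroup.of_card (n := 7) (by rw [← hS, e, card_top])
    haveI := hp.isNilpotent
    infer_instance
  · by_contra hne
    have := h8.chain_le (((chain_of_card_eq_pow hS).succ hH).succ (lt_top_iff_ne_top.2 hne))
    omega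

theorem le_of_two_pow_dvd {a b m : ℕ} (hm : m % 2 = 1) (h : 2 ^ a ∣ 2 ^ b * m) : a ≤ b :=
  (Nat.pow_dvd_pow_iff_le_right (by norm_num : 1 < 2)).1
    (Nat.Coprime.dvd_of_dvd_mul_right (Nat.Coprime.pow_left a (Nat.coprime_two_left.2 (Nat.odd_iff.2 hm))) h)

/-- A simple group of length eight with a Sylow 2-subgroup of order `2 ^ 7` is `PSL(2, 127)`. -/
theorem psl_127 {G : Type u} [Group G] [Finite G] [IsSimpleGroup G] (hna : ¬ IsMulCommutative G)
    (h8 : LenLe (⊤ : Subgroup G) 8) (S : Sylow 2 G) (hS : Nat.card ↥(S : Subgroup G) = 2 ^ 7) :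
    ∃ (F : Type) (_ : Field F) (_ : Fintype F), Fintype.card F = 127 ∧
      Nonempty (G ≃* Matrix.ProjectiveSpecialLinearGroup (Fin 2) F) := by
  haveI : Fact (Nat.Prime 2) := ⟨Nat.prime_two⟩
  have h := Ctx.of_len hna h8 S hS
  have hG := h.isCIT
  have hti : CIT.TIHolds.{u} := fun Y _ _ H hD => CIT.exists_tiShape hD
  have hfac : (Nat.card G).factorization 2 = 7 := by
    have := S.card_eq_multiplicity
    rw [hS] at this
    exact (Nat.pow_right_injective le_rfl this).symm
  rcases CIT.trichotomy (CIT.ffHolds hti) (Nat.card G + 1) G hna hG (Nat.lt_succ_self _) with ht | ht | ht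
  · exfalso
    have hD := CIT.tiData hna hG ht S
    obtain ⟨E, t, hE⟩ := hti G _ hD
    have hself := h.normalizer_eq le_rfl h.ne_bot le_normalizer
    have hE1 : E = ⊥ := by
      rw [eq_bot_iff, ← hE.inf_eq]
      exact le_inf (hself ▸ hE.le_normalizer) le_rfl
    obtain ⟨a, ha, b, hb, hoa, hob, hab⟩ := hD.two_involutions
    have hc := hE.card_eq
    rw [hE1, card_bot] at hc
    haveI := (Nat.card_eq_one_iff_unique.1 hc.symm).1
    exact hab (congrArg Subtype.val (Subsingleton.elim (⟨a, ha, hoa⟩ : {a : G // a ∈ (S : Subgroup G) ∧ orderOf a = 2})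
      ⟨b, hb, hob⟩))
  · obtain ⟨F, i, j, ⟨e⟩⟩ := CIT.psl_of_dihedral hna hG ht
    refine ⟨F, i, j, ?_, ⟨e⟩⟩
    have hcard := Nat.card_congr e.toEquiv
    have hm := Nat.ordProj_mul_ordCompl_eq_self (Nat.card G) 2
    rw [hfac] at hm
    have hmo : Nat.card G / 2 ^ 7 % 2 = 1 := by
      have := Nat.not_dvd_ordCompl Nat.prime_two (Nat.card_pos (α := G)).ne'
      rw [hfac] at this
      omega
    generalize Nat.card G / 2 ^ 7 = m at hm hmo
    rcases CIT.psl_list hna hG e with h9 | ⟨n, hn⟩ | ⟨hp, j', hj'⟩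
    · have h2 := Cfsg.Lib.Dickson.card_psl_mul (K := F) (by omega)
      rw [← hcard, ← hm, h9] at h2
      omega
    · exfalso
      obtain ⟨p, hpp, hp, n', hn0, hn'⟩ := Cfsg.Lib.Dickson.exists_char (F := F)
      have hp2 : p = 2 := (Nat.prime_dvd_prime_iff_eq hpp Nat.prime_two).1
        (hpp.dvd_of_dvd_pow (n := n) (hn ▸ hn' ▸ dvd_pow_self p (by omega)))
      subst hp2
      obtain ⟨P, hP⟩ := (S.2.map e.toMonoidHom).exists_le_sylow
      obtain ⟨x, hx, y, hy, hxy⟩ := h.nonabelian
      refine hxy (e.injective ?_)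
      rw [map_mul, map_mul]
      exact SelfNormNA.comm_sylow P _ (hP ⟨x, hx, rfl⟩) _ (hP ⟨y, hy, rfl⟩)
    · have hodd : Fintype.card F % 2 = 1 := by
        rcases hp.eq_two_or_odd with e2 | e2
        · exfalso
          have := Cfsg.Lib.Linear.Two.card_PSL_two (F := F)
          rw [← hcard, ← hm, e2] at this
          norm_num at this
          omega
        · exact e2
      have h2 := Cfsg.Lib.Dickson.card_psl_mul (K := F) hodd
      rw [← hcard, ← hm] at h2
      have hj7 : j' ≤ 8 := by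
        refine le_of_two_pow_dvd hmo ?_
        rw [show 2 ^ 8 * m = 2 * (2 ^ 7 * m) by ring, h2]
        refine Dvd.dvd.mul_left ?_ _
        rw [show Fintype.card F ^ 2 - 1 = (Fintype.card F + 1) * (Fintype.card F - 1) by
          rw [← Nat.sq_sub_sq, one_pow]]
        rcases hj' with e' | e'
        · exact Dvd.dvd.mul_left (by rw [e', Nat.add_sub_cancel]) _
        · exact Dvd.dvd.mul_right (e' ▸ dvd_rfl) _
      rcases hj' with e' | e'
      · exfalso
        interval_cases j' <;> norm_num at e' <;> rw [e'] at h2 hp <;> norm_num at h2 hp <;> omega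
      · have e2 : Fintype.card F = 2 ^ j' - 1 := by omega
        interval_cases j' <;> norm_num at e2 <;> rw [e2] at h2 ⊢
        all_goals norm_num at h2
        all_goals omega
  · exfalso
    obtain ⟨F, i, j, hF, ⟨e⟩⟩ := ht
    rw [(Nat.card_congr e.toEquiv).trans (Cfsg.Lib.Concrete.MTwentyOne.card_psl34 F hF),
      show 20160 = 2 ^ 6 * 315 by norm_num, Nat.factorization_mul (by norm_num)
      (by norm_num), Nat.Prime.factorization_pow Nat.prime_two,
      Finsupp.add_apply, Finsupp.single_eq_same,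
      Nat.factorization_eq_zero_of_not_dvd (by norm_num : ¬ 2 ∣ 315)] at hfac
    omega

end Cfsg.Lib.LenEight
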