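import Cfsg.Agent.Lib.LenEight.Transfer
import Cfsg.Agent.Lib.LenEight.Basic

/-!
# Conjugating into a subgroup of index two of a Sylow subgroup
-/

set_option autoImplicit false
set_option linter.style.haveILetI false

namespace Cfsg.Lib.LenEight

open Subgroup

universe u

variable {G : Type u} [Group G] [Finite G]

theorem no_index_two [IsSimpleGroup G] (hna : ¬ IsMulCommutative G) (H : Subgroup G) (hH : H.Normal) :
    H.index ≠ 2 := fun h2 => by
  rcases hH.eq_bot_or_eq_top with e | e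
  · rw [e, index_bot] at h2
    haveI : Fact (Nat.Prime 2) := ⟨Nat.prime_two⟩
    haveI := isCyclic_of_prime_card (α := G) h2
    exact hna inferInstance
  · rw [e, index_top] at h2
    omega

theorem exists_char {P A : Subgroup G} (h2 : A.relIndex P = 2) :
    ∃ φ : P →* ℤˣ, ∀ x : P, φ x = 1 ↔ (x : G) ∈ A := by
  classical
  refine ⟨{ toFun := fun x => if (x : G) ∈ A then 1 else -1, map_one' := by simp, map_mul' := ?_ }, ?_⟩
  · intro x y
    have h := mul_mem_iff_of_index_two (H := A.subgroupOf P) h2 (a := x) (b := y)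
    simp only [mem_subgroupOf] at h
    by_cases hx : (x : G) ∈ A <;> by_cases hy : (y : G) ∈ A <;> simp_all
  · intro x
    simp only [MonoidHom.coe_mk, OneHom.coe_mk]
    split
    · simp_all
    · rename_i hx
      exact iff_of_false (by decide) hx

/-- A 2-subgroup that is at least as large as every 2-subgroup of `C` is a Sylow subgroup of `C`. -/
theorem exists_conj_le {C D Q : Subgroup G} (hD : IsPGroup 2 D) (hDC : D ≤ C) (hQ : IsPGroup 2 Q) (hQC : Q ≤ C)
    (hmax : ∀ R : Subgroup G, IsPGroup 2 R → R ≤ C → Nat.card R ≤ Nat.card D) :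
    ∃ c ∈ C, ∀ x ∈ Q, c * x * c⁻¹ ∈ D := by
  haveI : Fact (Nat.Prime 2) := ⟨Nat.prime_two⟩
  obtain ⟨S, hS⟩ := (hD.comap_subtype : IsPGroup 2 ↥(D.subgroupOf C)).exists_le_sylow
  obtain ⟨R, hR⟩ := (hQ.comap_subtype : IsPGroup 2 ↥(Q.subgroupOf C)).exists_le_sylow
  have hSD : (S : Subgroup C) = D.subgroupOf C := by
    refine (eq_of_le_of_card_ge hS ?_).symm
    refine le_trans ?_ (Nat.card_congr (subgroupOfEquivOfLe hDC).toEquiv).symm.le
    rw [← card_map_of_injective C.subtype_injective]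
    exact hmax _ (S.2.map _) (map_subtype_le _)
  obtain ⟨c, hc⟩ := MulAction.exists_smul_eq C R S
  refine ⟨c, c.2, fun x hx => ?_⟩
  have h1 : c * ⟨x, hQC hx⟩ * c⁻¹ ∈ (S : Subgroup C) := by
    rw [← hc, Sylow.coe_subgroup_smul, mem_pointwise_smul_iff_inv_smul_mem]
    convert hR (mem_subgroupOf.2 (show ((⟨x, hQC hx⟩ : C) : G) ∈ Q from hx)) using 1
    simp [mul_assoc]
  rw [hSD] at h1
  exact mem_subgroupOf.1 h1

variable [IsSimpleGroup G]

/-- Every involution is conjugate into `A`, to one whose centralizer meets `P` in a largest 2-subgroup. -/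
theorem conj_into (hna : ¬ IsMulCommutative G) (P : Sylow 2 G) {A : Subgroup G}
    (h2 : A.relIndex (P : Subgroup G) = 2) {u : G} (hu : u * u = 1) :
    ∃ g : G, g⁻¹ * u * g ∈ A ∧ g⁻¹ * u * g ∈ (P : Subgroup G) ∧
      ∀ Q : Subgroup G, IsPGroup 2 Q → Q ≤ centralizer ({g⁻¹ * u * g} : Set G) →
        Nat.card Q ≤ Nat.card ↥((P : Subgroup G) ⊓ centralizer ({g⁻¹ * u * g} : Set G)) := by
  obtain ⟨φ, hφ⟩ := exists_char h2
  obtain ⟨g, hg, h1, hmax⟩ := Agent.Kondo.exists_extremal_conj (no_index_two hna) P φ u hu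
  exact ⟨g, (hφ ⟨_, hg⟩).1 h1, hg, hmax⟩

/-- An element of least order outside `A` has a conjugate in `A` by an element carrying its centralizer in
`P` into `P`. -/
theorem conj_into_min (hna : ¬ IsMulCommutative G) (P : Sylow 2 G) {A : Subgroup G}
    (h2 : A.relIndex (P : Subgroup G) = 2) {s : G} (hs : s ∈ (P : Subgroup G))
    (hmin : ∀ x ∈ (P : Subgroup G), orderOf x < orderOf s → x ∈ A) :
    ∃ g : G, g * s * g⁻¹ ∈ A ∧ ∀ x ∈ (P : Subgroup G), x * s = s * x → g * x * g⁻¹ ∈ (P : Subgroup G) := by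
  obtain ⟨φ, hφ⟩ := exists_char h2
  obtain ⟨k, hk⟩ := P.2 ⟨s, hs⟩
  obtain ⟨a, -, ha⟩ := (Nat.dvd_prime_pow Nat.prime_two).1
    (orderOf_dvd_of_pow_eq_one (show s ^ 2 ^ k = 1 from congrArg Subtype.val hk))
  obtain ⟨g, hg, h1, hmax⟩ := exists_extremal_of_min (no_index_two hna) P φ s ⟨a, ha⟩ fun x hx =>
    (hφ x).2 (hmin x x.2 (by rwa [orderOf_coe]))
  have hP : IsPGroup 2 ↥((P : Subgroup G) ⊓ centralizer ({g⁻¹ * s * g} : Set G)) := P.2.to_le inf_le_left
  obtain ⟨c, hc, hcx⟩ := exists_conj_le hP inf_le_right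
    (Q := ((P : Subgroup G) ⊓ centralizer ({s} : Set G)).map (MulAut.conj g⁻¹).toMonoidHom)
    ((P.2.to_le inf_le_left).map _) (by
      rintro _ ⟨x, hx, rfl⟩
      simpa using conj_mem_cent (g := g⁻¹) hx.2) hmax
  refine ⟨c * g⁻¹, ?_, fun x hx hxs => ?_⟩
  · rw [show c * g⁻¹ * s * (c * g⁻¹)⁻¹ = c * (g⁻¹ * s * g) * c⁻¹ by group, mem_cent.1 hc, mul_assoc,
      mul_inv_cancel, mul_one]
    exact (hφ ⟨_, hg⟩).1 h1
  · have := (hcx _ ⟨x, ⟨hx, mem_cent.2 hxs⟩, rfl⟩).1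
    rw [show c * g⁻¹ * x * (c * g⁻¹)⁻¹ = c * (g⁻¹ * x * (g⁻¹)⁻¹) * c⁻¹ by group]
    exact this

end Cfsg.Lib.LenEight
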