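import Cfsg.Agent.Lib.LenEight.Dihedral

/-!
# The rotations of a small dihedral group
-/

set_option autoImplicit false

namespace Cfsg.Lib.LenEight

open DihedralGroup Subgroup

/-- Facts about the rotations `r j` of a dihedral group of order 16 or 32. -/
structure RotFacts (n : ℕ) (Z A : DihedralGroup n) : Prop where
  comm : (sr 0 : DihedralGroup n) * r 1 * (sr 0)⁻¹ * (r 1)⁻¹ = r (-2)
  a_mem : ∃ j : ℕ, A = (r (-2) : DihedralGroup n) ^ j
  r_two_pow : (r (-2) : DihedralGroup n) ^ (n / 2) = 1
  r_two_ne : ∀ i : ℕ, i < n / 2 → i ≠ 0 → (r (-2) : DihedralGroup n) ^ i ≠ 1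
  sq_z : ∀ j : ZMod n, r j * r j = Z → r j = A ∨ r j = A⁻¹
  inv_z : ∀ j : ZMod n, r j * r j = 1 → r j = 1 ∨ r j = Z
  not_rot : ∀ x : DihedralGroup n, x * x ≠ 1 → ∃ j, x = r j
  center_cases : ∀ x : DihedralGroup n, x * r 1 = r 1 * x → x * sr 0 = sr 0 * x → x = 1 ∨ x = Z

theorem rotFacts_eight : ∀ Z A : DihedralGroup 8, Z ≠ 1 → (∀ x, x * Z = Z * x) → A * A = Z →
    RotFacts 8 Z A := by
  intro Z A h1 h2 h3
  obtain rfl : Z = r 4 :=
    (by decide : ∀ Z : DihedralGroup 8, Z ≠ 1 → (∀ x, x * Z = Z * x) → Z = r 4) Z h1 h2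
  rcases (by decide : ∀ A : DihedralGroup 8, A * A = r 4 → A = r 2 ∨ A = r 6) A h3 with rfl | rfl
  · exact
      { comm := by decide
        a_mem := ⟨3, by decide⟩
        r_two_pow := by decide
        r_two_ne := by
          intro i hi hi0
          rcases (show i = 1 ∨ i = 2 ∨ i = 3 by omega) with rfl | rfl | rfl <;> decide
        sq_z := by decide
        inv_z := by decide
        not_rot := by decide
        center_cases := by decide }
  · exact
      { comm := by decide
        a_mem := ⟨1, by decide⟩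
        r_two_pow := by decide
        r_two_ne := by
          intro i hi hi0
          rcases (show i = 1 ∨ i = 2 ∨ i = 3 by omega) with rfl | rfl | rfl <;> decide
        sq_z := by decide
        inv_z := by decide
        not_rot := by decide
        center_cases := by decide }

theorem rotFacts_sixteen : ∀ Z A : DihedralGroup 16, Z ≠ 1 → (∀ x, x * Z = Z * x) → A * A = Z →
    RotFacts 16 Z A := by
  intro Z A h1 h2 h3
  obtain rfl : Z = r 8 :=
    (by decide +kernel : ∀ Z : DihedralGroup 16, Z ≠ 1 → (∀ x, x * Z = Z * x) → Z = r 8) Z h1 h2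
  rcases (by decide +kernel : ∀ A : DihedralGroup 16, A * A = r 8 → A = r 4 ∨ A = r 12) A h3 with rfl | rfl
  · exact
      { comm := by decide
        a_mem := ⟨6, by decide⟩
        r_two_pow := by decide
        r_two_ne := by
          intro i hi hi0
          rcases (show i = 1 ∨ i = 2 ∨ i = 3 ∨ i = 4 ∨ i = 5 ∨ i = 6 ∨ i = 7 by omega) with
            rfl | rfl | rfl | rfl | rfl | rfl | rfl <;> decide
        sq_z := by decide
        inv_z := by decide
        not_rot := by decide +kernel
        center_cases := by decide +kernel }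
  · exact
      { comm := by decide
        a_mem := ⟨2, by decide⟩
        r_two_pow := by decide
        r_two_ne := by
          intro i hi hi0
          rcases (show i = 1 ∨ i = 2 ∨ i = 3 ∨ i = 4 ∨ i = 5 ∨ i = 6 ∨ i = 7 by omega) with
            rfl | rfl | rfl | rfl | rfl | rfl | rfl <;> decide
        sq_z := by decide
        inv_z := by decide
        not_rot := by decide +kernel
        center_cases := by decide +kernel }

namespace Dih

variable {Y : Type*} [Group Y] {B : Subgroup Y} (D : Dih Y B)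

theorem rotFacts (h : D.n = 8 ∨ D.n = 16) : RotFacts D.n D.Z D.A := by
  obtain ⟨n, _, φ, inj, range, Z, A, facts⟩ := D
  rcases h with h | h
  · obtain rfl : n = 8 := h
    exact rotFacts_eight Z A facts.z_ne facts.z_comm facts.a_sq
  · obtain rfl : n = 16 := h
    exact rotFacts_sixteen Z A facts.z_ne facts.z_comm facts.a_sq

/-- The rotation subgroup. -/
def rot : Subgroup Y := zpowers (D.φ (r 1))

theorem mem_rot {y : Y} (hy : y ∈ D.rot) : ∃ j : ZMod D.n, y = D.φ (r j) := by
  obtain ⟨i, rfl⟩ := mem_zpowers_iff.1 hy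
  exact ⟨i, by rw [← map_zpow, r_one_zpow]⟩

theorem rot_mem (hn : D.n ≠ 0) (j : ZMod D.n) : D.φ (r j) ∈ D.rot := by
  haveI : NeZero D.n := ⟨hn⟩
  refine mem_zpowers_iff.2 ⟨(j.val : ℤ), ?_⟩
  rw [zpow_natCast, ← map_pow, r_one_pow, ZMod.natCast_zmod_val]

theorem rot_le : D.rot ≤ B := zpowers_le.2 (D.mem _)

theorem card_rot : Nat.card D.rot = D.n := by
  have h : orderOf (D.φ (r 1)) = D.n := by rw [orderOf_injective _ D.inj, orderOf_r_one]
  rw [rot, Nat.card_zpowers, h]

theorem center_cases (h : D.n = 8 ∨ D.n = 16) {y : Y} (hy : y ∈ B) (hc : ∀ b ∈ B, y * b = b * y) :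
    y = 1 ∨ y = D.z := by
  obtain ⟨x, rfl⟩ := D.exists_of_mem hy
  have h1 : x * r 1 = r 1 * x := D.inj (by rw [map_mul, map_mul]; exact hc _ (D.mem _))
  have h2 : x * sr 0 = sr 0 * x := D.inj (by rw [map_mul, map_mul]; exact hc _ (D.mem _))
  rcases (D.rotFacts h).center_cases x h1 h2 with rfl | rfl
  exacts [Or.inl (map_one _), Or.inr rfl]

end Dih

end Cfsg.Lib.LenEight
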