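import Cfsg.Agent.Lib.LenEight.Almost
import Cfsg.Agent.Lib.Core.Cores

/-!
# A group with a maximal 2-subgroup and a normal 2-subgroup not containing its centralizer
-/

set_option autoImplicit false
set_option linter.style.haveILetI false

namespace Cfsg.Lib.LenEight

open Subgroup

universe u

variable {X : Type u} [Group X] [Finite X] {T : Subgroup X} (hT : IsPGroup 2 T) (hc : IsCoatom T)
  (hX : ¬ IsPGroup 2 X)
include hT hc hX

theorem exists_sylow_of_coatom : ∃ S : Sylow 2 X, (S : Subgroup X) = T := by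
  obtain ⟨S, hS⟩ := hT.exists_le_sylow
  rcases eq_or_lt_of_le hS with e | e
  · exact ⟨S, e.symm⟩
  · refine (hX fun g => ?_).elim
    obtain ⟨k, hk⟩ := S.2 ⟨g, (hc.2 _ e).ge (mem_top g)⟩
    exact ⟨k, congrArg Subtype.val hk⟩

theorem pCore_le : Cfsg.pCore 2 X ≤ T := by
  haveI : Fact (Nat.Prime 2) := ⟨Nat.prime_two⟩
  obtain ⟨S, hS⟩ := exists_sylow_of_coatom hT hc hX
  exact hS ▸ Core.pCore_le_sylow S

omit hX in
theorem sup_eq_top {N : Subgroup X} (hN : ¬ N ≤ T) : N ⊔ T = ⊤ :=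
  hc.2 _ (lt_of_le_of_ne le_sup_right fun e => hN (e ▸ le_sup_left))

variable (hQ : ¬ centralizer (Cfsg.pCore 2 X : Set X) ≤ Cfsg.pCore 2 X)
include hQ

theorem centralizer_sup : centralizer (Cfsg.pCore 2 X : Set X) ⊔ T = ⊤ := by
  haveI : Fact (Nat.Prime 2) := ⟨Nat.prime_two⟩
  haveI : (Cfsg.pCore 2 X).Normal := inferInstance
  exact sup_eq_top hT hc fun hle => hQ (Core.le_pCore' inferInstance (hT.to_le hle))

theorem normal_of_le_pCore {W : Subgroup X} (hle : W ≤ Cfsg.pCore 2 X) (hn : T ≤ normalizer (W : Set X)) :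
    W.Normal := by
  rw [← normalizer_eq_top_iff, eq_top_iff, ← centralizer_sup hT hc hX hQ]
  refine sup_le (fun c hc' => ?_) hn
  refine mem_normalizer_iff.2 fun w => ?_
  have key : ∀ v ∈ W, c * v = v * c := fun v hv => (mem_centralizer_iff.1 hc' v (hle hv)).symm
  constructor
  · intro hw
    rwa [key w hw, mul_assoc, mul_inv_cancel, mul_one]
  · intro hw
    have h1 := key _ hw
    have h2 : w = c * w * c⁻¹ :=
      calc w = c⁻¹ * (c * w * c⁻¹ * c) := by group
        _ = c⁻¹ * (c * (c * w * c⁻¹)) := by rw [h1]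
        _ = c * w * c⁻¹ := by group
    exact h2 ▸ hw

theorem coatom_map : IsCoatom (T.map (QuotientGroup.mk' (Cfsg.pCore 2 X))) := by
  have hle := pCore_le hT hc hX
  have hcomap : (T.map (QuotientGroup.mk' (Cfsg.pCore 2 X))).comap (QuotientGroup.mk' (Cfsg.pCore 2 X)) = T :=
    comap_map_eq_self (by rwa [QuotientGroup.ker_mk'])
  refine ⟨fun e => hc.1 ?_, fun M hM => ?_⟩
  · rw [← hcomap, e, comap_top]
  · have hlt : T < M.comap (QuotientGroup.mk' (Cfsg.pCore 2 X)) :=
      lt_of_le_of_ne (hcomap ▸ comap_mono hM.le) fun e => hM.ne (by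
        rw [e, map_comap_eq_self_of_surjective (QuotientGroup.mk'_surjective _)])
    rw [← map_comap_eq_self_of_surjective (QuotientGroup.mk'_surjective (Cfsg.pCore 2 X)) M, hc.2 _ hlt,
      map_top_of_surjective _ (QuotientGroup.mk'_surjective _)]

omit hT hc hX hQ in
theorem no_two_quotient (N : Subgroup (X ⧸ Cfsg.pCore 2 X)) (hN : N.Normal) (hp : IsPGroup 2 N) : N = ⊥ := by
  haveI : Fact (Nat.Prime 2) := ⟨Nat.prime_two⟩
  have := Core.le_pCore' hN hp
  rw [Core.pCore_quotient_pCore_eq_bot] at this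
  exact le_bot_iff.1 this

theorem odd_or_as (hlen : LenLe (⊤ : Subgroup (X ⧸ Cfsg.pCore 2 X)) 7) :
    (∃ W : Subgroup X, W.Normal ∧ W ≠ ⊥ ∧ Odd (Nat.card W)) ∨
      ∃ L : Subgroup (X ⧸ Cfsg.pCore 2 X), AS (T.map (QuotientGroup.mk' (Cfsg.pCore 2 X))) L ∧
        L ≤ (centralizer (Cfsg.pCore 2 X : Set X)).map (QuotientGroup.mk' (Cfsg.pCore 2 X)) := by
  haveI : Fact (Nat.Prime 2) := ⟨Nat.prime_two⟩
  set Q := Cfsg.pCore 2 X with hQdef
  set f := QuotientGroup.mk' Q
  have hne : (centralizer (Q : Set X)).map f ≠ ⊥ := fun e => hQ (by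
    have := (Subgroup.map_eq_bot_iff _).1 e
    rwa [QuotientGroup.ker_mk'] at this)
  have hCn : ((centralizer (Q : Set X)).map f).Normal :=
    (inferInstance : (centralizer (Q : Set X)).Normal).map f (QuotientGroup.mk'_surjective Q)
  obtain ⟨M, hM, hMle⟩ := Core.exists_isMinNormal hCn hne
  haveI := hM.1
  by_cases hMs : Group.IsSolvable M
  swap
  · exact Or.inr ⟨M, exists_as (hT.map f) (coatom_map hT hc hX hQ) no_two_quotient hM hMs hlen, hMle⟩
  left
  obtain ⟨hab, p, hp, -, hMp⟩ := Core.minimal_solvable_elementary hM hMs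
  haveI : Fact p.Prime := ⟨hp⟩
  have hp2 : p ≠ 2 := fun e => hM.2.1 (no_two_quotient M hM.1 (by subst e; exact hMp))
  set N := M.comap f ⊓ centralizer (Q : Set X) with hNdef
  haveI hNn : N.Normal := inferInstance
  set φ : N →* M := (f.comp N.subtype).codRestrict M fun x => x.2.1
  have hker : φ.ker ≤ center N := fun x hx => by
    have hxQ : (x : X) ∈ Q := (QuotientGroup.eq_one_iff _).1 (congrArg Subtype.val (MonoidHom.mem_ker.1 hx) :)
    exact mem_center_iff.2 fun g => Subtype.ext (mem_centralizer_iff.1 g.2.2 _ hxQ).symm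
  haveI : IsMulCommutative M := hab
  haveI : Group.IsNilpotent M := Core.isNilpotent_of_isMulCommutative M
  haveI : Group.IsNilpotent N := _root_.isNilpotent_of_ker_le_center φ hker
  obtain ⟨P⟩ : Nonempty (Sylow p N) := inferInstance
  haveI hPn : (P : Subgroup N).Normal :=
    Sylow.normal_of_normalizerCondition Group.normalizerCondition_of_isNilpotent P
  haveI := P.characteristic_of_normal hPn
  refine ⟨(P : Subgroup N).map N.subtype, Core.normal_map_char_of_normal _, fun e => ?_, ?_⟩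
  · -- `N` maps onto `M`
    obtain ⟨m, hm, hm1⟩ : ∃ m ∈ M, m ≠ 1 := by
      by_contra h
      push Not at h
      exact hM.2.1 ((eq_bot_iff_forall M).2 h)
    obtain ⟨c, hc', rfl⟩ := hMle hm
    have hd : orderOf (φ ⟨c, ⟨hm, hc'⟩⟩) ∣ Nat.card N :=
      (orderOf_map_dvd φ _).trans (orderOf_dvd_natCard _)
    obtain ⟨k, hk⟩ := hMp ⟨f c, hm⟩
    obtain ⟨j, -, hj⟩ := (Nat.dvd_prime_pow hp).1 (orderOf_dvd_of_pow_eq_one hk)
    have hj0 : j ≠ 0 := fun h0 => by
      rw [h0, pow_zero, orderOf_eq_one_iff] at hj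
      exact hm1 (congrArg Subtype.val hj)
    have hpN : p ∣ Nat.card N := by
      refine dvd_trans ?_ hd
      show p ∣ orderOf (⟨f c, hm⟩ : M)
      rw [hj]
      exact dvd_pow_self p hj0
    rw [map_eq_bot_iff_of_injective _ N.subtype_injective] at e
    have hPd := P.not_dvd_index
    rw [e, index_bot] at hPd
    exact hPd hpN
  · obtain ⟨k, hk⟩ := IsPGroup.iff_card.1 P.2
    rw [card_map_of_injective N.subtype_injective, hk]
    exact (hp.odd_of_ne_two hp2).pow

end Cfsg.Lib.LenEight
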