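import Cfsg.Agent.Lib.LenEight.StepMain
import Cfsg.Agent.Lib.PGroup.NormalSq

/-!
# Simple groups of length at most eight with a maximal Sylow 2-subgroup are CIT groups
-/

set_option autoImplicit false
set_option linter.style.haveILetI false

namespace Cfsg.Lib.LenEight

open Subgroup Cfsg

universe u

variable {G : Type u} [Group G]

theorem isPGroup_cent_of_conj {z g : G} (h : IsPGroup 2 ↥(centralizer ({g⁻¹ * z * g} : Set G))) :
    IsPGroup 2 ↥(centralizer ({z} : Set G)) :=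
  (h.map (MulAut.conj g).toMonoidHom).to_le fun y hy =>
    ⟨g⁻¹ * y * g, by simpa using conj_mem_cent (g := g⁻¹) hy, by simp [mul_assoc]⟩

/-- A finite cyclic group has only one involution. -/
theorem eq_of_mem_zpowers {a u v : G} (hu : u ∈ zpowers a) (hu2 : u * u = 1) (hu1 : u ≠ 1)
    (hv : v ∈ zpowers a) (hv2 : v * v = 1) (hv1 : v ≠ 1) : u = v := by
  obtain ⟨i, rfl⟩ := mem_zpowers_iff.1 hu
  obtain ⟨j, rfl⟩ := mem_zpowers_iff.1 hv
  rw [← zpow_add, ← orderOf_dvd_iff_zpow_eq_one] at hu2 hv2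
  rw [Ne, ← orderOf_dvd_iff_zpow_eq_one] at hu1 hv1
  obtain ⟨p, hp⟩ := hu2
  obtain ⟨q, hq⟩ := hv2
  obtain ⟨r, rfl⟩ | ⟨r, rfl⟩ := Int.even_or_odd p
  · exact absurd ⟨r, by linarith⟩ hu1
  obtain ⟨s, rfl⟩ | ⟨s, rfl⟩ := Int.even_or_odd q
  · exact absurd ⟨s, by linarith⟩ hv1
  exact zpow_eq_zpow_iff_modEq.2 (Int.modEq_iff_dvd.2 ⟨s - r, by linarith⟩)

variable [Finite G] [IsSimpleGroup G] {S : Sylow 2 G} {k : ℕ}

omit [IsSimpleGroup G] in
theorem Ctx.exists_half (h : Ctx G S k) :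
    ∃ A : Subgroup G, A.relIndex (S : Subgroup G) = 2 := by
  haveI : Fact (Nat.Prime 2) := ⟨Nat.prime_two⟩
  obtain ⟨A, hA⟩ := Sylow.exists_subgroup_card_pow_prime (G := (S : Subgroup G)) 2 (n := k - 1)
    (h.card ▸ pow_dvd_pow 2 (Nat.sub_le k 1))
  refine ⟨A.map (S : Subgroup G).subtype, ?_⟩
  have e := Core.card_mul_relIndex (map_subtype_le A)
  rw [card_map_of_injective (S : Subgroup G).subtype_injective, hA, h.card,
    show 2 ^ k = 2 ^ (k - 1) * 2 by rw [← pow_succ]; congr 1; have := h.four_le; omega] at e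
  exact Nat.eq_of_mul_eq_mul_left (by positivity) e

/-- A normal four-group of `S` leads to a CIT group. -/
theorem Ctx.isCIT_of_four (h : Ctx G S k) {U : Subgroup G} (hU : IsFour U) (hUS : U ≤ (S : Subgroup G))
    (hUn : (S : Subgroup G) ≤ normalizer (U : Set G)) : CIT.IsCIT G := by
  by_cases hcen : ∀ e ∈ U, ∀ x ∈ (S : Subgroup G), x * e = e * x
  · obtain ⟨A, hA⟩ := h.exists_half
    refine FourU.isCIT h ⟨hU, hUS, hUn, fun e he he1 => ?_, fun x hx => ?_⟩
    · rw [h.cent_eq he1 (hcen e he)]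
      exact S.2
    · obtain ⟨g, -, hgS, hmax⟩ := conj_into h.na S hA hx
      exact ⟨g, hgS, fun e he => hcen e he _ hgS, hmax⟩
  push Not at hcen
  obtain ⟨u1, huU, x, hx, hne⟩ := hcen
  have hUne : U ≠ ⊥ := fun e => by have := hU.1; rw [e, card_bot] at this; omega
  obtain ⟨z0, hzU, hz2, hz1, hzc⟩ := exists_fixed_involution S.2 hUS hUne hUn
  have hu1 : u1 ≠ 1 := fun e => hne (by rw [e, mul_one, one_mul])
  have hzu : z0 ≠ u1 := fun e => hne (e ▸ hzc x hx)
  have hzu' : z0 * u1 = u1 * z0 := (hzc u1 (hUS huU)).symm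
  have c : NC S z0 u1 := by
    refine ⟨hUS hzU, hz2, hz1, hzc, hUS huU, hU.2 u1 huU, hu1, fun y hy => ?_,
      ⟨x, hx, fun e => hne (mul_inv_eq_iff_eq_mul.1 e)⟩⟩
    have hy' : y * u1 * y⁻¹ ∈ U := (mem_normalizer_iff.1 (hUn hy) u1).1 huU
    rcases four_cases hU hzU huU hz1 hu1 hzu hy' with r | r | r | r
    · exact absurd (conj_eq_one_iff.1 r) hu1
    · refine absurd ?_ hzu
      calc z0 = y⁻¹ * (y * z0) := by group
        _ = y⁻¹ * (z0 * y) := by rw [hzc y hy]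
        _ = u1 := by rw [← r]; group
    · exact Or.inl r
    · exact Or.inr (r.trans hzu')
  have hmem : ∀ e ∈ U, c.InU e := fun e he => by
    rcases four_cases hU hzU huU hz1 hu1 hzu he with r | r | r | r
    exacts [Or.inl r, Or.inr (Or.inl r), Or.inr (Or.inr (Or.inl r)), Or.inr (Or.inr (Or.inr (r.trans hzu')))]
  refine FourU.isCIT h ⟨hU, hUS, hUn, fun e he he1 => ?_, fun y hy => ?_⟩
  · rcases hmem e he with rfl | rfl | rfl | rfl
    · exact absurd rfl he1
    · rw [h.cent_eq hz1 hzc]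
      exact S.2
    · exact c.isPGroup_cent h
    · obtain ⟨g, -, hg⟩ := c.uz_conj
      refine isPGroup_cent_of_conj (g := g) ?_
      rw [show g⁻¹ * (u1 * z0) * g = u1 by rw [← hg]; group]
      exact c.isPGroup_cent h
  · obtain ⟨g, hgR, hgS, hmax⟩ := conj_into h.na S c.relIndex hy
    exact ⟨g, hgS, fun e he => c.inU_comm (hmem e he) hgR, hmax⟩

/-- Every involution centralizer is a 2-group. -/
theorem Ctx.isCIT (h : Ctx G S k) : CIT.IsCIT G := by
  haveI : Fact (Nat.Prime 2) := ⟨Nat.prime_two⟩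
  by_cases hno : ∃ E : Subgroup (S : Subgroup G), E.Normal ∧ Cfsg.IsElementaryAbelian 2 E ∧ Nat.card E = 2 ^ 2
  · obtain ⟨E, hEn, hEe, hEc⟩ := hno
    refine h.isCIT_of_four (U := E.map (S : Subgroup G).subtype) ⟨?_, ?_⟩ (map_subtype_le E) ?_
    · rw [card_map_of_injective (S : Subgroup G).subtype_injective, hEc]; norm_num
    · rintro _ ⟨e, he, rfl⟩
      rw [← map_mul, ← pow_two, hEe.2 e he, map_one]
    · refine (normal_subgroupOf_iff_le_normalizer (map_subtype_le E)).1 ?_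
      rw [subgroupOf, comap_map_eq_self_of_injective (S : Subgroup G).subtype_injective]
      exact hEn
  obtain ⟨a, han, hcases⟩ := PGroup.NormalSq.cyclic_or_three_mod_four S.2 hno
  rcases hcases with htop | ⟨-, -, -, -, -, -, -, hidx⟩
  · obtain ⟨x, hx, y, hy, hxy⟩ := h.nonabelian
    refine absurd ?_ hxy
    obtain ⟨i, hi⟩ := mem_zpowers_iff.1 (htop ▸ mem_top (⟨x, hx⟩ : (S : Subgroup G)))
    obtain ⟨j, hj⟩ := mem_zpowers_iff.1 (htop ▸ mem_top (⟨y, hy⟩ : (S : Subgroup G)))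
    exact congrArg Subtype.val (show (⟨x, hx⟩ : (S : Subgroup G)) * ⟨y, hy⟩ = ⟨y, hy⟩ * ⟨x, hx⟩ by
      rw [← hi, ← hj, ← zpow_add, ← zpow_add, add_comm])
  intro z hz
  obtain ⟨hz2, hz1⟩ := sq_of_orderOf hz
  set A := (zpowers a).map (S : Subgroup G).subtype with hA
  have hA2 : A.relIndex (S : Subgroup G) = 2 := by
    rw [relIndex, hA, subgroupOf, comap_map_eq_self_of_injective (S : Subgroup G).subtype_injective, hidx]
  obtain ⟨g, hgA, hgS, -⟩ := conj_into h.na S hA2 hz2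
  refine isPGroup_cent_of_conj (g := g) ?_
  obtain ⟨w, hw, hwg⟩ := hgA
  change (w : G) = g⁻¹ * z * g at hwg
  have hw2 : w * w = 1 := Subtype.ext (by
    show (w : G) * w = 1
    rw [hwg, show g⁻¹ * z * g * (g⁻¹ * z * g) = g⁻¹ * (z * z) * g by group, hz2]
    group)
  have hw1 : w ≠ 1 := fun e => hz1 (by
    rw [e] at hwg
    have := congrArg (fun v => g * v * g⁻¹) hwg
    simpa [mul_assoc] using this.symm)
  rw [h.cent_eq (z := g⁻¹ * z * g) (fun e => hw1 (Subtype.ext (hwg.trans e))) fun x hx => ?_]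
  · exact S.2
  · rw [← hwg]
    set y : (S : Subgroup G) := ⟨x, hx⟩
    have e := eq_of_mem_zpowers (han.conj_mem w hw y)
      (by rw [show y * w * y⁻¹ * (y * w * y⁻¹) = y * (w * w) * y⁻¹ by group, hw2]; group)
      (fun e => hw1 (conj_eq_one_iff.1 e)) hw hw2 hw1
    exact congrArg Subtype.val (mul_inv_eq_iff_eq_mul.1 e)

theorem isCIT_of_len : ∀ (n : ℕ) (G : Type u) [Group G] [Finite G] [IsSimpleGroup G], Nat.card G ≤ n →
    ¬ IsMulCommutative G → ∀ (S : Sylow 2 G) (k : ℕ), Nat.card ↥(S : Subgroup G) = 2 ^ k → 4 ≤ k → k ≤ 7 →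
      IsCoatom (S : Subgroup G) → LenLe (⊤ : Subgroup G) 8 → (5 ≤ k → LenLe (⊤ : Subgroup G) (k + 1)) →
        CIT.IsCIT G := by
  intro n
  induction n with
  | zero => intro G _ _ _ hn; exact absurd hn (Nat.not_le.2 Nat.card_pos)
  | succ n ih =>
    intro G _ _ _ hn hna S k hk h4 h7 hS h8 hlen
    exact Ctx.isCIT ⟨hna, hk, h4, h7, hS, h8, hlen, fun L _ _ _ hLna hlt B b =>
      ih L (by omega) hLna B b⟩

end Cfsg.Lib.LenEight
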