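import Cfsg.Agent.Lib.LenEight.AlmostFacts

/-!
# No outer involution centralizes a cyclic subgroup of order four
-/

set_option autoImplicit false
set_option linter.style.haveILetI false

namespace Cfsg.Lib.LenEight

open Subgroup DihedralGroup

universe u

/-- The automorphism `r ↦ r ^ k`, `sr 0 ↦ sr i`. -/
def twist (k i : ZMod 8) : DihedralGroup 8 → DihedralGroup 8
  | r j => r (k * j)
  | sr j => sr (i + k * j)

theorem twist_sq : ∀ k i : ZMod 8, (k = 1 ∨ k = 5) → (i = 0 ∨ i = 4) → ∀ (x : DihedralGroup 8) (l : ZMod 8),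
    twist k i x * x ≠ sr l := by decide +kernel

theorem twist_move : ∀ k i : ZMod 8, (k = 1 ∨ k = 5) → (i = 0 ∨ i = 4) → ¬ (k = 1 ∧ i = 0) →
    ∃ l : ZMod 8, twist k i (sr l) = sr l * r 4 := by decide

theorem sq_ne_sr : ∀ (x : DihedralGroup 8) (l : ZMod 8), x * x ≠ sr l := by decide +kernel

variable {Y : Type u} [Group Y] [Finite Y] {T L : Subgroup Y}

theorem AS.normalizer_self (h : AS T L) : normalizer (T : Set Y) = T :=
  h.normalizer_eq le_rfl (fun e => h.inf_ne_bot (by rw [e, inf_bot_eq])) le_normalizer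

theorem Dih.no_outer (h : AS T L) (D : Dih Y (L ⊓ T)) (hn : D.n = 8) (hi : L.index = 2) {v : Y}
    (hvT : v ∈ T) (hvL : v ∉ L) (hv2 : v * v = 1) (hva : v * D.a = D.a * v) : False := by
  haveI := h.normal
  have hzc := fun {x : Y} (hx : x ∈ T) => D.z_central h hx
  have hmove := D.exists_move h
  have hCz := D.cent_z h
  have hnorm := fun (l : ZMod D.n) {y : Y} => D.mem_normalizer_F (i := l) (y := y)
  obtain ⟨n, cases, φ, inj, range, Z, A, facts⟩ := D
  obtain rfl : n = 8 := hn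
  have hZ : Z = r 4 := (by decide : ∀ Z : DihedralGroup 8, Z ≠ 1 → (∀ x, x * Z = Z * x) → Z = r 4)
    Z facts.z_ne facts.z_comm
  subst hZ
  have hmem : ∀ x, φ x ∈ L ⊓ T := fun x => (SetLike.ext_iff.1 range _).1 ⟨x, rfl⟩
  have hex : ∀ {y}, y ∈ L ⊓ T → ∃ x, φ x = y := fun {y} hy => (SetLike.ext_iff.1 range y).2 hy
  have hsr : ∀ l, φ (sr l) * φ (sr l) = 1 := fun l => by rw [← map_mul, sr_mul_self, map_one]
  have hz2 : φ (r 4) * φ (r 4) = 1 := by rw [← map_mul, facts.z_sq, map_one]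
  -- the action of `v`
  have hvc : ∀ x, ∃ x', φ x' = v * φ x * v⁻¹ := fun x => hex
    ⟨h.normal.conj_mem _ (hmem x).1 v, T.mul_mem (T.mul_mem hvT (hmem x).2) (T.inv_mem hvT)⟩
  have hA : A = r 2 ∨ A = r 6 :=
    (by decide +kernel : ∀ x : DihedralGroup 8, x * x = r 4 → x = r 2 ∨ x = r 6) A facts.a_sq
  have hva2 : v * φ (r 2) = φ (r 2) * v := by
    rcases hA with e | e
    · subst e; exact hva
    · subst e
      have h6 : φ (r 6) = (φ (r 2))⁻¹ := by rw [← map_inv]; congr 1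
      have hc : Commute v ((φ (r 2))⁻¹) := h6 ▸ hva
      exact Commute.inv_right_iff.1 hc
  obtain ⟨w, hw⟩ := hvc (r 1)
  obtain ⟨w', hw'⟩ := hvc (sr 0)
  have hw2 : w * w = r 2 := inj (by
    rw [map_mul, hw]
    calc v * φ (r 1) * v⁻¹ * (v * φ (r 1) * v⁻¹) = v * (φ (r 1) * φ (r 1)) * v⁻¹ := by group
      _ = φ (r 2) := by rw [← map_mul, show (r 1 * r 1 : DihedralGroup 8) = r 2 by decide, hva2]; group)
  obtain ⟨k, hk, rfl⟩ : ∃ k : ZMod 8, (k = 1 ∨ k = 5) ∧ w = r k := by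
    rcases (by decide +kernel : ∀ x : DihedralGroup 8, x * x = r 2 → x = r 1 ∨ x = r 5) w hw2 with e | e
    · exact ⟨1, Or.inl rfl, e⟩
    · exact ⟨5, Or.inr rfl, e⟩
  obtain ⟨i, rfl⟩ : ∃ i, w' = sr i := by
    have hw'2 : w' * w' = 1 := inj (by
      rw [map_mul, hw', map_one,
        show v * φ (sr 0) * v⁻¹ * (v * φ (sr 0) * v⁻¹) = v * (φ (sr 0) * φ (sr 0)) * v⁻¹ by group,
        hsr]
      group)
    rcases facts.inv_cases w' hw'2 with rfl | rfl | e
    · exfalso
      rw [map_one] at hw'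
      exact absurd (inj ((conj_eq_one_iff.1 hw'.symm).trans (map_one φ).symm)) (by decide)
    · exfalso
      have e : φ (r 4) = v * φ (sr 0) * v⁻¹ := hw'
      have e2 : v * φ (r 4) * v⁻¹ = φ (r 4) := mul_inv_eq_iff_eq_mul.2 (hzc hvT)
      exact absurd (inj (mul_left_cancel (mul_right_cancel (e2.trans e)))) (by decide)
    · exact e
  have hconj : ∀ x, v * φ x * v⁻¹ = φ (twist k i x) := by
    have hr : ∀ j : ZMod 8, v * φ (r j) * v⁻¹ = φ (r (k * j)) := fun j => by
      have e1 : (r j : DihedralGroup 8) = r 1 ^ j.val := by rw [r_one_pow, ZMod.natCast_zmod_val]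
      have e2 : (r (k * j) : DihedralGroup 8) = r k ^ j.val := by rw [r_pow, ZMod.natCast_zmod_val]
      rw [e1, e2, map_pow, map_pow, ← conj_pow, hw]
    rintro (j | j)
    · exact hr j
    · have e1 : (sr j : DihedralGroup 8) = sr 0 * r j := by rw [sr_mul_r, zero_add]
      have e2 : twist k i (sr j) = sr i * r (k * j) := by rw [sr_mul_r]; rfl
      rw [e2, map_mul, hw', ← hr j, e1, map_mul]
      group
  have hi4 : i = 0 ∨ i = 4 := by
    refine (by decide : ∀ k i : ZMod 8, (k = 1 ∨ k = 5) → i + k * i = 0 → i = 0 ∨ i = 4) k i hk ?_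
    have e : φ (twist k i (sr i)) = φ (sr 0) := by
      rw [← hconj, hw']
      calc v * (v * φ (sr 0) * v⁻¹) * v⁻¹ = (v * v) * φ (sr 0) * (v * v)⁻¹ := by group
        _ = φ (sr 0) := by rw [hv2]; group
    exact DihedralGroup.sr.inj (inj e)
  -- no element of `T` squares to a reflection
  have hsq : ∀ t ∈ T, ∀ l : ZMod 8, t * t ≠ φ (sr l) := by
    intro t ht l e
    by_cases htL : t ∈ L
    · obtain ⟨x, rfl⟩ := hex ⟨htL, ht⟩
      rw [← map_mul] at e
      exact sq_ne_sr x l (inj e)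
    · have hvtL : v * t ∈ L := (mul_mem_iff_of_index_two hi).2 (iff_of_false hvL htL)
      obtain ⟨x, hx⟩ := hex ⟨hvtL, T.mul_mem hvT ht⟩
      have ht' : t = v * φ x := by rw [hx, ← mul_assoc, hv2, one_mul]
      have hee : t * t = φ (twist k i x * x) := by
        rw [map_mul, ← hconj, ht', inv_self hv2]
        group
      exact twist_sq k i hk hi4 x l (inj (hee.symm.trans e))
  by_cases hcen : k = 1 ∧ i = 0
  · -- `v` is central in `T`
    obtain ⟨rfl, rfl⟩ := hcen
    have hvall : ∀ x, v * φ x = φ x * v := fun x => by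
      have e := hconj x
      rw [show twist 1 0 x = x by cases x <;> simp [twist]] at e
      exact mul_inv_eq_iff_eq_mul.1 e
    have hvT' : ∀ t ∈ T, t * v = v * t := by
      intro t ht
      by_cases htL : t ∈ L
      · obtain ⟨x, rfl⟩ := hex ⟨htL, ht⟩
        exact (hvall x).symm
      · have hvtL : v * t ∈ L := (mul_mem_iff_of_index_two hi).2 (iff_of_false hvL htL)
        obtain ⟨x, hx⟩ := hex ⟨hvtL, T.mul_mem hvT ht⟩
        have ht' : t = v * φ x := by rw [hx, ← mul_assoc, hv2, one_mul]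
        rw [ht', mul_assoc, ← hvall x, ← mul_assoc]
    have hv1 : v ≠ 1 := fun e => hvL (e ▸ L.one_mem)
    have hCv : centralizer ({v} : Set Y) = T := h.cent_eq hvT hv1 hvT'
    have hvz1 : v * φ (r 4) ≠ 1 := fun e => hvL (by
      rw [← inv_eq_of_mul_eq_one_left e]; exact L.inv_mem (hmem _).1)
    have hzv : φ (r 4) * v = v * φ (r 4) := (hvall _).symm
    have hCvz : centralizer ({v * φ (r 4)} : Set Y) = T := by
      refine h.cent_eq (T.mul_mem hvT (hmem _).2) hvz1 fun t ht => ?_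
      have e2 : t * φ (r 4) = φ (r 4) * t := hzc ht
      rw [← mul_assoc, hvT' t ht, mul_assoc, e2, mul_assoc]
    obtain ⟨y, -, hyn, hy⟩ := hmove (0 : ZMod 8)
    change y * φ (r 4) * y⁻¹ = φ (sr 0) at hy
    -- `y` maps one of `v, v z` to one of `v, v z`
    have hfix : ∃ a b : Y, centralizer ({a} : Set Y) = T ∧ centralizer ({b} : Set Y) = T ∧
        y * a * y⁻¹ = b := by
      have hvF : ∀ u : Y, (u = 1 ∨ u = φ (r 4) ∨ u = φ (sr 0) ∨ u = φ (sr 0) * φ (r 4)) → v * u = u * v := by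
        rintro u (rfl | rfl | rfl | rfl)
        · rw [mul_one, one_mul]
        · exact hvall _
        · exact hvall _
        · rw [← map_mul]; exact hvall _
      have hcommF : ∀ u : Y, (u = φ (r 4) ∨ u = φ (sr 0)) → y * v * y⁻¹ * u = u * (y * v * y⁻¹) := by
        intro u hu
        have hu' : y⁻¹ * u * y = 1 ∨ y⁻¹ * u * y = φ (r 4) ∨ y⁻¹ * u * y = φ (sr 0) ∨
            y⁻¹ * u * y = φ (sr 0) * φ (r 4) := by
          refine (mem_normalizer_iff''.1 hyn u).1 ?_
          rcases hu with rfl | rfl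
          · exact Or.inr (Or.inl rfl)
          · exact Or.inr (Or.inr (Or.inl rfl))
        calc y * v * y⁻¹ * u = y * (v * (y⁻¹ * u * y)) * y⁻¹ := by group
          _ = y * ((y⁻¹ * u * y) * v) * y⁻¹ := by rw [hvF _ hu']
          _ = u * (y * v * y⁻¹) := by group
      have hv'T : y * v * y⁻¹ ∈ T := hCz ▸ mem_cent.2 (hcommF _ (Or.inl rfl))
      have hv'L : y * v * y⁻¹ ∉ L := fun e => hvL (by
        simpa [mul_assoc] using h.normal.conj_mem _ e y⁻¹)
      obtain ⟨x, hx⟩ := hex ⟨(mul_mem_iff_of_index_two hi).2 (iff_of_false hvL hv'L), T.mul_mem hvT hv'T⟩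
      have hv' : y * v * y⁻¹ = v * φ x := by rw [hx, ← mul_assoc, hv2, one_mul]
      have hxc : x * sr 0 = sr 0 * x := inj (by
        have e := hcommF _ (Or.inr rfl)
        rw [hv', mul_assoc, ← mul_assoc (φ (sr 0)), ← hvall (sr 0), mul_assoc v] at e
        rw [map_mul, map_mul]
        exact mul_left_cancel e)
      have hvz : y * (v * φ (r 4)) * y⁻¹ = y * v * y⁻¹ * φ (sr 0) := by rw [← hy]; group
      rcases facts.cent_sr 0 x hxc with rfl | rfl | rfl | rfl
      · exact ⟨v, v, hCv, hCv, by rw [hv', map_one, mul_one]⟩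
      · exact ⟨v, _, hCv, hCvz, hv'⟩
      · exact ⟨_, v, hCvz, hCv, by rw [hvz, hv', mul_assoc, hsr, mul_one]⟩
      · refine ⟨_, _, hCvz, hCvz, ?_⟩
        rw [hvz, hv', map_mul, mul_assoc, mul_assoc (φ (sr 0)), ← map_mul, ← facts.z_comm (sr 0), map_mul,
          ← mul_assoc (φ (sr 0)), hsr, one_mul]
    obtain ⟨a, b, ha, hb, hab⟩ := hfix
    have hyT : y ∈ T := by
      rw [← h.normalizer_self]
      refine Core.mem_normalizer_iff_map_conj.2 (eq_of_le_of_card_ge ?_ (le_of_eq ?_))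
      · rintro _ ⟨x, hx, rfl⟩
        rw [← hb, ← hab]
        exact conj_mem_cent (ha ▸ hx)
      · rw [card_map_of_injective (f := (MulAut.conj y).toMonoidHom) (MulAut.conj y).injective]
    have hy2 : y * φ (r 4) * y⁻¹ = φ (r 4) := mul_inv_eq_iff_eq_mul.2 (hzc hyT)
    exact absurd (inj (hy.symm.trans hy2)) (by decide)
  · -- some reflection is moved, and `v a` squares to `z`
    obtain ⟨l, hl⟩ := twist_move k i hk hi4 hcen
    obtain ⟨y, -, hyn, hy⟩ := hmove l
    change y * φ (r 4) * y⁻¹ = φ (sr l) at hy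
    set e := v * φ (r 2) with he
    have he2 : e * e = φ (r 4) := by
      rw [he, show v * φ (r 2) * (v * φ (r 2)) = v * (φ (r 2) * v) * φ (r 2) by group, ← hva2,
        ← mul_assoc, hv2, one_mul, ← map_mul]
      congr 1
    have hez : e * φ (r 4) = φ (r 4) * e := hzc (T.mul_mem hvT (hmem _).2)
    have hes : e * φ (sr l) = φ (sr l) * e := by
      rw [← mul_inv_eq_iff_eq_mul, he]
      calc v * φ (r 2) * φ (sr l) * (v * φ (r 2))⁻¹ = v * φ (r 2 * sr l * (r 2)⁻¹) * v⁻¹ := by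
            rw [map_mul, map_mul, map_inv]; group
        _ = φ (twist k i (r 2 * sr l * (r 2)⁻¹)) := hconj _
        _ = φ (sr l) := by
          congr 1
          exact (by decide +kernel : ∀ (k i l : ZMod 8), (k = 1 ∨ k = 5) → (i = 0 ∨ i = 4) →
            twist k i (sr l) = sr l * r 4 → twist k i (r 2 * sr l * (r 2)⁻¹) = sr l) k i l hk hi4 hl
    have hu : y⁻¹ * φ (r 4) * y = 1 ∨ y⁻¹ * φ (r 4) * y = φ (r 4) ∨ y⁻¹ * φ (r 4) * y = φ (sr l) ∨
        y⁻¹ * φ (r 4) * y = φ (sr l) * φ (r 4) :=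
      (mem_normalizer_iff''.1 hyn _).1 (Or.inr (Or.inl rfl))
    have hce : e * (y⁻¹ * φ (r 4) * y) = (y⁻¹ * φ (r 4) * y) * e := by
      rcases hu with r | r | r | r <;> rw [r]
      · rw [mul_one, one_mul]
      · exact hez
      · exact hes
      · rw [← mul_assoc, hes, mul_assoc, hez, mul_assoc]
    have hT' : y * e * y⁻¹ ∈ T := by
      rw [← hCz]
      refine mem_cent.2 ?_
      show y * e * y⁻¹ * φ (r 4) = φ (r 4) * (y * e * y⁻¹)
      calc y * e * y⁻¹ * φ (r 4) = y * (e * (y⁻¹ * φ (r 4) * y)) * y⁻¹ := by group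
        _ = y * ((y⁻¹ * φ (r 4) * y) * e) * y⁻¹ := by rw [hce]
        _ = φ (r 4) * (y * e * y⁻¹) := by group
    refine hsq _ hT' l ?_
    rw [← hy, ← he2]
    group

/-- An involution of `T` commuting with `a` is trivial or central. -/
theorem Dih.cent_a (h : AS T L) (D : Dih Y (L ⊓ T)) (hcase : L.index = 1 ∨ (D.n = 8 ∧ L.index = 2))
    {σ : Y} (hσ : σ ∈ T) (h2 : σ * σ = 1) (hc : σ * D.a = D.a * σ) : σ = 1 ∨ σ = D.z := by
  by_cases hL : σ ∈ L
  · exact D.inv_a ⟨hL, hσ⟩ h2 hc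
  rcases hcase with h1 | ⟨h8, hi⟩
  · exact absurd (index_eq_one.1 h1 ▸ mem_top σ) hL
  · exact (D.no_outer h h8 hi hσ hL h2 hc).elim

end Cfsg.Lib.LenEight
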