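import Cfsg.Agent.Lib.LenEight.Residue
import Cfsg.Agent.Lib.Local.SThreePair.Dihedral

/-!
# A constrained group with a maximal Sylow 2-subgroup and no pushing-up has order 24 or 48
-/

set_option autoImplicit false
set_option linter.style.haveILetI false

namespace Cfsg.Lib.LenEight

open Subgroup Cfsg Cfsg.Lib Cfsg.Lib.Local Cfsg.Lib.Local.SThreePair

universe u

variable {G : Type u} [Group G]

/-- A non-2-group `X` with maximal 2-subgroup `T` and `u ∈ N(T)` pushing nothing up. -/
structure Cfg (X T : Subgroup G) (u : G) : Prop where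
  le : T ≤ X
  isPGroup : IsPGroup 2 T
  not_two : ¬ IsPGroup 2 X
  maximal : ∀ Z : Subgroup G, T < Z → Z ≤ X → Z = X
  normalizes : u ∈ normalizer (T : Set G)
  sq : u * u ∈ T
  hno : ∀ N : Subgroup G, N ≤ T → X ≤ normalizer (N : Set G) → u ∈ normalizer (N : Set G) → N = ⊥
  len : LenLe X 7
  card_le : Nat.card T ≤ 64

theorem pCoreOf_mem {X : Subgroup G} {x : X} : (x : G) ∈ pCoreOf 2 X ↔ x ∈ Cfsg.pCore 2 X :=
  ⟨fun ⟨_, hy, e⟩ => Subtype.ext e ▸ hy, fun h => ⟨x, h, rfl⟩⟩

namespace Cfg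

variable {X T : Subgroup G} {u : G} (h : Cfg X T u)
include h

theorem coatom : IsCoatom (T.subgroupOf X) := by
  refine ⟨fun e => ?_, fun M hM => ?_⟩
  · exact h.not_two (h.isPGroup.to_le (subgroupOf_eq_top.1 e))
  · have hle : T ≤ M.map X.subtype := by
      conv_lhs => rw [← map_subgroupOf_eq_of_le h.le]
      exact map_mono hM.le
    rcases eq_or_lt_of_le hle with e | e
    · exfalso
      refine hM.ne ?_
      rw [subgroupOf, e, comap_map_eq_self_of_injective X.subtype_injective]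
    · have h' := h.maximal _ e (map_subtype_le M)
      refine eq_top_iff.2 fun x _ => ?_
      obtain ⟨y, hy, e'⟩ := (h'.symm ▸ x.2 : (x : G) ∈ M.map X.subtype)
      exact Subtype.ext e' ▸ hy

theorem isPGroup' : IsPGroup 2 ↥(T.subgroupOf X) := h.isPGroup.comap_subtype

theorem not_two' : ¬ IsPGroup 2 ↥X := h.not_two

theorem card_sub : Nat.card ↥(T.subgroupOf X) = Nat.card T :=
  Nat.card_congr (subgroupOfEquivOfLe h.le).toEquiv

omit h in
theorem card_core (X : Subgroup G) : Nat.card ↥(pCoreOf 2 X) = Nat.card ↥(Cfsg.pCore 2 X) :=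
  card_map_of_injective X.subtype_injective

omit h in
theorem le_normalizer_core (X : Subgroup G) : X ≤ normalizer (pCoreOf 2 X : Set G) := by
  refine Core.le_normalizer_iff_conj_mem.mpr ?_
  rintro x hx _ ⟨y, hy, rfl⟩
  exact ⟨⟨x, hx⟩ * y * ⟨x, hx⟩⁻¹, (inferInstance : (pCore 2 ↥X).Normal).conj_mem y hy _, rfl⟩

variable [Finite G]

theorem core_le : pCoreOf 2 X ≤ T := by
  rintro _ ⟨y, hy, rfl⟩
  exact pCore_le h.isPGroup' h.coatom h.not_two' hy

theorem core_ne (hcons : centralizer (pCore 2 X : Set X) ≤ pCore 2 X) : pCoreOf 2 X ≠ T := by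
  intro e
  have hb := h.hno _ h.core_le (le_normalizer_core X) (e.symm ▸ h.normalizes)
  have hb' : pCore 2 ↥X = ⊥ := by
    rw [← map_eq_bot_iff_of_injective _ X.subtype_injective]; exact hb
  refine h.not_two' fun x => ?_
  have hx : x ∈ pCore 2 ↥X := hcons (mem_centralizer_iff.2 fun y hy => by
    rw [hb'] at hy
    rw [mem_bot.1 hy, one_mul, mul_one])
  rw [hb', mem_bot] at hx
  exact ⟨0, by rw [pow_zero, pow_one, hx]⟩

/-- `T` has a central involution not central in `X`. -/
theorem exists_noncentral (hcons : centralizer (pCore 2 X : Set X) ≤ pCore 2 X) :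
    ∃ v : X, v ∈ T.subgroupOf X ∧ v * v = 1 ∧ (∀ t ∈ T.subgroupOf X, t * v = v * t) ∧ v ∉ center X := by
  by_contra hne
  push Not at hne
  let W : Subgroup G :=
    { carrier := {w | w ∈ T ∧ w * w = 1 ∧ ∀ t ∈ T, t * w = w * t}
      one_mem' := ⟨one_mem _, one_mul 1, fun q _ => by rw [mul_one, one_mul]⟩
      mul_mem' := by
        rintro a b ⟨ha, ha2, hac⟩ ⟨hb, hb2, hbc⟩
        refine ⟨mul_mem ha hb, ?_, fun q hq => ?_⟩
        · rw [mul_assoc, ← mul_assoc b, hac b hb, mul_assoc, hb2, mul_one, ha2]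
        · rw [← mul_assoc, hac q hq, mul_assoc, hbc q hq, mul_assoc]
      inv_mem' := by
        rintro a ⟨ha, ha2, hac⟩
        rw [inv_self ha2]
        exact ⟨ha, ha2, hac⟩ }
  have hW : W = ⊥ := by
    refine h.hno W (fun w hw => hw.1) ?_ ?_
    · refine Core.le_normalizer_iff_conj_mem.mpr ?_
      rintro x hx w ⟨hwT, hw2, hwc⟩
      have hc := hne ⟨w, h.le hwT⟩ (mem_subgroupOf.2 hwT) (Subtype.ext hw2)
        (fun t ht => Subtype.ext (hwc t (mem_subgroupOf.1 ht)))
      have e : x * w = w * x := congrArg Subtype.val (mem_center_iff.1 hc ⟨x, hx⟩)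
      rw [e, mul_assoc, mul_inv_cancel, mul_one]
      exact ⟨hwT, hw2, hwc⟩
    · have key : ∀ g ∈ normalizer (T : Set G), ∀ w ∈ W, g * w * g⁻¹ ∈ W := by
        rintro g hg w ⟨hwT, hw2, hwc⟩
        refine ⟨(mem_normalizer_iff.1 hg w).1 hwT, ?_, fun t ht => ?_⟩
        · rw [show g * w * g⁻¹ * (g * w * g⁻¹) = g * (w * w) * g⁻¹ by group, hw2]
          group
        · have h1 := hwc _ ((mem_normalizer_iff''.1 hg t).1 ht)
          calc t * (g * w * g⁻¹) = g * (g⁻¹ * t * g * w) * g⁻¹ := by group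
            _ = g * (w * (g⁻¹ * t * g)) * g⁻¹ := by rw [h1]
            _ = g * w * g⁻¹ * t := by group
      refine mem_normalizer_iff.2 fun w => ⟨key u h.normalizes w, fun hw => ?_⟩
      have := key u⁻¹ (inv_mem h.normalizes) _ hw
      simpa [mul_assoc] using this
  obtain ⟨e, heT, he2, he1, hec⟩ := exists_fixed_involution h.isPGroup le_rfl (fun eb => h.core_ne hcons
    (le_antisymm h.core_le (eb ▸ bot_le))) le_normalizer
  have : e ∈ W := ⟨heT, he2, hec⟩
  rw [hW, mem_bot] at this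
  exact he1 this

theorem card_data (hcons : centralizer (pCore 2 X : Set X) ≤ pCore 2 X) :
    ∃ p : ℕ, p.Prime ∧ p ≠ 2 ∧ Nat.card X = p * Nat.card T ∧ Nat.card T = 2 * Nat.card ↥(pCoreOf 2 X) := by
  obtain ⟨v, hvT, hv2, hvc, hvz⟩ := h.exists_noncentral hcons
  have hTQ : T.subgroupOf X ≠ pCore 2 ↥X := fun e => h.core_ne hcons (by
    rw [pCoreOf, ← e, map_subgroupOf_eq_of_le h.le])
  rcases residue h.isPGroup' h.coatom h.not_two' hcons hvT hvc hvz hv2 hTQ h.len.subtype with
    ⟨p, hp, hp2, h1, h2⟩ | ⟨h16, hel, huniq⟩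
  · exact ⟨p, hp, hp2, by rw [h1, h.card_sub], by rw [← h.card_sub, h2, card_core]⟩
  · exfalso
    have hun : u ∈ normalizer (pCoreOf 2 X : Set G) := by
      refine Core.mem_normalizer_iff_map_conj.2 ?_
      set A := (pCoreOf 2 X).map (MulAut.conj u).toMonoidHom with hA
      have hAT : A ≤ T := by
        rw [← Core.map_conj_eq_of_mem_normalizer h.normalizes]
        exact map_mono h.core_le
      have hAc : Nat.card A = 16 := by
        rw [hA, card_map_of_injective (f := (MulAut.conj u).toMonoidHom) (MulAut.conj u).injective, card_core,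
          h16]
      have hAe : ∀ a ∈ A, a * a = 1 := by
        rintro _ ⟨w, hw, rfl⟩
        obtain ⟨y, hy, rfl⟩ := hw
        rw [← map_mul, show (X.subtype y * X.subtype y) = 1 by rw [← map_mul, hel y hy, map_one], map_one]
      have := huniq (A.subgroupOf X) (comap_mono hAT)
        (by rw [Nat.card_congr (subgroupOfEquivOfLe (hAT.trans h.le)).toEquiv, hAc])
        (fun a ha => Subtype.ext (hAe _ (mem_subgroupOf.1 ha)))
      rw [← map_subgroupOf_eq_of_le (hAT.trans h.le), this]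
      rfl
    have hb := h.hno _ h.core_le (le_normalizer_core X) hun
    have := card_core X
    rw [hb, card_bot, h16] at this
    omega

/-- The two cases of a pair with residue of order six. -/
theorem push (hcons : centralizer (pCore 2 X : Set X) ≤ pCore 2 X) :
    Nat.card X = 3 * Nat.card T ∧
      (Nat.card T = 8 ∧ Nat.card ↥(pCoreOf 2 X) = 4 ∨ Nat.card T = 16 ∧ Nat.card ↥(pCoreOf 2 X) = 8) ∧
      ∀ x ∈ pCoreOf 2 X, x * x = 1 := by
  classical
  haveI : Fact (Nat.Prime 2) := ⟨Nat.prime_two⟩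
  obtain ⟨p, hp, hp2, hXc, hTc⟩ := h.card_data hcons
  have hchar' : X ⊓ centralizer (pCoreOf 2 X : Set G) ≤ pCoreOf 2 X := fun x hx =>
    ⟨⟨x, hx.1⟩, hcons (mem_centralizer_iff.2 fun y hy => Subtype.ext
      (mem_centralizer_iff.1 hx.2 y (mem_map_of_mem _ hy))), rfl⟩
  obtain ⟨v, hvT, hv2, hvc, hvz⟩ := h.exists_noncentral hcons
  have hnc : ¬ X ≤ centralizer (omegaOne 2 (T ⊓ centralizer (T : Set G)) : Set G) := by
    intro hc
    refine hvz (mem_center_iff.2 fun x => Subtype.ext ?_)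
    have hmem : (v : G) ∈ omegaOne 2 (T ⊓ centralizer (T : Set G)) :=
      subset_closure ⟨⟨mem_subgroupOf.1 hvT, mem_centralizer_iff.2 fun t ht =>
        congrArg Subtype.val (hvc ⟨t, h.le ht⟩ (mem_subgroupOf.2 ht))⟩, by
        rw [pow_two]; exact congrArg Subtype.val hv2⟩
    exact (mem_centralizer_iff.1 (hc x.2) _ hmem).symm
  obtain rfl := residue_eq_three X T h.le h.isPGroup hp hp2 hXc hTc hchar' hnc h.normalizes h.hno
  set c := MulAut.conj u
  set X' := X.map c.toMonoidHom with hX'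
  have hgT := Core.map_conj_eq_of_mem_normalizer h.normalizes
  have hT' : T ≤ X' := by rw [← hgT]; exact map_mono h.le
  have hcX' : Nat.card X' = Nat.card X := card_map_equiv c X
  have hne : X' ≠ X := fun e => by
    have hun : u ∈ normalizer (pCoreOf 2 X : Set G) := by
      refine Core.mem_normalizer_iff_map_conj.2 ?_
      rw [← pCoreOf_map, ← hX', e]
    have hb := h.hno _ h.core_le (le_normalizer_core X) hun
    have hpos := Nat.card_pos (α := T)
    rw [hb, card_bot] at hTc
    have hb' : pCore 2 ↥X = ⊥ := by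
      rw [← map_eq_bot_iff_of_injective _ X.subtype_injective]; exact hb
    refine h.not_two' fun x => ?_
    have hx : x ∈ pCore 2 ↥X := hcons (mem_centralizer_iff.2 fun y hy => by
      rw [hb'] at hy
      rw [mem_bot.1 hy, one_mul, mul_one])
    rw [hb', mem_bot] at hx
    exact ⟨0, by rw [pow_zero, pow_one, hx]⟩
  have hinf : X ⊓ X' = T := by
    rcases eq_or_lt_of_le (le_inf h.le hT') with e | e
    · exact e.symm
    · exfalso
      have h3 : X ⊓ X' = X := h.maximal _ e inf_le_left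
      exact hne (eq_of_le_of_card_ge (inf_eq_left.mp h3) (le_of_eq hcX')).symm
  -- the amalgam inside the group generated by the two sides
  set Y := X ⊔ X' with hY
  have hXY : X ≤ Y := le_sup_left
  have hX'Y : X' ≤ Y := le_sup_right
  set M₁ := X.subgroupOf Y
  set M₂ := X'.subgroupOf Y
  let e₁ : ↥M₁ ≃* ↥X := subgroupOfEquivOfLe hXY
  let e₂ : ↥M₂ ≃* ↥X' := subgroupOfEquivOfLe hX'Y
  have hinfY : M₁ ⊓ M₂ = T.subgroupOf Y := by rw [← hinf]; exact (comap_inf X X' Y.subtype).symm
  have hTY : T ≤ Y := h.le.trans hXY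
  have hTYc : Nat.card ↥(T.subgroupOf Y) = Nat.card T := Nat.card_congr (subgroupOfEquivOfLe hTY).toEquiv
  have hTYp : IsPGroup 2 ↥(T.subgroupOf Y) := h.isPGroup.comap_subtype
  have hcore : ∀ (M : Subgroup G) (hM : M ≤ Y),
      Nat.card ↥(pCoreOf 2 (M.subgroupOf Y)) = Nat.card ↥(pCoreOf 2 M) := fun M hM => by
    rw [card_core, card_core, ← Core.map_pCore_equiv (subgroupOfEquivOfLe hM),
      card_map_of_injective (f := (subgroupOfEquivOfLe hM).toMonoidHom) (subgroupOfEquivOfLe hM).injective]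
  obtain ⟨w, hwT, hwmem⟩ : ∃ w : G, w ∈ T ∧ (w : G) = v := ⟨v, mem_subgroupOf.1 hvT, rfl⟩
  have hside : ∀ (M : Subgroup G) (hM : M ≤ Y), T ≤ M → Nat.card M = Nat.card X →
      Nat.card ↥(pCoreOf 2 M) = Nat.card ↥(pCoreOf 2 X) →
      ¬ M ≤ centralizer (omegaOne 2 (T ⊓ centralizer (T : Set G)) : Set G) →
      Side (M.subgroupOf Y) (T.subgroupOf Y) := by
    intro M hM hTM hcM hcQ hncM
    refine ⟨comap_mono hTM, ?_, ?_, fun hcc => hncM fun m hm => mem_centralizer_iff.2 fun z hz => ?_⟩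
    · rw [Nat.card_congr (subgroupOfEquivOfLe hM).toEquiv, hTYc, hcM, hXc]
    · rw [hTYc, hcore M hM, hcQ, hTc]
    · have hle : omegaOne 2 (T ⊓ centralizer (T : Set G)) ≤
          (omegaOne 2 (T.subgroupOf Y ⊓ centralizer (T.subgroupOf Y : Set Y))).map Y.subtype := by
        refine (closure_le _).2 fun y hy => ?_
        refine ⟨⟨y, hTY hy.1.1⟩, subset_closure ⟨⟨mem_subgroupOf.2 hy.1.1, mem_centralizer_iff.2 fun t ht =>
          Subtype.ext (mem_centralizer_iff.1 hy.1.2 (t : G) (mem_subgroupOf.1 ht))⟩, Subtype.ext hy.2⟩, rfl⟩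
      obtain ⟨z', hz', rfl⟩ := hle hz
      exact congrArg Subtype.val (mem_centralizer_iff.1 (hcc (show (⟨m, hM hm⟩ : Y) ∈ M.subgroupOf Y from
        mem_subgroupOf.2 hm)) z' hz')
  have hncX' : ¬ X' ≤ centralizer (omegaOne 2 (T ⊓ centralizer (T : Set G)) : Set G) := by
    intro hc
    apply hnc
    intro x hx
    refine mem_centralizer_iff.2 fun z hz => c.injective ?_
    rw [map_mul, map_mul]
    refine mem_centralizer_iff.1 (hc (mem_map_of_mem _ hx)) (c z) ?_
    have := mem_map_of_mem c.toMonoidHom hz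
    rwa [omegaCenter_map, hgT] at this
  have s₁ : Side M₁ (T.subgroupOf Y) := hside X hXY h.le rfl rfl hnc
  have s₂ : Side M₂ (T.subgroupOf Y) := hside X' hX'Y hT' hcX'
    (by rw [hX', pCoreOf_map, card_map_equiv]) hncX'
  obtain ⟨i, hi⟩ := IsPGroup.iff_card.1 h.isPGroup
  have fac : ∀ M : Subgroup Y, Side M (T.subgroupOf Y) → (Nat.card M).factorization 2 = i := fun M s => by
    rw [s.card_M, hTYc, hi, Nat.factorization_mul (by norm_num) (by positivity),
      Nat.Prime.factorization Nat.prime_three, Nat.Prime.factorization_pow Nat.prime_two]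
    simp
  have two_dvd : ∀ M : Subgroup Y, Side M (T.subgroupOf Y) → 2 ∣ Nat.card M := fun M s =>
    ⟨3 * Nat.card (pCoreOf 2 M), by rw [s.card_M, s.card_T]; ring⟩
  have hcen : ∀ {M : Subgroup Y} (ε : ↥X ≃* ↥M),
      Subgroup.centralizer (pCore 2 ↥M : Set ↥M) ≤ pCore 2 ↥M := by
    intro M ε x hx
    rw [← Core.map_pCore_equiv ε] at hx ⊢
    refine ⟨ε.symm x, hcons (mem_centralizer_iff.mpr fun y hy => ε.injective ?_), ε.apply_symm_apply x⟩
    rw [map_mul, map_mul, MulEquiv.apply_symm_apply]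
    exact mem_centralizer_iff.mp hx _ ⟨y, hy, rfl⟩
  have hpair : Cfsg.IsCharPAmalgamPair 2 M₁ M₂ := by
    refine ⟨⟨?_, fun e => ?_, fun e => ?_, fun N hN hn => ?_⟩, inferInstance, inferInstance,
      two_dvd M₁ s₁, two_dvd M₂ s₂, fun A B C => ?_, hcen e₁.symm,
      hcen ((c.subgroupMap X).trans e₂.symm)⟩
    · rw [← subgroupOf_sup hXY hX'Y, subgroupOf_self]
    · exact hne (eq_of_le_of_card_ge ((le_sup_right).trans (subgroupOf_eq_top.1 e)) (le_of_eq hcX'.symm))
    · exact hne (eq_of_le_of_card_ge ((le_sup_left).trans (subgroupOf_eq_top.1 e)) (le_of_eq hcX')).symm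
    · set N0 := N.map Y.subtype with hN0
      have hN0T : N0 ≤ T := by
        intro y hy
        obtain ⟨y', hy', rfl⟩ := hy
        have := hN hy'
        rw [hinfY] at this
        exact mem_subgroupOf.1 this
      have hYn : Y ≤ normalizer (N0 : Set G) := by
        refine Core.le_normalizer_iff_conj_mem.mpr ?_
        rintro y hy _ ⟨z, hz, rfl⟩
        exact ⟨⟨y, hy⟩ * z * ⟨y, hy⟩⁻¹, hn.conj_mem z hz _, rfl⟩
      set N1 := N0.map c.toMonoidHom with hN1
      have huu : (N0.map c.toMonoidHom).map c.toMonoidHom = N0 := by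
        rw [map_map, show c.toMonoidHom.comp c.toMonoidHom = (MulAut.conj (u * u)).toMonoidHom by
          ext y; simp [c, mul_assoc]]
        exact Core.map_conj_eq_of_mem_normalizer (hYn (hTY h.sq))
      have hXn1 : X ≤ normalizer (N1 : Set G) := by
        have hX'' : X = X'.map c.toMonoidHom := by
          rw [hX', map_map, show c.toMonoidHom.comp c.toMonoidHom = (MulAut.conj (u * u)).toMonoidHom by
            ext y; simp [c, mul_assoc]]
          exact (Core.map_conj_eq_of_mem_normalizer (le_normalizer (h.le h.sq))).symm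
        rw [hX'']
        exact (map_mono (hX'Y.trans hYn)).trans (le_normalizer_map _)
      have hbot : N0 ⊔ N1 = ⊥ := by
        refine h.hno _ (sup_le hN0T ?_) ?_ ?_
        · rw [hN1, ← hgT]; exact map_mono hN0T
        · intro x hx
          refine Core.mem_normalizer_iff_map_conj.2 ?_
          rw [Subgroup.map_sup, Core.map_conj_eq_of_mem_normalizer (hXY.trans hYn hx),
            Core.map_conj_eq_of_mem_normalizer (hXn1 hx)]
        · refine Core.mem_normalizer_iff_map_conj.2 ?_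
          rw [Subgroup.map_sup, huu, ← hN1, sup_comm]
      have hb : N0 = ⊥ := le_bot_iff.1 (hbot ▸ le_sup_left)
      rwa [hN0, map_eq_bot_iff_of_injective _ Y.subtype_injective] at hb
    · rw [A.card_eq_multiplicity, B.card_eq_multiplicity, C.card_eq_multiplicity, fac M₁ s₁, fac M₂ s₂, hinfY,
        hTYc, hi, Nat.Prime.factorization_pow Nat.prime_two]
      simp
  have hcase : Nat.card X = 24 ∨ Nat.card X = 48 := by
    rcases Hyp.classify (⟨hpair, hinfY.symm ▸ hTYp, hinfY.symm ▸ s₁, hinfY.symm ▸ s₂⟩ : Hyp M₁ M₂) with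
      ⟨⟨e⟩, -⟩ | ⟨⟨e⟩, -⟩
    · left
      rw [← Nat.card_congr e₁.toEquiv, Nat.card_congr e.toEquiv, Nat.card_perm, Nat.card_fin]
      rfl
    · right
      rw [← Nat.card_congr e₁.toEquiv, Nat.card_congr e.toEquiv, Nat.card_prod, Nat.card_perm, Nat.card_fin]
      simp [Nat.factorial]
  refine ⟨hXc, by omega, ?_⟩
  -- `O_2` is elementary abelian
  rintro _ ⟨q, hq, rfl⟩
  show (q : G) * q = 1
  suffices q * q = 1 from congrArg Subtype.val this
  have hcQ := card_core X
  have hvW : v ∈ omegaCentre ↥X := ⟨mem_pCore_of_central h.isPGroup' h.coatom h.not_two' hcons hvT hvc hvz, hv2,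
    fun t ht => hvc t (pCore_le h.isPGroup' h.coatom h.not_two' ht)⟩
  by_contra hq2
  have hqW : q ∉ omegaCentre ↥X := fun hm => hq2 hm.2.1
  haveI : Fact (Nat.Prime 3) := ⟨Nat.prime_three⟩
  obtain ⟨x, hx⟩ := exists_prime_orderOf_dvd_card' (G := X) 3 (hXc ▸ dvd_mul_right _ _)
  have hv1 : v ≠ 1 := fun e => hvz (e ▸ one_mem _)
  have hxC : ¬ x * v = v * x := fun hxv => by
    have hxT : x ∈ T.subgroupOf X := by
      rw [← cent_central h.isPGroup' h.coatom hvc hvz]
      exact mem_cent.2 hxv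
    have := orderOf_dvd_natCard (⟨x, hxT⟩ : T.subgroupOf X)
    rw [Subgroup.orderOf_mk, hx, h.card_sub, hi] at this
    exact absurd ((Nat.prime_dvd_prime_iff_eq Nat.prime_three Nat.prime_two).1
      (Nat.prime_three.dvd_of_dvd_pow this)) (by norm_num)
  set W := omegaCentre ↥X with hW
  haveI hWn : W.Normal := omegaCentre_normal
  have hWlt : 2 * Nat.card W ≤ Nat.card ↥(pCore 2 ↥X) := by
    have hle : W ≤ pCore 2 ↥X := fun w hw => hw.1
    obtain ⟨k, hk⟩ := card_dvd_of_le hle
    rw [hk]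
    have hk2 : 2 ≤ k := by
      rcases k with _ | _ | k
      · rw [Nat.mul_zero] at hk
        exact absurd hk Nat.card_pos.ne'
      · exfalso
        rw [Nat.mul_one] at hk
        exact hqW ((eq_of_le_of_card_ge hle hk.le).ge hq)
      · omega
    rw [Nat.mul_comm 2]
    exact Nat.mul_le_mul_left _ hk2
  set v' := x * v * x⁻¹ with hv'
  have hv'W : v' ∈ W := hWn.conj_mem v hvW x
  have hv'v : v' ≠ v := fun e => hxC (mul_inv_eq_iff_eq_mul.1 e)
  have hv'1 : v' ≠ 1 := fun e => hv1 (conj_eq_one_iff.1 e)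
  have hW3 : 3 ≤ Nat.card W := by
    have hs : ({1, v, v'} : Set X) ⊆ (W : Set X) := by
      rintro y (rfl | rfl | rfl)
      exacts [one_mem _, hvW, hv'W]
    have := Set.ncard_le_ncard hs (Set.toFinite _)
    rw [← Nat.card_coe_set_eq (W : Set X), Set.ncard_insert_of_notMem (by simp [hv1.symm, hv'1.symm]),
      Set.ncard_pair hv'v.symm] at this
    exact this
  have hQ8 : Nat.card ↥(pCore 2 ↥X) = 8 := by omega
  have hWc : Nat.card W = 4 := by
    have hd := card_dvd_of_le (show W ≤ pCore 2 ↥X from fun w hw => hw.1)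
    rw [hQ8] at hd
    obtain ⟨w, hw, e⟩ := (Nat.dvd_prime_pow Nat.prime_two).1 (show Nat.card W ∣ 2 ^ 3 from hd)
    rw [e] at hW3 hWlt ⊢
    interval_cases w <;> omega
  -- squares of the elements outside `W` are one element, central in `X`
  set P := pCore 2 ↥X with hP
  have hPn : P.Normal := inferInstance
  have hidx : (W.subgroupOf P).index = 2 := by
    have e := (W.subgroupOf P).card_mul_index
    rw [Nat.card_congr (subgroupOfEquivOfLe (show W ≤ P from fun w hw => hw.1)).toEquiv, hWc, hQ8] at e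
    omega
  have hout : ∀ y ∈ P, y ∉ W → y * y = q * q := by
    intro y hy hyW
    have hm := (mul_mem_iff_of_index_two hidx (a := (⟨q, hq⟩ : P)) (b := ⟨q, hq⟩)).2 Iff.rfl
    have hm2 := (mul_mem_iff_of_index_two hidx (a := (⟨q, hq⟩ : P)⁻¹) (b := ⟨y, hy⟩)).2
      (iff_of_false (fun e => hqW (by simpa using mem_subgroupOf.1 e))
        (fun e => hyW (mem_subgroupOf.1 e)))
    have hm2' : q⁻¹ * y ∈ W := mem_subgroupOf.1 hm2
    have e : y = q * (q⁻¹ * y) := by group
    rw [e]
    have hc := hm2'.2.2 q hq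
    have hw2 := hm2'.2.1
    calc q * (q⁻¹ * y) * (q * (q⁻¹ * y)) = q * ((q⁻¹ * y) * q) * (q⁻¹ * y) := by group
      _ = q * (q * (q⁻¹ * y)) * (q⁻¹ * y) := by rw [hc]
      _ = q * q * ((q⁻¹ * y) * (q⁻¹ * y)) := by group
      _ = q * q := by rw [hw2, mul_one]
  have hqqW : q * q ∈ W :=
    mem_subgroupOf.1 ((mul_mem_iff_of_index_two hidx (a := (⟨q, hq⟩ : P)) (b := ⟨q, hq⟩)).2 Iff.rfl)
  have hcen : q * q ∈ center X := mem_center_iff.2 fun g => by
    have h1 := hout _ (hPn.conj_mem q hq g) (fun e => hqW (by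
      have := hWn.conj_mem _ e g⁻¹
      simpa [mul_assoc] using this))
    calc g * (q * q) = (g * q * g⁻¹) * (g * q * g⁻¹) * g := by group
      _ = q * q * g := by rw [h1]
  have hWfour : IsFour W := ⟨hWc, fun w hw => hw.2.1⟩
  rcases four_cases hWfour hvW hv'W hv1 hv'1 hv'v.symm hqqW with r | r | r | r
  · exact hq2 r
  · exact hvz (r ▸ hcen)
  · exact hvz (by
      have : v' ∈ center X := r ▸ hcen
      have h2 := (inferInstance : (center X).Normal).conj_mem _ this x⁻¹
      simpa [hv', mul_assoc] using h2)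
  · -- `v v'` would be central
    have h3 : x * x * x = 1 := by
      rw [← pow_three', ← hx, pow_orderOf_eq_one]
    have e1 : x * (v * v') * x⁻¹ = v * v' := by
      have := mem_center_iff.1 (r ▸ hcen : v * v' ∈ center X) x
      rw [this, mul_assoc, mul_inv_cancel, mul_one]
    have e2 : v' * (x * v' * x⁻¹) = v * v' := by
      rw [← e1]; simp only [hv']; group
    have e3 : x * v' * x⁻¹ = v := by
      have hv'2 := hv'W.2.1
      have hcomm : v * v' = v' * v := hv'W.2.2 v hvW.1
      rw [hcomm] at e2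
      exact mul_left_cancel e2
    refine hv'v ?_
    calc v' = x * x * x * v' * (x * x * x)⁻¹ := by rw [h3]; group
      _ = x * x * (x * v' * x⁻¹) * (x * x)⁻¹ := by group
      _ = x * x * v * (x * x)⁻¹ := by rw [e3]
      _ = x * v' * x⁻¹ := by simp only [hv']; group
      _ = v := e3

end Cfg

end Cfsg.Lib.LenEight
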