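import Cfsg.Agent.Lib.LenEight.Local
import Cfsg.Agent.Lib.Recog.Icosahedral

/-!
# The residue of a constrained group with a maximal Sylow 2-subgroup of small length
-/

set_option autoImplicit false
set_option linter.style.haveILetI false

namespace Cfsg.Lib.LenEight

open Subgroup

universe u

variable {X : Type u} [Group X] [Finite X]

/-- An element of prime order `p` normalizing a 2-subgroup: fixed points and total agree mod `p`. -/
theorem card_modEq_cent {p : ℕ} [Fact p.Prime] {x : X} (hx : orderOf x = p) {V : Subgroup X}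
    (hn : x ∈ normalizer (V : Set X)) :
    Nat.card V ≡ Nat.card ↥(V ⊓ centralizer ({x} : Set X)) [MOD p] := by
  let _ : MulAction (zpowers x) V :=
    { smul := fun g v => ⟨g * v * (g : X)⁻¹, (mem_normalizer_iff.1 (zpowers_le.2 hn g.2) v).1 v.2⟩
      one_smul := fun v => Subtype.ext (show (1 : X) * v * 1⁻¹ = v by group)
      mul_smul := fun g h v => Subtype.ext
        (show (g * h : X) * v * (g * h : X)⁻¹ = g * (h * v * (h : X)⁻¹) * (g : X)⁻¹ by group) }
  have hp : IsPGroup p (zpowers x) := IsPGroup.of_card (n := 1) (by rw [Nat.card_zpowers, hx, pow_one])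
  refine (hp.card_modEq_card_fixedPoints V).trans (congrArg (· % p) ?_)
  refine Nat.card_congr ⟨fun v => ⟨(v : V), (v : V).2, mem_cent.2 ?_⟩, fun v => ⟨⟨v, v.2.1⟩, fun g => ?_⟩,
    fun v => rfl, fun v => rfl⟩
  · have h := congrArg Subtype.val (v.2 ⟨x, mem_zpowers x⟩)
    change x * ((v : V) : X) * x⁻¹ = ((v : V) : X) at h
    exact (mul_inv_eq_iff_eq_mul.1 h).symm
  · apply Subtype.ext
    show (g : X) * (v : X) * (g : X)⁻¹ = v
    have hg : (g : X) ∈ centralizer ({(v : X)} : Set X) :=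
      zpowers_le.2 (mem_cent_symm v.2.2) g.2
    rw [mem_cent.1 hg, mul_assoc, mul_inv_cancel, mul_one]

/-- The involutions of the centre of `O_2`, with the identity. -/
def omegaCentre (X : Type u) [Group X] : Subgroup X where
  carrier := {w | w ∈ Cfsg.pCore 2 X ∧ w * w = 1 ∧ ∀ q ∈ Cfsg.pCore 2 X, q * w = w * q}
  one_mem' := ⟨one_mem _, one_mul 1, fun q _ => by rw [mul_one, one_mul]⟩
  mul_mem' := by
    rintro a b ⟨ha, ha2, hac⟩ ⟨hb, hb2, hbc⟩
    refine ⟨mul_mem ha hb, ?_, fun q hq => ?_⟩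
    · rw [mul_assoc, ← mul_assoc b, hac b hb, mul_assoc, hb2, mul_one, ha2]
    · rw [← mul_assoc, hac q hq, mul_assoc, hbc q hq, mul_assoc]
  inv_mem' := by
    rintro a ⟨ha, ha2, hac⟩
    rw [inv_self ha2]
    exact ⟨ha, ha2, hac⟩

instance omegaCentre_normal : (omegaCentre X).Normal where
  conj_mem := by
    rintro w ⟨hw, hw2, hwc⟩ g
    have hn : (Cfsg.pCore 2 X).Normal := inferInstance
    refine ⟨hn.conj_mem w hw g, by
      rw [show g * w * g⁻¹ * (g * w * g⁻¹) = g * (w * w) * g⁻¹ by group, hw2]; group, fun q hq => ?_⟩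
    have h := hwc _ (hn.conj_mem q hq g⁻¹)
    calc q * (g * w * g⁻¹) = g * ((g⁻¹ * q * (g⁻¹)⁻¹) * w) * g⁻¹ := by group
      _ = g * (w * (g⁻¹ * q * (g⁻¹)⁻¹)) * g⁻¹ := by rw [h]
      _ = g * w * g⁻¹ * q := by group

variable {T : Subgroup X} (hT : IsPGroup 2 T) (hc : IsCoatom T) (hX : ¬ IsPGroup 2 X)
  (hcons : centralizer (Cfsg.pCore 2 X : Set X) ≤ Cfsg.pCore 2 X)
  {v : X} (hvT : v ∈ T) (hvc : ∀ t ∈ T, t * v = v * t) (hvz : v ∉ center X)
include hT hc hX hcons hvT hvc hvz

theorem mem_pCore_of_central : v ∈ Cfsg.pCore 2 X :=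
  hcons (mem_centralizer_iff.2 fun q hq => hvc q (pCore_le hT hc hX hq))

omit hX hcons hvT in
theorem cent_central : centralizer ({v} : Set X) = T := by
  rcases eq_or_lt_of_le (le_cent_iff.2 hvc) with e | e
  · exact e.symm
  · exact absurd (mem_center_iff.2 fun g => mem_cent.1 ((hc.2 _ e).ge (mem_top g))) hvz

theorem index_le : T.index + 1 ≤ Nat.card ↥(Cfsg.pCore 2 X) := by
  classical
  have hC := cent_central hT hc hvc hvz
  have hmem := mem_pCore_of_central hT hc hX hcons hvT hvc hvz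
  have hn : (Cfsg.pCore 2 X).Normal := inferInstance
  let f : X ⧸ T → {q : Cfsg.pCore 2 X // q ≠ 1} := Quotient.lift
    (fun g => (⟨⟨g * v * g⁻¹, hn.conj_mem v hmem g⟩, fun e => hvz (by
      have : g * v * g⁻¹ = 1 := congrArg Subtype.val e
      rw [conj_eq_one_iff.1 this]; exact one_mem _)⟩ : {q : Cfsg.pCore 2 X // q ≠ 1}))
    (fun a b hab => by
      have hab' : a⁻¹ * b ∈ T := QuotientGroup.leftRel_apply.1 hab
      apply Subtype.ext; apply Subtype.ext
      show a * v * a⁻¹ = b * v * b⁻¹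
      have h := hvc _ hab'
      calc a * v * a⁻¹ = a * (v * (a⁻¹ * b)) * b⁻¹ := by group
        _ = a * ((a⁻¹ * b) * v) * b⁻¹ := by rw [h]
        _ = b * v * b⁻¹ := by group)
  have hf : Function.Injective f := by
    intro a b
    induction a using Quotient.inductionOn with | _ a => ?_
    induction b using Quotient.inductionOn with | _ b => ?_
    intro e
    refine Quotient.sound (QuotientGroup.leftRel_apply.2 ?_)
    rw [← hC, mem_cent]
    have e' : a * v * a⁻¹ = b * v * b⁻¹ := congrArg (fun q => ((q.1 : Cfsg.pCore 2 X) : X)) e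
    calc a⁻¹ * b * v = a⁻¹ * (b * v * b⁻¹) * b := by group
      _ = a⁻¹ * (a * v * a⁻¹) * b := by rw [e']
      _ = v * (a⁻¹ * b) := by group
  have h := Nat.card_le_card_of_injective f hf
  have h2 : Nat.card {q : Cfsg.pCore 2 X // q ≠ 1} + 1 = Nat.card ↥(Cfsg.pCore 2 X) := by
    rw [← Finite.card_option]
    exact Nat.card_congr (Equiv.optionSubtypeNe (1 : Cfsg.pCore 2 X))
  rw [← h2]
  exact Nat.add_le_add_right h 1

/-- The residue is `2p`, or `O_2` is the only elementary abelian subgroup of order 16 of `T`. -/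
theorem residue (hv2 : v * v = 1) (hTQ : T ≠ Cfsg.pCore 2 X) (hlen : LenLe (⊤ : Subgroup X) 7) :
    (∃ p : ℕ, p.Prime ∧ p ≠ 2 ∧ Nat.card X = p * Nat.card T ∧
        Nat.card T = 2 * Nat.card ↥(Cfsg.pCore 2 X)) ∨
      (Nat.card ↥(Cfsg.pCore 2 X) = 16 ∧ (∀ q ∈ Cfsg.pCore 2 X, q * q = 1) ∧
        ∀ A : Subgroup X, A ≤ T → Nat.card A = 16 → (∀ a ∈ A, a * a = 1) → A = Cfsg.pCore 2 X) := by
  classical
  haveI : Fact (Nat.Prime 2) := ⟨Nat.prime_two⟩
  set Q := Cfsg.pCore 2 X with hQdef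
  set f := QuotientGroup.mk' Q with hf
  have hfs : Function.Surjective f := QuotientGroup.mk'_surjective Q
  have hQT := pCore_le hT hc hX
  have hidx := index_le hT hc hX hcons hvT hvc hvz
  obtain ⟨q, hq⟩ := IsPGroup.iff_card.1 (Core.pCore_isPGroup 2 X)
  set Tb := T.map f with hTb
  have hTbp : IsPGroup 2 Tb := hT.map f
  obtain ⟨j, hj⟩ := IsPGroup.iff_card.1 hTbp
  have hcomap : Tb.comap f = T := comap_map_eq_self (by rw [hf, QuotientGroup.ker_mk']; exact hQT)
  have hindex : Tb.index = T.index := by rw [← index_comap_of_surjective Tb hfs, hcomap]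
  have hTcard : Nat.card T = 2 ^ q * 2 ^ j := by
    have e1 := Tb.card_mul_index
    have e2 := T.card_mul_index
    have e3 := Q.card_mul_index
    rw [show Q.index = Nat.card (X ⧸ Q) from rfl, ← e1, hindex, hj, hq] at e3
    rw [← e3] at e2
    rw [← Nat.mul_assoc] at e2
    exact Nat.eq_of_mul_eq_mul_right (Nat.pos_of_ne_zero index_ne_zero_of_finite) e2
  have hXcard : Nat.card X = 2 ^ q * 2 ^ j * T.index := by rw [← hTcard, T.card_mul_index]
  have hcb : IsCoatom Tb := by
    refine ⟨fun e => hc.1 ?_, fun M hM => ?_⟩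
    · rw [← hcomap, e, comap_top]
    · have hlt : T < M.comap f := lt_of_le_of_ne (hcomap ▸ comap_mono hM.le) fun e => hM.ne (by
        rw [hTb, e, map_comap_eq_self_of_surjective hfs])
      rw [← map_comap_eq_self_of_surjective hfs M, hc.2 _ hlt, map_top_of_surjective _ hfs]
  have hchain : ∀ {n : ℕ}, Chain (⊤ : Subgroup (X ⧸ Q)) n → q + n ≤ 7 := fun hn =>
    hlen.chain_le (chain_quotient hq hn)
  have hj1 : 1 ≤ j := by
    by_contra h0
    rw [show j = 0 by omega, pow_zero] at hTcard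
    exact hTQ (eq_of_le_of_card_ge hQT (by rw [hq]; omega)).symm
  have hqj : q + (j + 1) ≤ 7 :=
    hchain ((chain_of_card_eq_pow (p := 2) hj).succ (lt_top_iff_ne_top.2 hcb.1))
  obtain ⟨M, hM⟩ : ∃ M : Subgroup (X ⧸ Q), Core.IsMinNormal M := by
    haveI : Nontrivial (X ⧸ Q) := by
      rw [← Finite.one_lt_card_iff_nontrivial]
      have e1 := Tb.card_mul_index
      rw [hj] at e1
      have := Nat.pos_of_ne_zero (Tb.index_ne_zero_of_finite)
      have h2 : 2 ≤ 2 ^ j := Nat.le_self_pow (by omega) 2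
      nlinarith
    exact Core.exists_isMinNormal_univ
  haveI := hM.1
  have hQq : Nat.card ↥Q = 2 ^ q := hq
  rw [hq] at hidx
  by_cases hMs : Group.IsSolvable M
  swap
  · exfalso
    have h4 : Chain (⊤ : Subgroup (X ⧸ Q)) 4 :=
      (chain_four_of_not_solvable hMs).top_subtype.mono le_top
    have hq3 : q ≤ 3 := by have := hchain h4; omega
    have hlt : Nat.card (X ⧸ Q) < 60 := by
      rw [show Nat.card (X ⧸ Q) = 2 ^ j * Tb.index by rw [← hj, Tb.card_mul_index], hindex]
      have hj6 : j ≤ 6 := by omega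
      interval_cases q <;> interval_cases j <;> omega
    have := Cfsg.Lib.Recog.Icosa.solvable_of_lt_sixty _ (X ⧸ Q) rfl hlt
    exact hMs inferInstance
  obtain ⟨hab, p, hp, hMexp, hMp⟩ := Core.minimal_solvable_elementary hM hMs
  haveI := Fact.mk hp
  have hp2 : p ≠ 2 := fun e => hM.2.1 (no_two_quotient M hM.1 (by subst e; exact hMp))
  have hMT : M ⊓ Tb = ⊥ := by
    obtain ⟨d, hd⟩ := IsPGroup.iff_card.1 (hMp.to_le (inf_le_left : M ⊓ Tb ≤ M))
    obtain ⟨e, he⟩ := IsPGroup.iff_card.1 (hTbp.to_le (inf_le_right : M ⊓ Tb ≤ Tb))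
    rcases Nat.eq_zero_or_pos d with rfl | hd0
    · exact card_eq_one.1 hd
    · exfalso
      have : p ∣ 2 ^ e := by rw [← he, hd]; exact dvd_pow_self p (by omega)
      exact hp2 ((Nat.prime_dvd_prime_iff_eq hp Nat.prime_two).1 (hp.dvd_of_dvd_pow this))
  have hsup : M ⊔ Tb = ⊤ := hcb.2 _ (lt_of_le_of_ne le_sup_right fun e => hM.2.1 (by
    rw [← hMT]; exact (inf_eq_left.2 (e.ge.trans' le_sup_left)).symm))
  obtain ⟨d, hd⟩ := IsPGroup.iff_card.1 hMp
  have hMidx : M.index = 2 ^ j := by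
    rw [← relIndex_top_right, ← hsup, relIndex_sup_left, ← inf_relIndex_right, hMT, relIndex_bot_left, hj]
  have hTidx : T.index = p ^ d := by
    have e1 := M.card_mul_index
    have e2 := Tb.card_mul_index
    rw [← e1, hMidx, hd, hj, hindex, mul_comm] at e2
    exact Nat.eq_of_mul_eq_mul_right (Nat.two_pow_pos j) e2
  have hqdj : q + (d + j) ≤ 7 :=
    hchain (chain_quotient (p := p) hd (chain_of_card_eq_pow (p := 2) (by rw [card_top]; exact hMidx)))
  rw [hTidx] at hidx
  have hd0 : d ≠ 0 := fun e => hM.2.1 (card_eq_one.1 (by rw [hd, e, pow_zero]))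
  have hnormal : ∀ W : Subgroup (X ⧸ Q), W ≤ M → Tb ≤ normalizer (W : Set (X ⧸ Q)) → W = ⊥ ∨ W = M := by
    intro W hW hn
    refine hM.2.2 W ?_ hW
    rw [← normalizer_eq_top_iff, eq_top_iff, ← hsup]
    refine sup_le (fun m hm => ?_) hn
    refine Core.mem_normalizer_iff_map_conj.2 ?_
    ext w
    simp only [mem_map, MulEquiv.coe_toMonoidHom, MulAut.conj_apply]
    have key : ∀ w ∈ W, m * w * m⁻¹ = w := fun w hw => by
      rw [show m * w = w * m from congrArg Subtype.val (hab.is_comm.comm (⟨m, hm⟩ : M) ⟨w, hW hw⟩),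
        mul_assoc, mul_inv_cancel, mul_one]
    constructor
    · rintro ⟨w, hw, rfl⟩; rw [key w hw]; exact hw
    · exact fun hw => ⟨w, hw, key w hw⟩
  rcases (show d = 1 ∨ 2 ≤ d by omega) with rfl | hd2
  swap
  · -- `d ≥ 2` is impossible
    exfalso
    have hp3 : 3 ≤ p := by have := hp.two_le; omega
    have h9 : p ^ 2 ≤ p ^ d := Nat.pow_le_pow_right hp.pos hd2
    have hj_eq : j = 1 := by
      by_contra hne
      have hq3 : q ≤ 3 := by omega
      have h8 : 2 ^ q ≤ 8 := Nat.pow_le_pow_right two_pos hq3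
      nlinarith
    subst hj_eq
    obtain ⟨t, ht⟩ := exists_prime_orderOf_dvd_card' (G := Tb) 2 (by rw [hj]; norm_num)
    have htgen : zpowers (t : X ⧸ Q) = Tb := eq_of_le_of_card_ge (zpowers_le.2 t.2)
      (by rw [hj, Nat.card_zpowers, orderOf_coe, ht]; norm_num)
    have ht2 : (t : X ⧸ Q) * (t : X ⧸ Q) = 1 := (sq_of_orderOf ((orderOf_coe t).trans ht)).1
    -- a nontrivial element of `M` fixed or inverted by `t`
    obtain ⟨w, hwM, hw1, hw⟩ : ∃ w ∈ M, w ≠ 1 ∧
        ((t : X ⧸ Q) * w * (t : X ⧸ Q)⁻¹ = w ∨ (t : X ⧸ Q) * w * (t : X ⧸ Q)⁻¹ = w⁻¹) := by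
      obtain ⟨m, hm, hm1⟩ : ∃ m ∈ M, m ≠ 1 := by
        by_contra h
        push Not at h
        exact hM.2.1 ((eq_bot_iff_forall M).2 h)
      set m' := (t : X ⧸ Q) * m * (t : X ⧸ Q)⁻¹
      have hm' : m' ∈ M := hM.1.conj_mem m hm _
      by_cases hw : m * m' = 1
      · exact ⟨m, hm, hm1, Or.inr (eq_inv_of_mul_eq_one_right hw)⟩
      · refine ⟨m * m', M.mul_mem hm hm', hw, Or.inl ?_⟩
        have hback : (t : X ⧸ Q) * m' * (t : X ⧸ Q)⁻¹ = m := by
          calc (t : X ⧸ Q) * m' * (t : X ⧸ Q)⁻¹ = ((t : X ⧸ Q) * t) * m * ((t : X ⧸ Q) * t)⁻¹ := by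
                simp only [m']; group
            _ = m := by rw [ht2]; group
        rw [show (t : X ⧸ Q) * (m * m') * (t : X ⧸ Q)⁻¹
          = (t * m * (t : X ⧸ Q)⁻¹) * (t * m' * (t : X ⧸ Q)⁻¹) by group, hback]
        exact congrArg Subtype.val (hab.is_comm.comm (⟨m', hm'⟩ : M) ⟨m, hm⟩)
    have hn : Tb ≤ normalizer ((zpowers w : Subgroup (X ⧸ Q)) : Set (X ⧸ Q)) := by
      rw [← htgen, zpowers_le]
      refine Core.mem_normalizer_iff_map_conj.2 ?_
      rw [MonoidHom.map_zpowers]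
      show zpowers ((t : X ⧸ Q) * w * (t : X ⧸ Q)⁻¹) = zpowers w
      rcases hw with e | e <;> rw [e]
      exact zpowers_inv
    rcases hnormal _ (zpowers_le.2 hwM) hn with e | e
    · exact hw1 (zpowers_eq_bot.1 e)
    · have hcd : Nat.card ↥(zpowers w) ∣ p := by
        rw [Nat.card_zpowers]
        exact orderOf_dvd_of_pow_eq_one (hMexp w hwM)
      rw [e, hd] at hcd
      have := Nat.le_of_dvd hp.pos hcd
      nlinarith
  rw [pow_one] at hTidx hidx hd
  by_cases hj_eq : j = 1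
  · subst hj_eq
    exact Or.inl ⟨p, hp, hp2, by rw [hXcard, hTcard, hTidx, mul_comm], by rw [hTcard, hq]; ring⟩
  -- now `j ≥ 2`
  have hj2 : 2 ≤ j := by omega
  haveI : IsCyclic M := isCyclic_of_prime_card hd
  have hTn : Tb ≤ normalizer (M : Set (X ⧸ Q)) := le_top.trans (normalizer_eq_top_iff.2 hM.1).ge
  set φ : Tb →* MulAut M := (normalizerMonoidHom M).comp (Subgroup.inclusion hTn)
  have hcentn : (Tb ⊓ centralizer (M : Set (X ⧸ Q))) = ⊥ := by
    refine no_two_quotient _ ?_ (hTbp.to_le inf_le_left)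
    rw [← normalizer_eq_top_iff, eq_top_iff, ← hsup]
    refine sup_le (fun m hm => ?_) fun t ht => ?_
    · refine Core.mem_normalizer_iff_map_conj.2 ?_
      ext w
      simp only [mem_map, MulEquiv.coe_toMonoidHom, MulAut.conj_apply]
      have key : ∀ w ∈ Tb ⊓ centralizer (M : Set (X ⧸ Q)), m * w * m⁻¹ = w := fun w hw => by
        rw [mem_centralizer_iff.1 hw.2 m hm, mul_assoc, mul_inv_cancel, mul_one]
      constructor
      · rintro ⟨w, hw, rfl⟩; rw [key w hw]; exact hw
      · exact fun hw => ⟨w, hw, key w hw⟩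
    · refine Core.mem_normalizer_iff_map_conj.2 (eq_of_le_of_card_ge ?_ ?_)
      · rintro _ ⟨w, hw, rfl⟩
        refine ⟨Tb.mul_mem (Tb.mul_mem ht hw.1) (Tb.inv_mem ht), mem_centralizer_iff.2 fun m hm => ?_⟩
        have h1 := mem_centralizer_iff.1 hw.2 _ (hM.1.conj_mem m hm t⁻¹)
        calc m * (t * w * t⁻¹) = t * ((t⁻¹ * m * (t⁻¹)⁻¹) * w) * t⁻¹ := by group
          _ = t * (w * (t⁻¹ * m * (t⁻¹)⁻¹)) * t⁻¹ := by rw [h1]
          _ = t * w * t⁻¹ * m := by group
      · rw [card_map_of_injective (f := (MulAut.conj t).toMonoidHom) (MulAut.conj t).injective]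
  have hφ : Function.Injective φ := by
    rw [← MonoidHom.ker_eq_bot_iff, eq_bot_iff]
    intro t ht
    have h1 : ((Subgroup.inclusion hTn t : normalizer (M : Set (X ⧸ Q)))) ∈ (normalizerMonoidHom M).ker := ht
    rw [normalizerMonoidHom_ker] at h1
    have h2 : (t : X ⧸ Q) ∈ Tb ⊓ centralizer (M : Set (X ⧸ Q)) := ⟨t.2, mem_subgroupOf.1 h1⟩
    rw [hcentn, mem_bot] at h2
    exact mem_bot.2 (Subtype.ext h2)
  have hdiv : 2 ^ j ∣ p - 1 := by
    have := Subgroup.card_dvd_of_injective φ hφ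
    rwa [hj, IsCyclic.card_mulAut, hd, Nat.totient_prime hp] at this
  -- an element of order `p`
  obtain ⟨x, hx⟩ := exists_prime_orderOf_dvd_card' (G := X) p
    (by rw [hXcard, hTidx]; exact dvd_mul_left _ _)
  have hxQ : x ∈ normalizer (Q : Set X) :=
    (normalizer_eq_top_iff.2 (inferInstance : Q.Normal)).ge (mem_top x)
  have hfix : ∃ i < q, Nat.card ↥(Q ⊓ centralizer ({x} : Set X)) = 2 ^ i := by
    obtain ⟨i, hi, e⟩ := (Nat.dvd_prime_pow Nat.prime_two).1
      (hq ▸ card_dvd_of_le (inf_le_left : Q ⊓ centralizer ({x} : Set X) ≤ Q))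
    refine ⟨i, lt_of_le_of_ne hi fun eq => ?_, e⟩
    have hall : Q ⊓ centralizer ({x} : Set X) = Q :=
      eq_of_le_of_card_ge inf_le_left (by rw [hq, e, eq])
    have hxmem : x ∈ Q := hcons (mem_centralizer_iff.2 fun w hw => mem_cent.1 (hall.ge hw).2)
    have h2 := (orderOf_dvd_natCard (⟨x, hxmem⟩ : Q))
    rw [Subgroup.orderOf_mk, hx, hq] at h2
    exact hp2 ((Nat.prime_dvd_prime_iff_eq hp Nat.prime_two).1 (hp.dvd_of_dvd_pow h2))
  obtain ⟨i, hiq, hi⟩ := hfix
  have hmod := card_modEq_cent hx hxQ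
  rw [hq, hi] at hmod
  have h4p : 4 ∣ p - 1 := (dvd_trans (show 4 ∣ 2 ^ j from (pow_dvd_pow 2 hj2)) hdiv)
  have hq4 : q ≤ 4 := by omega
  obtain ⟨rfl, rfl, rfl, rfl⟩ : p = 5 ∧ q = 4 ∧ i = 0 ∧ j = 2 := by
    have hp16 : p ≤ 15 := by
      have : 2 ^ q ≤ 2 ^ 4 := Nat.pow_le_pow_right two_pos hq4
      omega
    have hj5 : j ≤ 5 := by omega
    have hp5 : 5 ≤ p := by
      have := hp.two_le
      omega
    rw [Nat.ModEq] at hmod
    interval_cases p
    all_goals first | (norm_num at hp; done) | (norm_num at h4p; done) | skip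
    all_goals interval_cases q <;> interval_cases i <;> first | omega | skip
    all_goals first | (norm_num at hmod; done) | skip
    all_goals interval_cases j <;> first | omega | (norm_num at hdiv; done) | exact ⟨rfl, rfl, rfl, rfl⟩
  right
  norm_num at hq hi
  -- `Q` is elementary
  have hWQ : omegaCentre X ≤ Q := fun w hw => hw.1
  have hvW : v ∈ omegaCentre X :=
    ⟨mem_pCore_of_central hT hc hX hcons hvT hvc hvz, hv2, fun w hw => hvc w (hQT hw)⟩
  have hW : omegaCentre X = Q := by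
    have hxW : x ∈ normalizer (omegaCentre X : Set X) :=
      (normalizer_eq_top_iff.2 omegaCentre_normal).ge (mem_top x)
    have h1 : Nat.card ↥(omegaCentre X ⊓ centralizer ({x} : Set X)) = 1 := by
      have hd1 : Nat.card ↥(omegaCentre X ⊓ centralizer ({x} : Set X)) ∣
          Nat.card ↥(Q ⊓ centralizer ({x} : Set X)) := card_dvd_of_le (inf_le_inf_right _ hWQ)
      exact Nat.dvd_one.1 (hd1.trans (dvd_of_eq hi))
    have h2 := card_modEq_cent hx hxW
    rw [h1] at h2
    obtain ⟨w, hw, e⟩ := (Nat.dvd_prime_pow Nat.prime_two).1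
      (show Nat.card ↥(omegaCentre X) ∣ 2 ^ 4 from (card_dvd_of_le hWQ).trans (dvd_of_eq hQq))
    refine eq_of_le_of_card_ge hWQ ?_
    have hne : omegaCentre X ≠ ⊥ := fun eb => hvz (by
      rw [eb, mem_bot] at hvW; rw [hvW]; exact one_mem _)
    rw [e] at h2 ⊢
    rw [hq]
    interval_cases w
    · exact absurd (card_eq_one.1 (by rw [e]; rfl)) hne
    all_goals first | (norm_num [Nat.ModEq] at h2; done) | norm_num
  have hQe : ∀ w ∈ Q, w * w = 1 := fun w hw => (hW.ge hw).2.1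
  refine ⟨hQq.trans (by norm_num), hQe, fun A hAT hA16 hAe => ?_⟩
  by_contra hAQ
  obtain ⟨a, haA, haQ⟩ := SetLike.not_le_iff_exists.1 fun hle : A ≤ Q =>
    hAQ (eq_of_le_of_card_ge hle (by rw [hA16, hq]))
  -- the image of `A` has order two
  have hAb : Nat.card ↥(A.map f) ≤ 2 := by
    have hmem : ∀ y ∈ A.map f, y ∈ Tb ∧ y * y = 1 := by
      rintro _ ⟨y, hy, rfl⟩
      exact ⟨mem_map_of_mem f (hAT hy), by rw [← map_mul, hAe y hy, map_one]⟩
    haveI : IsCyclic Tb := by
      haveI : IsCyclic (MulAut M) := by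
        haveI : IsCyclic (ZMod (Nat.card M))ˣ := by rw [hd]; exact ZMod.isCyclic_units_prime hp
        exact isCyclic_of_surjective (IsCyclic.mulAutMulEquiv M).symm.toMonoidHom
          (IsCyclic.mulAutMulEquiv M).symm.surjective
      exact isCyclic_of_injective φ hφ
    let ι : ↥(A.map f) → {y : Tb // y ^ 2 = 1} := fun y =>
      ⟨⟨y, (hmem y y.2).1⟩, Subtype.ext (by rw [SubmonoidClass.coe_pow, pow_two]; exact (hmem y y.2).2)⟩
    have hι : Function.Injective ι := fun a b hab => Subtype.ext (congrArg (fun z => ((z.1 : Tb) : X ⧸ Q)) hab)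
    refine (Nat.card_le_card_of_injective ι hι).trans ?_
    haveI := Fintype.ofFinite Tb
    rw [Nat.card_eq_fintype_card, Fintype.card_subtype]
    exact IsCyclic.card_pow_eq_one_le (by norm_num)
  have hA8 : 8 ≤ Nat.card ↥(A ⊓ Q) := by
    have e : Nat.card ↥(A ⊓ Q) * Nat.card ↥(A.map f) = Nat.card A := by
      have h1 := (f.subgroupMap A).ker.card_mul_index
      rw [index_ker, MonoidHom.range_eq_top.2 (f.subgroupMap_surjective A), card_top] at h1
      rw [← h1]
      congr 1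
      rw [show (f.subgroupMap A).ker = Q.subgroupOf A by
        ext y
        rw [MonoidHom.mem_ker, mem_subgroupOf]
        exact ⟨fun h => (QuotientGroup.eq_one_iff _).1 (congrArg Subtype.val h :),
          fun h => Subtype.ext ((QuotientGroup.eq_one_iff _).2 h)⟩]
      rw [← card_map_of_injective (K := Q.subgroupOf A) A.subtype_injective, subgroupOf_map_subtype, inf_comm]
    rw [hA16] at e
    nlinarith
  have hC8 : 8 ≤ Nat.card ↥(Q ⊓ centralizer ({a} : Set X)) := hA8.trans (Nat.le_of_dvd Nat.card_pos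
    (card_dvd_of_le fun w hw => ⟨hw.2, mem_cent.2 (by
      have h1 := hAe _ (A.mul_mem hw.1 haA)
      calc w * a = (w * a)⁻¹ := (inv_self h1).symm
        _ = a⁻¹ * w⁻¹ := mul_inv_rev _ _
        _ = a * w := by rw [inv_self (hAe a haA), inv_self (hAe w hw.1)])⟩))
  -- conjugate by `x`
  set C := Q ⊓ centralizer ({a} : Set X) with hCdef
  set D := C.map (MulAut.conj x).toMonoidHom with hDdef
  have hinf : C ⊓ D = ⊥ := by
    rw [eq_bot_iff]
    intro w hw
    have hwQ : w ∈ Q := hw.1.1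
    obtain ⟨c, hc', hcw⟩ := hw.2
    change x * c * x⁻¹ = w at hcw
    have hcom2 : w * (x * a * x⁻¹) = x * a * x⁻¹ * w := by
      rw [← hcw]
      exact mem_cent.1 (conj_mem_cent hc'.2)
    set z := a * (x * a * x⁻¹) with hz
    have hzc : w ∈ centralizer ({z} : Set X) := mem_cent.2 (by
      rw [hz, ← mul_assoc, mem_cent.1 hw.1.2, mul_assoc, hcom2, ← mul_assoc])
    -- in the quotient `a` inverts `x`
    have hfx : f x ∈ M := by
      have h1 : (f x) ^ M.index ∈ M := M.pow_index_mem _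
      rw [hMidx] at h1
      have h5 : (f x) ^ 5 = 1 := by rw [← map_pow, ← hx, pow_orderOf_eq_one, map_one]
      norm_num at h1
      rwa [show (f x) ^ 4 = (f x)⁻¹ from eq_inv_of_mul_eq_one_left (by rw [← pow_succ]; exact h5),
        inv_mem_iff] at h1
    have haTb : f a ∈ Tb := mem_map_of_mem f (hAT haA)
    have ha1 : f a ≠ 1 := fun e => haQ ((QuotientGroup.eq_one_iff _).1 e)
    have hfx1 : f x ≠ 1 := fun e => by
      have hmem : x ∈ Q := (QuotientGroup.eq_one_iff _).1 e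
      have h2 := orderOf_dvd_natCard (⟨x, hmem⟩ : Q)
      rw [Subgroup.orderOf_mk, hx, hq] at h2
      norm_num at h2
    have ha2 : f a * f a = 1 := by rw [← map_mul, hAe a haA, map_one]
    have hinv : f a * f x * (f a)⁻¹ = (f x)⁻¹ := by
      -- the product of the two is fixed by `a`, hence trivial
      set m' := f a * f x * (f a)⁻¹
      have hm' : m' ∈ M := hM.1.conj_mem _ hfx _
      by_contra hne
      have hprod : f x * m' ≠ 1 := fun e => hne (eq_inv_of_mul_eq_one_right e)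
      have hgen : zpowers (f x * m') = M := by
        refine eq_of_le_of_card_ge (zpowers_le.2 (M.mul_mem hfx hm')) ?_
        rw [hd, Nat.card_zpowers]
        exact Nat.le_of_eq (orderOf_eq_prime (hMexp _ (M.mul_mem hfx hm')) hprod).symm
      have hfixed : f a * (f x * m') = f x * m' * f a := by
        refine mul_inv_eq_iff_eq_mul.1 ?_
        have hback : f a * m' * (f a)⁻¹ = f x := by
          calc f a * m' * (f a)⁻¹ = (f a * f a) * f x * (f a * f a)⁻¹ := by simp only [m']; group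
            _ = f x := by rw [ha2]; group
        rw [show f a * (f x * m') * (f a)⁻¹ = (f a * f x * (f a)⁻¹) * (f a * m' * (f a)⁻¹) by group, hback]
        exact congrArg Subtype.val (hab.is_comm.comm (⟨m', hm'⟩ : M) ⟨f x, hfx⟩)
      have : f a ∈ Tb ⊓ centralizer (M : Set (X ⧸ Q)) := ⟨haTb, by
        rw [← hgen]
        refine mem_centralizer_iff.2 fun y hy => ?_
        exact (mem_cent.1 (zpowers_le.2 (mem_cent.2 hfixed.symm) hy))⟩
      rw [hcentn, mem_bot] at this
      exact ha1 this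
    have hfz : f z = (f x)⁻¹ * (f x)⁻¹ := by
      rw [hz, map_mul, map_mul, map_mul, map_inv]
      calc f a * (f x * f a * (f x)⁻¹) = f a * f x * (f a)⁻¹ * (f a * f a) * (f x)⁻¹ := by group
        _ = (f x)⁻¹ * (f x)⁻¹ := by rw [hinv, ha2, mul_one]
    have hxw : w ∈ centralizer ({x} : Set X) := by
      have hall : z * (x * x) ∈ Q := (QuotientGroup.eq_one_iff _).1 (by
        show f (z * (x * x)) = 1
        rw [map_mul, hfz, map_mul]; group)
      have hwz : w * (z * (x * x)) = z * (x * x) * w := ((hW.ge hwQ).2.2 _ hall).symm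
      have hwx2 : w * (x * x) = x * x * w := by
        rw [← mul_assoc w, mem_cent.1 hzc] at hwz
        exact mul_left_cancel (a := z) (by rw [← mul_assoc, hwz, mul_assoc])
      have h6 : x = (x * x) * (x * x) * (x * x) := by
        calc x = x * x ^ orderOf x := by rw [pow_orderOf_eq_one, mul_one]
          _ = x * (x * x * x * x * x) := by rw [hx, show (5 : ℕ) = 1 + 1 + 1 + 1 + 1 by rfl]; simp only [pow_add, pow_one]
          _ = _ := by simp only [mul_assoc]
      rw [mem_cent, h6]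
      have hc2 : Commute w (x * x) := hwx2
      exact ((hc2.mul_right hc2).mul_right hc2).eq
    have h1 : w ∈ Q ⊓ centralizer ({x} : Set X) := ⟨hwQ, hxw⟩
    have hb : Q ⊓ centralizer ({x} : Set X) = ⊥ := card_eq_one.1 hi
    rw [hb] at h1
    exact h1
  have hDQ : D ≤ Q := by
    rintro _ ⟨c, hc', rfl⟩
    exact (inferInstance : Q.Normal).conj_mem c hc'.1 x
  have hDc : 8 ≤ Nat.card D := by
    rw [hDdef, card_map_of_injective (f := (MulAut.conj x).toMonoidHom) (MulAut.conj x).injective]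
    exact hC8
  let μ : C × D → Q := fun cd => ⟨cd.1 * cd.2, Q.mul_mem cd.1.2.1 (hDQ cd.2.2)⟩
  have hμ : Function.Injective μ := by
    rintro ⟨⟨a₁, ha₁⟩, ⟨b₁, hb₁⟩⟩ ⟨⟨a₂, ha₂⟩, ⟨b₂, hb₂⟩⟩ e
    have e' : a₁ * b₁ = a₂ * b₂ := congrArg Subtype.val e
    have h1 : a₂⁻¹ * a₁ = b₂ * b₁⁻¹ := by
      calc a₂⁻¹ * a₁ = a₂⁻¹ * (a₁ * b₁) * b₁⁻¹ := by group
        _ = _ := by rw [e']; group
    have h2 : a₂⁻¹ * a₁ ∈ C ⊓ D := ⟨C.mul_mem (C.inv_mem ha₂) ha₁, h1 ▸ D.mul_mem hb₂ (D.inv_mem hb₁)⟩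
    rw [hinf, mem_bot, inv_mul_eq_one] at h2
    subst h2
    exact Prod.ext rfl (Subtype.ext (mul_left_cancel e'))
  have := Nat.card_le_card_of_injective μ hμ
  rw [Nat.card_prod, hq] at this
  nlinarith

end Cfsg.Lib.LenEight
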