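import Cfsg.Agent.Lib.LenEight.Conj
import Cfsg.Agent.Lib.CIT.Defs

/-!
# A simple group of small length with a maximal Sylow 2-subgroup
-/

set_option autoImplicit false
set_option linter.style.haveILetI false

namespace Cfsg.Lib.LenEight

open Subgroup

universe u

/-- The standing hypotheses: `|S| = 2 ^ k`, `S` maximal, small length, and the result for smaller groups. -/
structure Ctx (G : Type u) [Group G] [Finite G] (S : Sylow 2 G) (k : ℕ) : Prop where
  na : ¬ IsMulCommutative G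
  card : Nat.card ↥(S : Subgroup G) = 2 ^ k
  four_le : 4 ≤ k
  le_seven : k ≤ 7
  coatom : IsCoatom (S : Subgroup G)
  len8 : LenLe (⊤ : Subgroup G) 8
  len : 5 ≤ k → LenLe (⊤ : Subgroup G) (k + 1)
  ih : ∀ (L : Type u) [Group L] [Finite L] [IsSimpleGroup L], ¬ IsMulCommutative L → Nat.card L < Nat.card G →
    ∀ (B : Sylow 2 L) (b : ℕ), Nat.card ↥(B : Subgroup L) = 2 ^ b → 4 ≤ b → b ≤ 7 → IsCoatom (B : Subgroup L) →
      LenLe (⊤ : Subgroup L) 8 → (5 ≤ b → LenLe (⊤ : Subgroup L) (b + 1)) → CIT.IsCIT L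

variable {G : Type u} [Group G] [Finite G] [IsSimpleGroup G] {S : Sylow 2 G} {k : ℕ}

namespace Ctx

variable (h : Ctx G S k)
include h

omit [IsSimpleGroup G] in
theorem ne_bot : (S : Subgroup G) ≠ ⊥ := fun e => by
  have h1 := h.card
  rw [e, card_bot] at h1
  have := Nat.one_lt_two_pow (n := k) (by have := h.four_le; omega)
  omega

theorem len_proper {H : Subgroup G} (hH : H ≠ ⊤) : LenLe H 7 :=
  h.len8.of_lt (lt_top_iff_ne_top.2 hH)

theorem len_proper' (hk : 5 ≤ k) {H : Subgroup G} (hH : H ≠ ⊤) : LenLe H k :=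
  (h.len hk).of_lt (lt_top_iff_ne_top.2 hH)

theorem normalizer_eq {N : Subgroup G} (hle : N ≤ (S : Subgroup G)) (hN : N ≠ ⊥)
    (hn : (S : Subgroup G) ≤ normalizer (N : Set G)) : normalizer (N : Set G) = S := by
  rcases eq_or_lt_of_le hn with e | e
  · exact e.symm
  · exact absurd (h.coatom.2 _ e) (normalizer_ne_top hN fun et => h.coatom.1 (top_le_iff.1 (et ▸ hle)))

theorem cent_eq {z : G} (hz1 : z ≠ 1) (hc : ∀ x ∈ (S : Subgroup G), x * z = z * x) :
    centralizer ({z} : Set G) = (S : Subgroup G) := by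
  rcases eq_or_lt_of_le (le_cent_iff.2 hc) with e | e
  · exact e.symm
  · exact absurd (h.coatom.2 _ e) (centralizer_ne_top h.na hz1)

theorem not_isPGroup_top : ¬ IsPGroup 2 G := fun hp => by
  haveI : Fact (Nat.Prime 2) := ⟨Nat.prime_two⟩
  haveI := hp.isNilpotent
  exact not_solvable_simple h.na inferInstance

theorem nonabelian : ∃ a ∈ (S : Subgroup G), ∃ b ∈ (S : Subgroup G), a * b ≠ b * a := by
  by_contra hne
  push Not at hne
  refine burnside h.na S fun a ha b hb => ?_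
  rw [h.normalizer_eq le_rfl h.ne_bot le_normalizer] at ha hb
  exact hne a ha b hb

end Ctx

/-- `z₀` is central in `S` and `u₁` has the two conjugates `u₁`, `u₁ z₀` in `S`. -/
structure NC (S : Sylow 2 G) (z0 u1 : G) : Prop where
  z_mem : z0 ∈ (S : Subgroup G)
  z_sq : z0 * z0 = 1
  z_ne : z0 ≠ 1
  z_central : ∀ x ∈ (S : Subgroup G), x * z0 = z0 * x
  u_mem : u1 ∈ (S : Subgroup G)
  u_sq : u1 * u1 = 1
  u_ne : u1 ≠ 1
  conj : ∀ x ∈ (S : Subgroup G), x * u1 * x⁻¹ = u1 ∨ x * u1 * x⁻¹ = u1 * z0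
  moved : ∃ x ∈ (S : Subgroup G), x * u1 * x⁻¹ ≠ u1

namespace NC

variable {z0 u1 : G} (c : NC S z0 u1)

/-- `C_S(u₁)`. -/
def R (_c : NC S z0 u1) : Subgroup G := (S : Subgroup G) ⊓ centralizer ({u1} : Set G)

/-- Membership in the four-group `⟨z₀, u₁⟩`. -/
def InU (_c : NC S z0 u1) (x : G) : Prop := x = 1 ∨ x = z0 ∨ x = u1 ∨ x = u1 * z0

include c

omit [Finite G] [IsSimpleGroup G] in
theorem mem_R {x : G} : x ∈ c.R ↔ x ∈ (S : Subgroup G) ∧ x * u1 = u1 * x :=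
  ⟨fun h => ⟨h.1, mem_cent.1 h.2⟩, fun h => ⟨h.1, mem_cent.2 h.2⟩⟩

theorem R_le : c.R ≤ (S : Subgroup G) := inf_le_left

theorem u_mem_R : u1 ∈ c.R := c.mem_R.2 ⟨c.u_mem, rfl⟩
theorem z_mem_R : z0 ∈ c.R := c.mem_R.2 ⟨c.z_mem, (c.z_central u1 c.u_mem).symm⟩

theorem moved_eq {x : G} (hx : x ∈ (S : Subgroup G)) (hxR : x ∉ c.R) : x * u1 * x⁻¹ = u1 * z0 :=
  (c.conj x hx).resolve_left fun e => hxR (c.mem_R.2 ⟨hx, mul_inv_eq_iff_eq_mul.1 e⟩)

theorem uz_conj : ∃ x ∈ (S : Subgroup G), x * u1 * x⁻¹ = u1 * z0 := by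
  obtain ⟨x, hx, hne⟩ := c.moved
  exact ⟨x, hx, (c.conj x hx).resolve_left hne⟩

theorem conj_uz {x : G} (hx : x ∈ (S : Subgroup G)) (hxR : x ∉ c.R) :
    x * (u1 * z0) * x⁻¹ = u1 := by
  calc x * (u1 * z0) * x⁻¹ = x * u1 * x⁻¹ * (x * z0 * x⁻¹) := by group
    _ = u1 * z0 * z0 := by rw [c.moved_eq hx hxR, c.z_central x hx, mul_assoc z0, mul_inv_cancel, mul_one]
    _ = u1 := by rw [mul_assoc, c.z_sq, mul_one]

theorem relIndex : c.R.relIndex (S : Subgroup G) = 2 := by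
  obtain ⟨a, ha, hne⟩ := c.moved
  have haR : a ∉ c.R := fun e => hne (mul_inv_eq_iff_eq_mul.2 (c.mem_R.1 e).2)
  refine relIndex_eq_two_iff.2 ⟨a, ha, fun b hb => ?_⟩
  by_cases hbR : b ∈ c.R
  · exact Or.inr ⟨hbR, fun e => haR (by simpa using c.R.mul_mem (c.R.inv_mem hbR) e)⟩
  · refine Or.inl ⟨c.mem_R.2 ⟨(S : Subgroup G).mul_mem hb ha, mul_inv_eq_iff_eq_mul.1 ?_⟩, hbR⟩
    calc b * a * u1 * (b * a)⁻¹ = b * (a * u1 * a⁻¹) * b⁻¹ := by group
      _ = b * u1 * b⁻¹ * (b * z0 * b⁻¹) := by rw [c.moved_eq ha haR]; group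
      _ = u1 * z0 * z0 := by rw [c.moved_eq hb hbR, c.z_central b hb, mul_assoc z0, mul_inv_cancel, mul_one]
      _ = u1 := by rw [mul_assoc, c.z_sq, mul_one]

theorem sq_mem {x : G} (hx : x ∈ (S : Subgroup G)) : x * x ∈ c.R := by
  have := mul_mem_iff_of_index_two (H := c.R.subgroupOf (S : Subgroup G)) c.relIndex
    (a := (⟨x, hx⟩ : (S : Subgroup G))) (b := ⟨x, hx⟩)
  exact mem_subgroupOf.1 (this.2 Iff.rfl)

theorem S_le_normalizer_R : (S : Subgroup G) ≤ normalizer (c.R : Set G) := by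
  haveI := normal_of_index_eq_two (H := c.R.subgroupOf (S : Subgroup G)) c.relIndex
  exact (normal_subgroupOf_iff_le_normalizer c.R_le).1 inferInstance

theorem card_R (hk : Nat.card ↥(S : Subgroup G) = 2 ^ k) : Nat.card c.R = 2 ^ (k - 1) := by
  have h := Core.card_mul_relIndex c.R_le
  rw [c.relIndex, hk] at h
  rcases k with _ | k
  · simp at h
  · rw [pow_succ] at h
    simpa using Nat.eq_of_mul_eq_mul_right two_pos h

theorem inU_mem {x : G} (hx : c.InU x) : x ∈ c.R := by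
  rcases hx with rfl | rfl | rfl | rfl
  exacts [one_mem _, c.z_mem_R, c.u_mem_R, mul_mem c.u_mem_R c.z_mem_R]

theorem inU_comm {x w : G} (hw : c.InU w) (hx : x ∈ c.R) : x * w = w * x := by
  rcases hw with rfl | rfl | rfl | rfl
  · rw [mul_one, one_mul]
  · exact c.z_central x hx.1
  · exact (c.mem_R.1 hx).2
  · rw [← mul_assoc, (c.mem_R.1 hx).2, mul_assoc, c.z_central x hx.1, mul_assoc]

theorem inU_sq {w : G} (hw : c.InU w) : w * w = 1 := by
  rcases hw with rfl | rfl | rfl | rfl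
  · exact one_mul 1
  · exact c.z_sq
  · exact c.u_sq
  · rw [mul_assoc, ← mul_assoc z0, ← c.z_central u1 c.u_mem, mul_assoc, c.z_sq, mul_one, c.u_sq]

theorem inU_fixed {w x : G} (hw : c.InU w) (hx : x ∈ (S : Subgroup G)) (hxR : x ∉ c.R)
    (hfix : x * w * x⁻¹ = w) : w = 1 ∨ w = z0 := by
  rcases hw with rfl | rfl | rfl | rfl
  · exact Or.inl rfl
  · exact Or.inr rfl
  · rw [c.moved_eq hx hxR] at hfix
    exact absurd (mul_eq_left.1 hfix) c.z_ne
  · rw [c.conj_uz hx hxR] at hfix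
    exact absurd (mul_eq_left.1 hfix.symm) c.z_ne

/-- An element of order four with square `z₀` gives one centralized by `s`. -/
theorem exists_commuting {s x : G} (hs : s ∈ (S : Subgroup G)) (hsR : s ∉ c.R) (hs2 : s * s = 1)
    (hx : x ∈ c.R) (hx2 : x * x = z0) (hw : c.InU (x⁻¹ * (s * x * s⁻¹))) :
    ∃ y ∈ c.R, s * y = y * s ∧ y * y = z0 := by
  set w := x⁻¹ * (s * x * s⁻¹) with hwdef
  have hsx : s * x * s⁻¹ = x * w := by rw [hwdef]; group
  have hfix : s * w * s⁻¹ = w := by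
    have h1 : s * (x * w) * s⁻¹ = x := by
      rw [← hsx, show s * (s * x * s⁻¹) * s⁻¹ = (s * s) * x * (s * s)⁻¹ by group, hs2]
      group
    have h2 : x * (w * (s * w * s⁻¹)) = x := by
      rw [← mul_assoc, ← hsx]
      calc s * x * s⁻¹ * (s * w * s⁻¹) = s * (x * w) * s⁻¹ := by group
        _ = x := h1
    have h3 : w * (s * w * s⁻¹) = 1 := mul_eq_left.1 h2
    exact mul_left_cancel (h3.trans (c.inU_sq hw).symm)
  rcases c.inU_fixed hw hs hsR hfix with e | e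
  · rw [e, mul_one] at hsx
    exact ⟨x, hx, mul_inv_eq_iff_eq_mul.1 hsx, hx2⟩
  · rw [e] at hsx
    refine ⟨u1 * x, mul_mem c.u_mem_R hx, mul_inv_eq_iff_eq_mul.1 ?_, ?_⟩
    · calc s * (u1 * x) * s⁻¹ = s * u1 * s⁻¹ * (s * x * s⁻¹) := by group
        _ = u1 * z0 * (x * z0) := by rw [c.moved_eq hs hsR, hsx]
        _ = u1 * x := by
          rw [mul_assoc, ← mul_assoc z0, ← c.z_central x hx.1, mul_assoc x, c.z_sq, mul_one]
    · rw [mul_assoc, ← mul_assoc x, (c.mem_R.1 hx).2, mul_assoc u1 x, ← mul_assoc u1 u1, c.u_sq, one_mul, hx2]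

variable (h : Ctx G S k) (hbad : ¬ IsPGroup 2 ↥(centralizer ({u1} : Set G)))
include h hbad

/-- A conjugate of `z₀` is neither `u₁` nor `u₁ z₀`. -/
theorem eq_z_of_conj {w : G} (hw : c.InU w) {g : G} (hg : g * z0 * g⁻¹ = w) : w = z0 := by
  have key : ∀ g : G, g * z0 * g⁻¹ ≠ u1 := fun g hg => hbad (by
    have hS := h.cent_eq c.z_ne c.z_central
    refine (S.2.map (MulAut.conj g).toMonoidHom).to_le fun y hy => ⟨g⁻¹ * y * g, ?_, by simp [mul_assoc]⟩
    have := conj_mem_cent (g := g⁻¹) hy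
    rw [show g⁻¹ * u1 * g⁻¹⁻¹ = z0 by rw [← hg]; group, hS] at this
    show g⁻¹ * y * g ∈ (S : Subgroup G)
    simpa only [inv_inv] using this)
  rcases hw with rfl | rfl | rfl | rfl
  · exact absurd (conj_eq_one_iff.1 hg) c.z_ne
  · rfl
  · exact absurd hg (key g)
  · obtain ⟨x, -, hx⟩ := c.uz_conj
    refine absurd ?_ (key (x⁻¹ * g))
    calc x⁻¹ * g * z0 * (x⁻¹ * g)⁻¹ = x⁻¹ * (g * z0 * g⁻¹) * x := by group
      _ = x⁻¹ * (x * u1 * x⁻¹) * x := by rw [hg, hx]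
      _ = u1 := by group

/-- The square argument. -/
theorem square (ha : ∀ x ∈ (S : Subgroup G), x * x * (x * x) = 1 → c.InU (x * x))
    (hb : ∀ s ∈ (S : Subgroup G), s ∉ c.R → s * s = 1 → ∃ x ∈ c.R, s * x = x * s ∧ x * x = z0) : False := by
  classical
  have hne : ∃ s ∈ (S : Subgroup G), s ∉ c.R := by
    obtain ⟨x, hx, hx'⟩ := c.moved
    exact ⟨x, hx, fun e => hx' (mul_inv_eq_iff_eq_mul.2 (c.mem_R.1 e).2)⟩
  have hex : ∃ m, ∃ s ∈ (S : Subgroup G), s ∉ c.R ∧ orderOf s = m :=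
    let ⟨s, hs, hsR⟩ := hne; ⟨_, s, hs, hsR, rfl⟩
  obtain ⟨s, hs, hsR, hord⟩ := Nat.find_spec hex
  have hmin : ∀ x ∈ (S : Subgroup G), orderOf x < orderOf s → x ∈ c.R := fun x hx hlt => by
    by_contra hxR
    exact Nat.find_min hex (hord ▸ hlt) ⟨x, hx, hxR, rfl⟩
  obtain ⟨g, hgA, hgc⟩ := conj_into_min h.na S c.relIndex hs hmin
  have hS := h.cent_eq c.z_ne c.z_central
  -- `g` fixes `z₀`
  suffices hfix : g * z0 * g⁻¹ = z0 by
    have hgS : g ∈ (S : Subgroup G) := hS ▸ mem_cent.2 (mul_inv_eq_iff_eq_mul.1 hfix)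
    have := (mem_normalizer_iff''.1 (c.S_le_normalizer_R hgS) _).1 hgA
    exact hsR (by simpa [mul_assoc] using this)
  have key : ∀ x ∈ (S : Subgroup G), x * s = s * x → x * x = z0 → g * z0 * g⁻¹ = z0 := by
    intro x hx hxs hx2
    have hx' := hgc x hx hxs
    have e : g * x * g⁻¹ * (g * x * g⁻¹) = g * z0 * g⁻¹ := by rw [← hx2]; group
    have hU : c.InU (g * z0 * g⁻¹) := e ▸ ha _ hx' (by
      rw [e, show g * z0 * g⁻¹ * (g * z0 * g⁻¹) = g * (z0 * z0) * g⁻¹ by group, c.z_sq]; group)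
    exact c.eq_z_of_conj h hbad hU rfl
  obtain ⟨t, ht⟩ := S.2 ⟨s, hs⟩
  have ht' : s ^ 2 ^ t = 1 := congrArg Subtype.val ht
  obtain ⟨m, -, hm⟩ := (Nat.dvd_prime_pow Nat.prime_two).1 (orderOf_dvd_of_pow_eq_one ht')
  rcases m with _ | _ | m
  · rw [pow_zero, orderOf_eq_one_iff] at hm
    exact absurd (hm ▸ c.R.one_mem) hsR
  · rw [pow_one] at hm
    obtain ⟨x, hx, hxs, hx2⟩ := hb s hs hsR (sq_of_orderOf hm).1
    exact key x hx.1 hxs.symm hx2
  · set x := s ^ 2 ^ m with hx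
    have hxS : x ∈ (S : Subgroup G) := pow_mem hs _
    have hx4 : orderOf x = 4 := by
      rw [hx, orderOf_pow_of_dvd (by positivity) (by rw [hm]; exact pow_dvd_pow 2 (by omega)), hm]
      rw [show m + 1 + 1 = 2 + m by omega, pow_add, Nat.mul_div_cancel _ (by positivity)]
      norm_num
    have hxx : x * x * (x * x) = 1 := by
      rw [← pow_two x, ← pow_add, show 2 + 2 = orderOf x by rw [hx4], pow_orderOf_eq_one]
    have hxs : x * s = s * x := ((Commute.refl s).pow_left _).eq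
    have hfixs : s * (x * x) * s⁻¹ = x * x := by
      rw [← mul_assoc, ← hxs, mul_assoc x, ← hxs, ← mul_assoc, mul_assoc, mul_inv_cancel, mul_one]
    have hxxne : x * x ≠ 1 := fun e => by
      have := orderOf_dvd_of_pow_eq_one (show x ^ 2 = 1 by rw [pow_two]; exact e)
      rw [hx4] at this
      norm_num at this
    exact key x hxS hxs ((c.inU_fixed (ha x hxS hxx) hs hsR hfixs).resolve_left hxxne)

end NC

end Cfsg.Lib.LenEight
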