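import Cfsg.Agent.Lib.LenEight.StepU

/-!
# Every involution has a 2-group centralizer
-/

set_option autoImplicit false
set_option linter.style.haveILetI false

namespace Cfsg.Lib.LenEight

open Subgroup Cfsg

universe u

variable {G : Type u} [Group G]

/-- A normal four-group of `S` whose involutions have 2-group centralizers, centralized by an extremal
conjugate of every involution. -/
structure FourU (S : Sylow 2 G) (U : Subgroup G) : Prop where
  four : IsFour U
  le : U ≤ (S : Subgroup G)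
  normal : (S : Subgroup G) ≤ normalizer (U : Set G)
  good : ∀ e ∈ U, e ≠ 1 → IsPGroup 2 ↥(centralizer ({e} : Set G))
  into : ∀ x : G, x * x = 1 → ∃ g : G, g⁻¹ * x * g ∈ (S : Subgroup G) ∧
    (∀ e ∈ U, g⁻¹ * x * g * e = e * (g⁻¹ * x * g)) ∧
    ∀ Q : Subgroup G, IsPGroup 2 Q → Q ≤ centralizer ({g⁻¹ * x * g} : Set G) →
      Nat.card Q ≤ Nat.card ↥((S : Subgroup G) ⊓ centralizer ({g⁻¹ * x * g} : Set G))

/-- Two elementary abelian self-centralizing subgroups of index two contain all involutions. -/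
theorem mem_or_mem_of_sq {T A B : Subgroup G} (hAT : A ≤ T) (hBT : B ≤ T) (hAe : ∀ a ∈ A, a * a = 1)
    (hBe : ∀ b ∈ B, b * b = 1) (hA2 : A.relIndex T = 2) (hB2 : B.relIndex T = 2)
    (hAc : ∀ t ∈ T, (∀ a ∈ A, a * t = t * a) → t ∈ A) (hne : ¬ B ≤ A) {r : G} (hr : r ∈ T) (hr2 : r * r = 1) :
    r ∈ A ∨ r ∈ B := by
  by_contra hcon
  push Not at hcon
  obtain ⟨b, hbB, hbA⟩ := SetLike.not_le_iff_exists.1 hne
  have hcomm : ∀ {x y : G}, x * x = 1 → y * y = 1 → x * y * (x * y) = 1 → x * y = y * x := fun {x y} h1 h2 h3 => by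
    calc x * y = (x * y)⁻¹ := (inv_self h3).symm
      _ = y * x := by rw [mul_inv_rev, inv_self h1, inv_self h2]
  have haA : r * b ∈ A :=
    mem_subgroupOf.1 ((mul_mem_iff_of_index_two (H := A.subgroupOf T) hA2 (a := ⟨r, hr⟩) (b := ⟨b, hBT hbB⟩)).2
      (iff_of_false (fun e => hcon.1 (mem_subgroupOf.1 e)) (fun e => hbA (mem_subgroupOf.1 e))))
  have haB : r * b ∉ B := fun e => hcon.2 ((B.mul_mem_cancel_right hbB).1 e)
  have hab : r * b * b = b * (r * b) :=
    hcomm (hAe _ haA) (hBe b hbB) (by rw [mul_assoc r, hBe b hbB, mul_one, hr2])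
  refine hbA (hAc b (hBT hbB) fun a ha => ?_)
  by_cases haB' : a ∈ B
  · exact hcomm (hBe a haB') (hBe b hbB) (hBe _ (B.mul_mem haB' hbB))
  · have hw : (r * b) * a ∈ B :=
      mem_subgroupOf.1 ((mul_mem_iff_of_index_two (H := B.subgroupOf T) hB2 (a := ⟨r * b, hAT haA⟩)
        (b := ⟨a, hAT ha⟩)).2 (iff_of_false (fun e => haB (mem_subgroupOf.1 e)) (fun e => haB' (mem_subgroupOf.1 e))))
    have hwb : r * b * a * b = b * (r * b * a) := hcomm (hBe _ hw) (hBe b hbB) (hBe _ (B.mul_mem hw hbB))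
    have ha' : a = r * b * (r * b * a) := by rw [← mul_assoc, hAe _ haA, one_mul]
    rw [ha']
    calc r * b * (r * b * a) * b = r * b * (r * b * a * b) := by group
      _ = r * b * (b * (r * b * a)) := by rw [hwb]
      _ = r * b * b * (r * b * a) := by group
      _ = b * (r * b) * (r * b * a) := by rw [hab]
      _ = b * (r * b * (r * b * a)) := by group

variable [Finite G] [IsSimpleGroup G] {S : Sylow 2 G} {k : ℕ}

theorem Ctx.card_cent_le (h : Ctx G S k) {z : G} (hz : z * z = 1) (hz1 : z ≠ 1) (hzS : z ∈ (S : Subgroup G))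
    (hbad : ¬ IsPGroup 2 ↥(centralizer ({z} : Set G))) :
    Nat.card ↥((S : Subgroup G) ⊓ centralizer ({z} : Set G)) ≤ 2 ^ (k - 2) := by
  haveI : Fact (Nat.Prime 2) := ⟨Nat.prime_two⟩
  set T := (S : Subgroup G) ⊓ centralizer ({z} : Set G) with hT
  obtain ⟨j, hjk, hj⟩ := (Nat.dvd_prime_pow Nat.prime_two).1 (h.card ▸ card_dvd_of_le (inf_le_left : T ≤ _))
  rw [hj]
  refine Nat.pow_le_pow_right two_pos ?_
  by_contra hlt
  rcases (show j = k ∨ j = k - 1 by omega) with e | e
  · have hTS : T = (S : Subgroup G) := eq_of_le_of_card_ge inf_le_left (by rw [hj, h.card, e])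
    refine hbad ?_
    rw [h.cent_eq hz1 fun x hx => mem_cent.1 (hTS.ge hx).2]
    exact S.2
  · have hrel : T.relIndex (S : Subgroup G) = 2 := by
      have e1 := Core.card_mul_relIndex (inf_le_left : T ≤ (S : Subgroup G))
      rw [hj, h.card, e, show 2 ^ k = 2 ^ (k - 1) * 2 by rw [← pow_succ]; congr 1; have := h.four_le; omega] at e1
      exact Nat.eq_of_mul_eq_mul_left (by positivity) e1
    haveI := normal_of_index_eq_two (H := T.subgroupOf (S : Subgroup G)) hrel
    have hSn : (S : Subgroup G) ≤ normalizer (T : Set G) :=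
      (normal_subgroupOf_iff_le_normalizer inf_le_left).1 inferInstance
    obtain ⟨s, hs, hsT⟩ : ∃ s ∈ (S : Subgroup G), s ∉ T := SetLike.not_le_iff_exists.1 fun hle => by
      rw [relIndex_eq_one.2 hle] at hrel
      omega
    set z' := s * z * s⁻¹ with hz'def
    have hzT : z ∈ T := ⟨hzS, mem_cent.2 rfl⟩
    have hz'T : z' ∈ T := (mem_normalizer_iff.1 (hSn hs) z).1 hzT
    have hz'ne : z' ≠ z := fun e' => hsT ⟨hs, mem_cent.2 (mul_inv_eq_iff_eq_mul.1 e')⟩
    have hz'c : ∀ t ∈ T, t * z' = z' * t := fun t ht => by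
      have h1 := mem_cent.1 ((mem_normalizer_iff''.1 (hSn hs) t).1 ht).2
      calc t * z' = s * (s⁻¹ * t * s * z) * s⁻¹ := by rw [hz'def]; group
        _ = s * (z * (s⁻¹ * t * s)) * s⁻¹ := by rw [h1]
        _ = z' * t := by rw [hz'def]; group
    have hzc : ∀ t ∈ T, t * z = z * t := fun t ht => mem_cent.1 ht.2
    have hzz' : z * z' = z' * z := hz'c z hzT
    have hs2 : s * s ∈ T := mem_subgroupOf.1 ((mul_mem_iff_of_index_two
      (H := T.subgroupOf (S : Subgroup G)) hrel (a := ⟨s, hs⟩) (b := ⟨s, hs⟩)).2 Iff.rfl)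
    have hsz' : s * z' * s⁻¹ = z := by
      rw [hz'def, show s * (s * z * s⁻¹) * s⁻¹ = s * s * z * (s * s)⁻¹ by group, hzc _ hs2, mul_assoc,
        mul_inv_cancel, mul_one]
    have hz'2 : z' * z' = 1 := by
      rw [hz'def, show s * z * s⁻¹ * (s * z * s⁻¹) = s * (z * z) * s⁻¹ by group, hz]; group
    have hsplit : ∀ x ∈ (S : Subgroup G), x ∉ T → s⁻¹ * x ∈ T := fun x hx hxT =>
      mem_subgroupOf.1 ((mul_mem_iff_of_index_two (H := T.subgroupOf (S : Subgroup G)) hrel
        (a := (⟨s, hs⟩ : (S : Subgroup G))⁻¹) (b := ⟨x, hx⟩)).2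
        (iff_of_false (fun h' => hsT (by simpa using mem_subgroupOf.1 h')) (fun h' => hxT (mem_subgroupOf.1 h'))))
    have hzz1 : z * (z * z') = z' := by rw [← mul_assoc, hz, one_mul]
    have c : NC S (z * z') z := by
      refine ⟨(S : Subgroup G).mul_mem hzS hz'T.1, ?_, fun e' => hz'ne ?_, fun x hx => ?_, hzS, hz, hz1,
        fun x hx => ?_, ⟨s, hs, hz'ne⟩⟩
      · rw [(show Commute z z' from hzz').symm.mul_mul_mul_comm, hz, hz'2, one_mul]
      · rw [← inv_eq_of_mul_eq_one_right e', inv_self hz]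
      · refine mul_inv_eq_iff_eq_mul.1 ?_
        by_cases hxT : x ∈ T
        · rw [← mul_assoc, hzc x hxT, mul_assoc z, hz'c x hxT]; group
        · have ht := hsplit x hx hxT
          calc x * (z * z') * x⁻¹
              = s * ((s⁻¹ * x) * z * z' * (s⁻¹ * x)⁻¹) * s⁻¹ := by group
            _ = s * (z * (s⁻¹ * x * z') * (s⁻¹ * x)⁻¹) * s⁻¹ := by rw [hzc _ ht]; group
            _ = s * z * s⁻¹ * (s * z' * s⁻¹) := by rw [hz'c _ ht]; group
            _ = z * z' := by rw [hsz', ← hz'def, hzz']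
      · rw [hzz1]
        by_cases hxT : x ∈ T
        · exact Or.inl (mul_inv_eq_iff_eq_mul.2 (hzc x hxT))
        · refine Or.inr ?_
          calc x * z * x⁻¹ = s * ((s⁻¹ * x) * z * (s⁻¹ * x)⁻¹) * s⁻¹ := by group
            _ = z' := by rw [hzc _ (hsplit x hx hxT), hz'def]; group
    exact hbad (c.isPGroup_cent h)

/-- A nonconstrained group in the centralizer of an involution whose Sylow subgroup normalizes `U`. -/
theorem FourU.nonconstrained (h : Ctx G S k) {U : Subgroup G} (hU : FourU S U) {X T : Subgroup G}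
    (hTX : T ≤ X) (hTS : T ≤ (S : Subgroup G)) (hUT : U ≤ T) (hX : ¬ IsPGroup 2 X) (hXtop : X ≠ ⊤)
    (hmax : ∀ Z : Subgroup G, T < Z → Z ≤ X → Z = X) (hT : Nat.card T ≤ 2 ^ (k - 2))
    (hQne : pCore 2 X ≠ ⊥) (hncons : ¬ centralizer (pCore 2 X : Set X) ≤ pCore 2 X) : False := by
  classical
  haveI : Fact (Nat.Prime 2) := ⟨Nat.prime_two⟩
  have hTp : IsPGroup 2 T := S.2.to_le hTS
  set T' := T.subgroupOf X with hT'def
  have hT'p : IsPGroup 2 T' := hTp.comap_subtype
  have hT'c : IsCoatom T' := by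
    refine ⟨fun e => hX (hTp.to_le (subgroupOf_eq_top.1 e)), fun M hM => ?_⟩
    have hle : T ≤ M.map X.subtype := by
      conv_lhs => rw [← map_subgroupOf_eq_of_le hTX]
      exact map_mono hM.le
    rcases eq_or_lt_of_le hle with e | e
    · refine absurd ?_ hM.ne
      rw [hT'def, subgroupOf, e, comap_map_eq_self_of_injective X.subtype_injective]
    · have h' := hmax _ e (map_subtype_le M)
      refine eq_top_iff.2 fun x _ => ?_
      obtain ⟨y, hy, e'⟩ := (h'.symm ▸ x.2 : (x : G) ∈ M.map X.subtype)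
      exact Subtype.ext e' ▸ hy
  set Q := pCore 2 ↥X with hQ
  set f := QuotientGroup.mk' Q with hf
  have hQT : Q ≤ T' := pCore_le hT'p hT'c hX
  have hlen7 : ∀ {n : ℕ}, Chain (⊤ : Subgroup (X ⧸ Q)) n → n ≤ 7 := fun hn => by
    obtain ⟨q, hq⟩ := IsPGroup.iff_card.1 (Core.pCore_isPGroup 2 ↥X)
    have := (h.len_proper hXtop).subtype.chain_le (chain_quotient hq hn)
    omega
  rcases odd_or_as hT'p hT'c hX hncons (fun hn => by have := hlen7 hn; omega) with
    ⟨W, hWn, hW, hWodd⟩ | ⟨L, has, hLC⟩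
  · set W' := W.map X.subtype with hW'
    have hodd' : Odd (Nat.card W') := by rwa [hW', card_map_of_injective X.subtype_injective]
    have hUn : U ≤ normalizer (W' : Set G) := fun e he => by
      refine mem_normalizer_iff.2 fun w => ?_
      constructor
      · rintro ⟨w', hw', rfl⟩
        exact ⟨⟨e, hTX (hUT he)⟩ * w' * ⟨e, hTX (hUT he)⟩⁻¹, hWn.conj_mem w' hw' _, rfl⟩
      · rintro ⟨w', hw', e'⟩
        refine ⟨⟨e, hTX (hUT he)⟩⁻¹ * w' * ⟨e, hTX (hUT he)⟩, by
          simpa using hWn.conj_mem w' hw' ⟨e, hTX (hUT he)⟩⁻¹, ?_⟩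
        show e⁻¹ * (w' : G) * e = w
        rw [show (w' : G) = e * w * e⁻¹ from e']; group
    have hgen := EightThree.le_iSup_of_four hU.four.2 (hU.four.1.ge) hUn hodd'
    refine hW ((map_eq_bot_iff_of_injective _ X.subtype_injective).1
      (le_bot_iff.1 (hgen.trans (iSup_le fun e => ?_))))
    obtain ⟨j, hj⟩ := IsPGroup.iff_card.1
      ((hU.good e e.2.1 e.2.2).to_le (inf_le_right : W' ⊓ centralizer ({(e : G)} : Set G) ≤ _))
    have hdvd := card_dvd_of_le (inf_le_left : W' ⊓ centralizer ({(e : G)} : Set G) ≤ W')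
    rw [hj] at hdvd
    rcases j with _ | j
    · exact (card_eq_one.1 hj).le
    · exact absurd (hodd'.of_dvd_nat hdvd) (Nat.not_odd_iff_even.2 (Nat.even_pow.2 ⟨even_two, by omega⟩))
  -- the image of `U` is a normal four-group of the image of `T`
  set UX := U.subgroupOf X with hUX
  have hU4 : IsFour UX := ⟨by rw [hUX, Nat.card_congr (subgroupOfEquivOfLe (hUT.trans hTX)).toEquiv, hU.four.1],
    fun x hx => Subtype.ext (hU.four.2 _ (mem_subgroupOf.1 hx))⟩
  have hinj : ∀ x ∈ UX, f x = 1 → x = 1 := by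
    intro x hx hfx
    by_contra hx1
    have hxQ : x ∈ Q := (QuotientGroup.eq_one_iff _).1 hfx
    have hgood := hU.good x (mem_subgroupOf.1 hx) fun e => hx1 (Subtype.ext e)
    have hCp : IsPGroup 2 ↥(centralizer (Q : Set X)) := by
      have hp : IsPGroup 2 ↥((centralizer (Q : Set X)).map X.subtype) := hgood.to_le (by
        rintro _ ⟨y, hy, rfl⟩
        exact mem_cent.2 (congrArg Subtype.val (mem_centralizer_iff.1 hy x hxQ)).symm)
      intro y
      obtain ⟨j, hj⟩ := hp ⟨_, mem_map_of_mem X.subtype y.2⟩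
      exact ⟨j, Subtype.ext (Subtype.ext (congrArg Subtype.val hj :))⟩
    haveI := ((hCp.map f).to_le hLC).isNilpotent
    haveI := has.simple
    exact not_solvable_simple has.na inferInstance
  set Tb := T'.map f with hTb
  have hUb := hU4.map f hinj
  have hUle : UX.map f ≤ Tb := map_mono (comap_mono hUT)
  have hUn : Tb ≤ normalizer ((UX.map f : Subgroup (X ⧸ Q)) : Set (X ⧸ Q)) := by
    refine le_trans (map_mono ?_) (le_normalizer_map f)
    intro x hx
    refine mem_normalizer_iff.2 fun y => ?_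
    exact mem_normalizer_iff.1 (hU.normal (hTS (mem_subgroupOf.1 hx))) (y : G)
  -- the size of the image of `T`
  obtain ⟨t, ht⟩ := IsPGroup.iff_card.1 (hT'p.map f : IsPGroup 2 Tb)
  have ht4 : t ≤ 4 := by
    obtain ⟨q, hq⟩ := IsPGroup.iff_card.1 (Core.pCore_isPGroup 2 ↥X)
    have hq1 : 1 ≤ q := Nat.one_le_iff_ne_zero.2 fun e => hQne (card_eq_one.1 (by rw [hq, e, pow_zero]))
    have h1 := (f.subgroupMap T').ker.card_mul_index
    rw [index_ker, MonoidHom.range_eq_top.2 (f.subgroupMap_surjective T'), card_top, ht,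
      show (f.subgroupMap T').ker = Q.subgroupOf T' by
        ext y
        rw [MonoidHom.mem_ker, mem_subgroupOf]
        exact ⟨fun h => (QuotientGroup.eq_one_iff _).1 (congrArg Subtype.val h :),
          fun h => Subtype.ext ((QuotientGroup.eq_one_iff _).2 h)⟩,
      Nat.card_congr (subgroupOfEquivOfLe hQT).toEquiv, hq, ← pow_add,
      Nat.card_congr (subgroupOfEquivOfLe hTX).toEquiv] at h1
    rw [← h1] at hT
    have := (Nat.pow_le_pow_iff_right (by norm_num : 1 < 2)).1 hT
    have := h.le_seven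
    omega
  obtain ⟨b, hb3, hb⟩ := has.card_inf
  have hcm := has.card_mul_index
  rw [hb, ht] at hcm
  obtain ⟨i, -, hi⟩ : ∃ i ≤ t, L.index = 2 ^ i :=
    (Nat.dvd_prime_pow Nat.prime_two).1 ⟨2 ^ b, by rw [mul_comm]; exact hcm.symm⟩
  rw [hi, ← pow_add] at hcm
  have hbi : b + i = t := Nat.pow_right_injective le_rfl hcm
  rcases (show b = 3 ∨ (b = 4 ∧ i = 0) by omega) with rfl | ⟨rfl, rfl⟩
  · obtain ⟨D⟩ := has.dih_of_eight (by rw [hb]; norm_num)
    have hDn : D.n = 4 := by
      have := D.card_eq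
      rw [hb] at this
      omega
    refine D.no_normal_four has ?_ hUb hUle hUn
    rcases (show i = 0 ∨ i = 1 by omega) with rfl | rfl
    · exact Or.inl (hi.trans (pow_zero 2))
    · exact Or.inr ⟨hDn, hi.trans (pow_one 2)⟩
  · haveI := has.simple
    obtain ⟨SL, hSL⟩ := has.exists_sylow_inf
    have hLtop : L = ⊤ := index_eq_one.1 (hi.trans (pow_zero 2))
    have hcit : CIT.IsCIT L := by
      refine h.ih L has.na ?_ SL 4 (by rw [has.card_sylow, hb]) le_rfl (by norm_num) ?_ ?_ (fun h5 => by omega)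
      · calc Nat.card L ≤ Nat.card (X ⧸ Q) := Nat.le_of_dvd Nat.card_pos (card_subgroup_dvd_card L)
          _ ≤ Nat.card X := Nat.le_of_dvd Nat.card_pos ⟨Nat.card Q, card_eq_card_quotient_mul_card_subgroup Q⟩
          _ < Nat.card G := Core.lt_card_of_ne_top hXtop
      · rw [hSL]
        refine ⟨fun e => has.coatom.1 (top_le_iff.1 (hLtop ▸ subgroupOf_eq_top.1 e)), fun M hM => ?_⟩
        have hle : Tb ≤ M.map L.subtype := by
          conv_lhs => rw [← map_subgroupOf_eq_of_le (hLtop ▸ le_top : Tb ≤ L)]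
          exact map_mono hM.le
        rcases eq_or_lt_of_le hle with e | e
        · refine absurd ?_ hM.ne
          show Tb.subgroupOf L = M
          rw [subgroupOf, e, comap_map_eq_self_of_injective L.subtype_injective]
        · have h' := has.coatom.2 _ e
          refine eq_top_iff.2 fun x _ => ?_
          obtain ⟨y, hy, e'⟩ := (h'.symm ▸ mem_top (x : X ⧸ Q) : (x : X ⧸ Q) ∈ M.map L.subtype)
          exact Subtype.ext e' ▸ hy
      · intro hn
        have := hlen7 (has.chain_add hn hi)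
        omega
    obtain ⟨D⟩ := has.dih_of_cit hcit (by rw [hb]; norm_num)
    exact D.no_normal_four has (Or.inl (hi.trans (pow_zero 2))) hUb hUle hUn

omit [IsSimpleGroup G] in
theorem card_le_multiplicity {X R : Subgroup G} (hR : IsPGroup 2 R) (hle : R ≤ X) :
    Nat.card R ≤ 2 ^ (Nat.card X).factorization 2 := by
  haveI : Fact (Nat.Prime 2) := ⟨Nat.prime_two⟩
  obtain ⟨P, hP⟩ := (hR.comap_subtype : IsPGroup 2 ↥(R.subgroupOf X)).exists_le_sylow
  rw [← Nat.card_congr (subgroupOfEquivOfLe hle).toEquiv, ← P.card_eq_multiplicity]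
  exact Nat.le_of_dvd Nat.card_pos (card_dvd_of_le hP)

/-- Every involution centralizer is a 2-group. -/
theorem FourU.isCIT (h : Ctx G S k) {U : Subgroup G} (hU : FourU S U) : CIT.IsCIT G := by
  classical
  haveI : Fact (Nat.Prime 2) := ⟨Nat.prime_two⟩
  intro z hz
  by_contra hbad
  obtain ⟨hz2, hz1⟩ := sq_of_orderOf hz
  let Mem : Subgroup G → Prop := fun X => ¬ IsPGroup 2 X ∧
    ∃ N : Subgroup G, N ≠ ⊥ ∧ IsPGroup 2 N ∧ N ≤ X ∧ X ≤ normalizer (N : Set G)
  let key : Subgroup G → ℕ := fun X => (k - (Nat.card X).factorization 2) * (Nat.card G + 1) + Nat.card X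
  have hex : ∃ m, ∃ X, Mem X ∧ key X = m := by
    refine ⟨_, centralizer ({z} : Set G), ⟨hbad, zpowers z, fun e => hz1 (zpowers_eq_bot.1 e), ?_, ?_, ?_⟩, rfl⟩
    · exact IsPGroup.of_card (n := 1) (by rw [Nat.card_zpowers, hz, pow_one])
    · exact zpowers_le.2 (mem_cent.2 rfl)
    · exact le_normalizer_zpowers fun x hx => mem_cent.1 hx
  obtain ⟨X, ⟨hX, N0, hN0, hN0p, hN0X, hN0n⟩, hkey⟩ := Nat.find_spec hex
  have hmin : ∀ Y : Subgroup G, Mem Y → key X ≤ key Y := fun Y hY => by
    rw [hkey]; exact Nat.find_min' hex ⟨Y, hY, rfl⟩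
  have hfk : ∀ Y : Subgroup G, (Nat.card Y).factorization 2 ≤ k := fun Y => by
    obtain ⟨P⟩ : Nonempty (Sylow 2 Y) := inferInstance
    obtain ⟨P', hP'⟩ := (P.2.map Y.subtype).exists_le_sylow
    have h1 := Nat.le_of_dvd Nat.card_pos (card_dvd_of_le hP')
    rw [card_map_of_injective Y.subtype_injective, P.card_eq_multiplicity, P'.card_eq_multiplicity,
      ← S.card_eq_multiplicity, h.card] at h1
    exact (Nat.pow_le_pow_iff_right (by norm_num : 1 < 2)).1 h1
  set t := (Nat.card X).factorization 2 with ht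
  -- a larger 2-part would contradict the choice
  have hbound : ∀ Y : Subgroup G, Mem Y → (Nat.card Y).factorization 2 ≤ t := by
    intro Y hY
    by_contra hlt
    have h1 := hmin Y hY
    simp only [key, ← ht] at h1
    have h2 : (k - (Nat.card Y).factorization 2) + 1 ≤ k - t := by have := hfk Y; omega
    have h3 : Nat.card Y ≤ Nat.card G := Nat.le_of_dvd Nat.card_pos (card_subgroup_dvd_card Y)
    have h4 := Nat.mul_le_mul_right (Nat.card G + 1) h2
    have := Nat.card_pos (α := X)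
    rw [add_mul, one_mul] at h4
    omega
  obtain ⟨TX⟩ : Nonempty (Sylow 2 X) := inferInstance
  set T := (TX : Subgroup X).map X.subtype with hT
  have hTX : T ≤ X := map_subtype_le _
  have hTp : IsPGroup 2 T := TX.2.map _
  have hTc : Nat.card T = 2 ^ t := by rw [hT, card_map_of_injective X.subtype_injective, TX.card_eq_multiplicity]
  have hN0T : N0 ≤ T := by
    have hNn : (N0.subgroupOf X).Normal := (normal_subgroupOf_iff_le_normalizer hN0X).2 hN0n
    rw [← map_subgroupOf_eq_of_le hN0X]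
    exact map_mono ((Core.le_pCore' hNn hN0p.comap_subtype).trans (Core.pCore_le_sylow TX))
  have hXtop : X ≠ ⊤ := fun e => by
    have hn : N0.Normal := normalizer_eq_top_iff.1 (top_le_iff.1 (e ▸ hN0n))
    rcases hn.eq_bot_or_eq_top with r | r
    · exact hN0 r
    · exact h.not_isPGroup_top fun g => by
        obtain ⟨j, hj⟩ := hN0p ⟨g, r ▸ mem_top g⟩
        exact ⟨j, congrArg Subtype.val hj⟩
  have hmaxX : ∀ Z : Subgroup G, T < Z → Z ≤ X → Z = X := by
    intro Z hlt hle
    have hZp : ¬ IsPGroup 2 Z := fun hp => by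
      have h1 := card_le_multiplicity hp hle
      rw [← ht, ← hTc] at h1
      exact hlt.ne (eq_of_le_of_card_ge hlt.le h1)
    have hZ : Mem Z := ⟨hZp, N0, hN0, hN0p, hN0T.trans hlt.le, hle.trans hN0n⟩
    have h1 := hmin Z hZ
    have h2 : (Nat.card Z).factorization 2 = t := le_antisymm (hbound Z hZ) (by
      have := card_le_multiplicity hTp hlt.le
      rw [hTc] at this
      exact (Nat.pow_le_pow_iff_right (by norm_num : 1 < 2)).1 this)
    simp only [key, ← ht, h2] at h1
    exact eq_of_le_of_card_ge hle (by omega)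
  obtain ⟨P, hTP⟩ := hTp.exists_le_sylow
  obtain ⟨g, hg⟩ := MulAction.exists_smul_eq G S P
  have hmapP : (S : Subgroup G).map (MulAut.conj g).toMonoidHom = (P : Subgroup G) := by
    rw [← hg, Sylow.coe_subgroup_smul]; rfl
  have hTlt : T < (P : Subgroup G) := lt_of_le_of_ne hTP fun e => by
    have hSX : (S : Subgroup G) ≤ X.map (MulAut.conj g⁻¹).toMonoidHom := fun x hx =>
      ⟨g * x * g⁻¹, hTX (e ▸ hmapP ▸ ⟨x, hx, rfl⟩), by simp [mul_assoc]⟩
    rcases eq_or_lt_of_le hSX with e' | e'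
    · refine hX (((S.2.map (MulAut.conj g).toMonoidHom)).to_le fun x hx => ⟨g⁻¹ * x * g, ?_, by simp [mul_assoc]⟩)
      show g⁻¹ * x * g ∈ (S : Subgroup G)
      rw [e']
      exact ⟨x, hx, by simp⟩
    · refine hXtop (eq_top_iff.2 fun x _ => ?_)
      obtain ⟨y, hy, hyx⟩ := (h.coatom.2 _ e').ge (mem_top (g⁻¹ * x * g))
      change g⁻¹ * y * g⁻¹⁻¹ = g⁻¹ * x * g at hyx
      rw [inv_inv] at hyx
      exact mul_left_cancel (mul_right_cancel hyx) ▸ hy
  obtain ⟨u, huP, huT, hun, hu2⟩ : ∃ u ∈ (P : Subgroup G), u ∉ T ∧ u ∈ normalizer (T : Set G) ∧ u * u ∈ T := by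
    obtain ⟨v, hv, hvT, hvn⟩ := exists_normalizer_grow P.2 hTlt
    have hexv : ∃ j, v ^ 2 ^ j ∈ T := by
      obtain ⟨j, hj⟩ := P.2 ⟨v, hv⟩
      exact ⟨j, (show v ^ 2 ^ j = 1 from congrArg Subtype.val hj) ▸ one_mem _⟩
    have hj0 : Nat.find hexv ≠ 0 := fun e => hvT (by simpa [e] using Nat.find_spec hexv)
    refine ⟨v ^ 2 ^ (Nat.find hexv - 1), pow_mem hv _, Nat.find_min hexv (by omega), pow_mem hvn _, ?_⟩
    rw [← pow_add, ← two_mul, ← pow_succ', show Nat.find hexv - 1 + 1 = Nat.find hexv by omega]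
    exact Nat.find_spec hexv
  have hNle : ∀ N : Subgroup G, N ≤ T → N ≠ ⊥ → X ≤ normalizer (N : Set G) →
      ∀ R : Subgroup G, IsPGroup 2 R → R ≤ normalizer (N : Set G) → Nat.card R ≤ 2 ^ t := by
    intro N hN hne hXn R hR hRn
    refine (card_le_multiplicity hR hRn).trans (Nat.pow_le_pow_right two_pos (hbound _ ⟨fun hp => hX (hp.to_le hXn),
      N, hne, hTp.to_le hN, le_normalizer, le_rfl⟩))
  by_cases hcons : centralizer (pCore 2 X : Set X) ≤ pCore 2 X
  swap
  · -- an involution of `O₂(X)` central in `X`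
    have hQne : pCore 2 ↥X ≠ ⊥ := fun e => hN0 (by
      have hNn : (N0.subgroupOf X).Normal := (normal_subgroupOf_iff_le_normalizer hN0X).2 hN0n
      have h1 := Core.le_pCore' hNn hN0p.comap_subtype
      rw [e, le_bot_iff, subgroupOf_eq_bot] at h1
      exact h1.eq_bot_of_le hN0X)
    set T' := T.subgroupOf X
    have hT'p : IsPGroup 2 T' := hTp.comap_subtype
    have hT'S : T' = (TX : Subgroup X) := comap_map_eq_self_of_injective X.subtype_injective _
    have hT'c : IsCoatom T' := by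
      refine ⟨fun e => hX (hTp.to_le (subgroupOf_eq_top.1 e)), fun M hM => ?_⟩
      have hle : T ≤ M.map X.subtype := by
        conv_lhs => rw [← map_subgroupOf_eq_of_le hTX]
        exact map_mono hM.le
      rcases eq_or_lt_of_le hle with e | e
      · refine absurd ?_ hM.ne
        show T.subgroupOf X = M
        rw [subgroupOf, e, comap_map_eq_self_of_injective X.subtype_injective]
      · have h' := hmaxX _ e (map_subtype_le M)
        refine eq_top_iff.2 fun x _ => ?_
        obtain ⟨y, hy, e'⟩ := (h'.symm ▸ x.2 : (x : G) ∈ M.map X.subtype)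
        exact Subtype.ext e' ▸ hy
    obtain ⟨e, heQ, he2, he1, hec⟩ := exists_fixed_involution hT'p
      (pCore_le hT'p hT'c hX) hQne ((le_top).trans (normalizer_eq_top_iff.2 inferInstance).ge)
    have hecX : ∀ x : X, x * e = e * x := by
      have hle : (⊤ : Subgroup X) ≤ centralizer ({e} : Set X) := by
        rw [← centralizer_sup hT'p hT'c hX hcons]
        exact sup_le (fun x hx => mem_cent.2 (mem_centralizer_iff.1 hx e heQ).symm) (le_cent_iff.2 hec)
      exact fun x => mem_cent.1 (hle (mem_top x))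
    obtain ⟨g', hgS, hgU, hgmax⟩ := hU.into (e : G) (congrArg Subtype.val he2)
    set z' := g'⁻¹ * (e : G) * g' with hz'
    have hz'1 : z' ≠ 1 := fun r => he1 (Subtype.ext (by
      have := congrArg (fun w => g' * w * g'⁻¹) r
      simpa [hz', mul_assoc] using this))
    set T2 := (S : Subgroup G) ⊓ centralizer ({z'} : Set G) with hT2
    have hTgle : T.map (MulAut.conj g'⁻¹).toMonoidHom ≤ centralizer ({z'} : Set G) := by
      rintro _ ⟨x, hx, rfl⟩
      have := conj_mem_cent (g := g'⁻¹) (mem_cent.2 (congrArg Subtype.val (hecX ⟨x, hTX hx⟩) :))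
      simpa [hz'] using this
    obtain ⟨c, hc, hcx⟩ := exists_conj_le (S.2.to_le inf_le_left) (inf_le_right : T2 ≤ _) (hTp.map _) hTgle hgmax
    set w := c * g'⁻¹ with hw
    set X2 := X.map (MulAut.conj w).toMonoidHom with hX2
    have hwe : w * (e : G) * w⁻¹ = z' := by
      rw [hw, show c * g'⁻¹ * (e : G) * (c * g'⁻¹)⁻¹ = c * z' * c⁻¹ by rw [hz']; group, mem_cent.1 hc]
      group
    have hX2c : X2 ≤ centralizer ({z'} : Set G) := by
      rintro _ ⟨x, hx, rfl⟩
      rw [← hwe]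
      exact conj_mem_cent (mem_cent.2 (congrArg Subtype.val (hecX ⟨x, hx⟩) :))
    have hX2not : ¬ IsPGroup 2 X2 := fun hp => hX (by
      intro x
      obtain ⟨j, hj⟩ := hp ⟨_, mem_map_of_mem _ x.2⟩
      refine ⟨j, Subtype.ext ((MulAut.conj w).injective ?_)⟩
      have hj' : ((MulAut.conj w).toMonoidHom (x : G)) ^ 2 ^ j = 1 := congrArg Subtype.val hj
      rw [← map_pow] at hj'
      exact hj'.trans (map_one (MulAut.conj w)).symm)
    have hz'bad : ¬ IsPGroup 2 ↥(centralizer ({z'} : Set G)) := fun hp => hX2not (hp.to_le hX2c)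
    have hT2le := h.card_cent_le (by rw [hz', show g'⁻¹ * (e : G) * g' * (g'⁻¹ * e * g') =
      g'⁻¹ * ((e : G) * e) * g' by group, show (e : G) * e = 1 from congrArg Subtype.val he2]; group) hz'1 hgS hz'bad
    have hCmem : Mem (centralizer ({z'} : Set G)) := by
      refine ⟨hz'bad, zpowers z', fun r => hz'1 (zpowers_eq_bot.1 r), S.2.to_le (zpowers_le.2 hgS),
        zpowers_le.2 (mem_cent.2 rfl), le_normalizer_zpowers fun x hx => mem_cent.1 hx⟩
    have hTwc : Nat.card ↥(T.map (MulAut.conj w).toMonoidHom) = 2 ^ t := by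
      rw [card_map_of_injective (f := (MulAut.conj w).toMonoidHom) (MulAut.conj w).injective, hTc]
    have hTw : T.map (MulAut.conj w).toMonoidHom = T2 := by
      refine eq_of_le_of_card_ge ?_ ?_
      · rintro _ ⟨x, hx, rfl⟩
        have := hcx _ ⟨x, hx, rfl⟩
        show w * x * w⁻¹ ∈ T2
        rw [hw, show c * g'⁻¹ * x * (c * g'⁻¹)⁻¹ = c * (g'⁻¹ * x * g'⁻¹⁻¹) * c⁻¹ by group]
        exact this
      · rw [hTwc]
        exact (card_le_multiplicity (S.2.to_le inf_le_left) (inf_le_right : T2 ≤ _)).trans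
          (Nat.pow_le_pow_right two_pos (hbound _ hCmem))
    have hTX2 : T2 ≤ X2 := hTw ▸ map_mono hTX
    let ε : ↥X ≃* ↥X2 := (MulAut.conj w).subgroupMap X
    refine hU.nonconstrained h hTX2 inf_le_left (fun u' hu' => ⟨hU.le hu', mem_cent.2 (hgU u' hu').symm⟩) hX2not
      (fun e' => centralizer_ne_top h.na hz'1 (top_le_iff.1 (e' ▸ hX2c))) (fun Z hlt hle => ?_) hT2le ?_ ?_
    · rw [← hTw] at hlt
      have hback : ∀ Y : Subgroup G, (Y.map (MulAut.conj w⁻¹).toMonoidHom).map (MulAut.conj w).toMonoidHom = Y := by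
        intro Y; rw [map_map]; convert map_id Y; ext; simp [mul_assoc]
      have hback' : ∀ Y : Subgroup G, (Y.map (MulAut.conj w).toMonoidHom).map (MulAut.conj w⁻¹).toMonoidHom = Y := by
        intro Y; rw [map_map]; convert map_id Y; ext; simp [mul_assoc]
      have hZ := hmaxX (Z.map (MulAut.conj w⁻¹).toMonoidHom)
        (lt_of_le_of_ne (hback' T ▸ map_mono hlt.le) fun r => hlt.ne (by rw [r, hback]))
        (hback' X ▸ map_mono hle)
      rw [← hback Z, hZ]
    · rw [← Core.map_pCore_equiv ε]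
      exact fun r => hQne ((map_eq_bot_iff_of_injective _ ε.injective).1 r)
    · intro hc2
      apply hcons
      intro x hx
      have : ε x ∈ pCore 2 ↥X2 := hc2 (mem_centralizer_iff.2 fun y hy => by
        rw [← Core.map_pCore_equiv ε] at hy
        obtain ⟨y', hy', rfl⟩ := hy
        show ε y' * ε x = ε x * ε y'
        rw [← map_mul, mem_centralizer_iff.1 hx y' hy', map_mul])
      rw [← Core.map_pCore_equiv ε] at this
      obtain ⟨y, hy, hye⟩ := this
      exact ε.injective hye ▸ hy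
  -- the constrained case
  have hno : ∀ N : Subgroup G, N ≤ T → X ≤ normalizer (N : Set G) → u ∈ normalizer (N : Set G) → N = ⊥ := by
    intro N hN hXn hun'
    by_contra hne
    have hR : T ⊔ zpowers u ≤ normalizer (N : Set G) := sup_le (hTX.trans hXn) (zpowers_le.2 hun')
    have h1 := hNle N hN hne hXn _ (P.2.to_le (sup_le hTP (zpowers_le.2 huP))) hR
    rw [← hTc] at h1
    exact huT ((eq_of_le_of_card_ge le_sup_left h1).ge (mem_sup_right (mem_zpowers u)))
  have cfg : Cfg X T u := ⟨hTX, hTp, hX, hmaxX, hun, hu2, hno, h.len_proper hXtop, by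
    rw [hTc]
    have h1 : Nat.card T < Nat.card ↥(P : Subgroup G) := by
      rcases (Nat.le_of_dvd Nat.card_pos (card_dvd_of_le hTP)).lt_or_eq with e | e
      · exact e
      · exact absurd (eq_of_le_of_card_ge hTP e.ge) hTlt.ne
    rw [hTc, P.card_eq_multiplicity, ← S.card_eq_multiplicity, h.card, Nat.pow_lt_pow_iff_right (by norm_num)] at h1
    exact (Nat.pow_le_pow_right two_pos (show t ≤ 6 by have := h.le_seven; omega)).trans (by norm_num)⟩
  obtain ⟨-, hcases, hAe⟩ := cfg.push hcons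
  set A := pCoreOf 2 X with hA
  set B := A.map (MulAut.conj u).toMonoidHom with hB
  have hAT : A ≤ T := cfg.core_le
  have hAn : X ≤ normalizer (A : Set G) := Cfg.le_normalizer_core X
  have hAne : A ≠ ⊥ := fun e => by rw [e, card_bot] at hcases; omega
  have hcA : ∀ y ∈ X, (∀ a ∈ A, a * y = y * a) → y ∈ A := fun y hy hcom =>
    ⟨⟨y, hy⟩, hcons (mem_centralizer_iff.2 fun q hq => Subtype.ext (hcom q ⟨q, hq, rfl⟩)), rfl⟩
  have hBT : B ≤ T := by
    rw [hB, ← Core.map_conj_eq_of_mem_normalizer hun]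
    exact map_mono hAT
  have hBA : B ≠ A := fun e => hAne (hno A hAT hAn (Core.mem_normalizer_iff_map_conj.2 e))
  have hBc : Nat.card B = Nat.card A := by
    rw [hB, card_map_of_injective (f := (MulAut.conj u).toMonoidHom) (MulAut.conj u).injective]
  have hBe : ∀ b ∈ B, b * b = 1 := by
    rintro _ ⟨a, ha, rfl⟩
    rw [← map_mul, hAe a ha, map_one]
  have hrelA : A.relIndex T = 2 := by
    have e := Core.card_mul_relIndex hAT
    rcases hcases with ⟨e1, e2⟩ | ⟨e1, e2⟩ <;> rw [e1, e2] at e <;> omega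
  have hrelB : B.relIndex T = 2 := by
    have e := Core.card_mul_relIndex hBT
    rcases hcases with ⟨e1, e2⟩ | ⟨e1, e2⟩ <;> rw [e1, hBc, e2] at e <;> omega
  have hPT : (P : Subgroup G) ⊓ normalizer (A : Set G) = T := by
    refine (eq_of_le_of_card_ge (le_inf hTP (hTX.trans hAn)) ?_).symm
    rw [hTc]
    exact hNle A hAT hAne hAn _ (P.2.to_le inf_le_left) inf_le_right
  -- the four-group of `P`
  set U' := U.map (MulAut.conj g).toMonoidHom with hU'
  have hU'4 : IsFour U' := hU.four.map _ fun x _ e => (MulAut.conj g).injective (e.trans (map_one _).symm)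
  have hU'P : U' ≤ (P : Subgroup G) := hmapP ▸ map_mono hU.le
  have hPn : (P : Subgroup G) ≤ normalizer (U' : Set G) := by
    rw [← hmapP]
    exact (map_mono hU.normal).trans (le_normalizer_map _)
  have hU'good : ∀ e ∈ U', e ≠ 1 → IsPGroup 2 ↥(centralizer ({e} : Set G)) := by
    rintro _ ⟨e, he, rfl⟩ he1
    refine ((hU.good e he fun r => he1 (by rw [r, map_one])).map (MulAut.conj g).toMonoidHom).to_le fun y hy => ?_
    refine ⟨g⁻¹ * y * g, ?_, by simp [mul_assoc]⟩
    have := conj_mem_cent (g := g⁻¹) hy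
    simpa [mul_assoc] using this
  have hU'ne : U' ≠ ⊥ := fun e => by have := hU'4.1; rw [e, card_bot] at this; omega
  obtain ⟨z', hz'U, hz'2, hz'1, hz'c⟩ := exists_fixed_involution P.2 hU'P hU'ne hPn
  have hz'T : z' ∈ T := by
    rw [← hPT]
    refine ⟨hU'P hz'U, mem_normalizer_iff.2 fun a => ⟨fun ha => ?_, fun ha => ?_⟩⟩
    · rwa [← hz'c a (hTP (hAT ha)), mul_assoc, mul_inv_cancel, mul_one]
    · have h1 := hz'c _ (hTP (hAT ha))
      have : z' * a * z'⁻¹ = a := by
        calc z' * a * z'⁻¹ = z'⁻¹ * (z' * (z' * a * z'⁻¹)) := by group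
          _ = z'⁻¹ * (z' * a * z'⁻¹ * z') := by rw [h1]
          _ = a := by group
      rwa [this] at ha
  have hz'A : z' ∈ A := hcA z' (hTX hz'T) fun a ha => hz'c a (hTP (hAT ha))
  have hU'T : U' ≤ T := by
    intro y hy
    rw [← hPT]
    refine ⟨hU'P hy, ?_⟩
    by_cases hy1 : y = 1
    · exact hy1 ▸ one_mem _
    by_cases hyz : y = z'
    · exact hyz ▸ (hAn (hTX hz'T))
    have hfwd : ∀ a ∈ A, y * a * y⁻¹ ∈ A := by
      intro a ha
      have haP := hTP (hAT ha)
      have hc : a⁻¹ * y * a ∈ U' := (mem_normalizer_iff''.1 (hPn haP) y).1 hy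
      rcases four_cases hU'4 hz'U hy hz'1 hy1 (Ne.symm hyz) hc with r | r | r | r
      · exact absurd (by
          have := congrArg (fun w => a * w * a⁻¹) r
          simpa [mul_assoc] using this) hy1
      · refine absurd ?_ hyz
        have h2 : y = a * z' * a⁻¹ := by rw [← r]; group
        rw [h2, hz'c a haP, mul_assoc, mul_inv_cancel, mul_one]
      · have : y * a * y⁻¹ = a := by
          rw [mul_inv_eq_iff_eq_mul]
          calc y * a = a * (a⁻¹ * y * a) := by group
            _ = a * y := by rw [r]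
        rw [this]; exact ha
      · have : y * a * y⁻¹ = a * z' := by
          rw [mul_inv_eq_iff_eq_mul]
          calc y * a = a * (a⁻¹ * y * a) := by group
            _ = a * z' * y := by rw [r]; group
        rw [this]; exact A.mul_mem ha hz'A
    refine mem_normalizer_iff.2 fun a => ⟨hfwd a, fun ha => ?_⟩
    have := hfwd _ ha
    rwa [show y * (y * a * y⁻¹) * y⁻¹ = y * y * a * (y * y)⁻¹ by group, hU'4.2 y hy,
      show (1 : G) * a * 1⁻¹ = a by group] at this
  have hAc : ∀ r ∈ T, (∀ a ∈ A, a * r = r * a) → r ∈ A := fun r hr hc => hcA r (hTX hr) hc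
  have hmem : ∀ y ∈ U', y ∈ A ∨ y ∈ B := fun y hy =>
    mem_or_mem_of_sq hAT hBT hAe hBe hrelA hrelB hAc
      (fun hle => hBA (eq_of_le_of_card_ge hle hBc.ge)) (hU'T hy) (hU'4.2 y hy)
  have hU'u : ∀ y ∈ U', u * y * u⁻¹ ∈ U' := fun y hy => (mem_normalizer_iff.1 (hPn huP) y).1 hy
  have huu : ∀ b ∈ B, u * b * u⁻¹ ∈ A := by
    rintro _ ⟨a, ha, rfl⟩
    show u * (u * a * u⁻¹) * u⁻¹ ∈ A
    rw [show u * (u * a * u⁻¹) * u⁻¹ = u * u * a * (u * u)⁻¹ by group]
    exact (mem_normalizer_iff.1 (hAn (hTX hu2)) a).1 ha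
  have hAB : U' ≤ A ⊓ B := by
    have hor : U' ≤ A ∨ U' ≤ B := by
      by_contra hne
      push Not at hne
      obtain ⟨⟨x, hx, hxA⟩, ⟨y, hy, hyB⟩⟩ :=
        And.intro (SetLike.not_le_iff_exists.1 hne.1) (SetLike.not_le_iff_exists.1 hne.2)
      have hxB := (hmem x hx).resolve_left hxA
      have hyA := (hmem y hy).resolve_right hyB
      rcases hmem _ (U'.mul_mem hx hy) with r | r
      · exact hxA ((A.mul_mem_cancel_right hyA).1 r)
      · exact hyB ((B.mul_mem_cancel_left hxB).1 r)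
    have hle : U'.map (MulAut.conj u).toMonoidHom = U' := Core.map_conj_eq_of_mem_normalizer (hPn huP)
    rcases hor with hA' | hB'
    · refine le_inf hA' ?_
      rw [← hle]
      exact map_mono hA'
    · refine le_inf ?_ hB'
      rw [← hle]
      rintro _ ⟨y, hy, rfl⟩
      exact huu y (hB' hy)
  have hA8 : Nat.card T = 16 ∧ Nat.card A = 8 := by
    rcases hcases with ⟨e1, e2⟩ | e
    · exfalso
      have h4 := Nat.le_of_dvd Nat.card_pos (card_dvd_of_le hAB)
      rw [hU'4.1] at h4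
      have h5 := Nat.le_of_dvd Nat.card_pos (card_dvd_of_le (inf_le_left : A ⊓ B ≤ A))
      rw [e2] at h5
      have h6 : A ⊓ B = A := eq_of_le_of_card_ge inf_le_left (by rw [e2]; omega)
      exact hBA (eq_of_le_of_card_ge (inf_eq_left.1 h6) hBc.le).symm
    · exact e
  -- an element of `X` moving `T`
  obtain ⟨x, hxX, hxn⟩ : ∃ x ∈ X, x ∉ normalizer (T : Set G) := SetLike.not_le_iff_exists.1 fun hle => by
    have hTA : T ≤ A := by
      haveI : (T.subgroupOf X).Normal := (normal_subgroupOf_iff_le_normalizer hTX).2 hle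
      rw [← map_subgroupOf_eq_of_le hTX]
      exact map_mono (Core.le_pCore' inferInstance hTp.comap_subtype)
    have := Nat.le_of_dvd Nat.card_pos (card_dvd_of_le hTA)
    omega
  have hxA : ∀ a ∈ A, x * a * x⁻¹ ∈ A := fun a ha => (mem_normalizer_iff.1 (hAn hxX) a).1 ha
  obtain ⟨w, hwU, hw1, hwx⟩ : ∃ w ∈ U', w ≠ 1 ∧ x⁻¹ * w * x ∈ U' := by
    by_contra hne
    push Not at hne
    let μ : U' × U' → A := fun p => ⟨(p.1 : G) * (x * p.2 * x⁻¹), A.mul_mem (hAB p.1.2).1 (hxA _ (hAB p.2.2).1)⟩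
    have hμ : Function.Injective μ := by
      rintro ⟨⟨a, ha⟩, ⟨b, hb⟩⟩ ⟨⟨a', ha'⟩, ⟨b', hb'⟩⟩ r
      have r' : a * (x * b * x⁻¹) = a' * (x * b' * x⁻¹) := congrArg Subtype.val r
      have h1 : a'⁻¹ * a = x * (b' * b⁻¹) * x⁻¹ := by
        calc a'⁻¹ * a = a'⁻¹ * (a * (x * b * x⁻¹)) * (x * b * x⁻¹)⁻¹ := by group
          _ = _ := by rw [r']; group
      have h2 : a'⁻¹ * a = 1 := by_contra fun h' => hne _ (U'.mul_mem (U'.inv_mem ha') ha) h'
        (by rw [h1, show x⁻¹ * (x * (b' * b⁻¹) * x⁻¹) * x = b' * b⁻¹ by group]; exact U'.mul_mem hb' (U'.inv_mem hb))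
      have ha'' : a' = a := inv_mul_eq_one.1 h2
      subst ha''
      exact Prod.ext rfl (Subtype.ext (mul_left_cancel (mul_right_cancel (mul_left_cancel r'))))
    have := Nat.card_le_card_of_injective μ hμ
    rw [Nat.card_prod, hU'4.1, hA8.2] at this
    omega
  -- it is central in `X`
  refine hX ((hU'good w hwU hw1).to_le ?_)
  have hcomm : ∀ r ∈ T, ∀ a ∈ A ⊓ B, r * a = a * r := by
    intro r hr a ha
    have hcomm2 : ∀ {H : Subgroup G}, (∀ h ∈ H, h * h = 1) → ∀ {p q : G}, p ∈ H → q ∈ H → p * q = q * p :=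
      fun {H} hH {p q} hp hq => (EightThree.commute_of_sq hH hp hq).eq
    by_cases hrA : r ∈ A
    · exact hcomm2 hAe hrA ha.1
    · obtain ⟨b, hbB, hbA⟩ := SetLike.not_le_iff_exists.1 (fun hle => hBA (eq_of_le_of_card_ge hle hBc.ge) :
        ¬ B ≤ A)
      have hrb : r * b ∈ A :=
        mem_subgroupOf.1 ((mul_mem_iff_of_index_two (H := A.subgroupOf T) hrelA (a := ⟨r, hr⟩)
          (b := ⟨b, hBT hbB⟩)).2 (iff_of_false (fun e => hrA (mem_subgroupOf.1 e))
            (fun e => hbA (mem_subgroupOf.1 e))))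
      have h1 := hcomm2 hAe hrb ha.1
      have h2 := hcomm2 hBe hbB ha.2
      calc r * a = r * b * (b⁻¹ * a) := by group
        _ = r * b * (a * b⁻¹) := by
          rw [inv_self (hBe b hbB), h2]
        _ = (r * b * a) * b⁻¹ := by group
        _ = a * r := by rw [h1]; group
  set Z := X ⊓ centralizer ({w} : Set G) with hZ
  have hTZ : T ≤ Z := le_inf hTX (le_cent_iff.2 fun r hr => hcomm r hr w (hAB hwU))
  have hxT : T.map (MulAut.conj x).toMonoidHom ≤ Z := by
    rintro _ ⟨r, hr, rfl⟩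
    refine ⟨X.mul_mem (X.mul_mem hxX (hTX hr)) (X.inv_mem hxX), mem_cent.2 ?_⟩
    have h1 := hcomm r hr _ (hAB hwx)
    show x * r * x⁻¹ * w = w * (x * r * x⁻¹)
    calc x * r * x⁻¹ * w = x * (r * (x⁻¹ * w * x)) * x⁻¹ := by group
      _ = x * ((x⁻¹ * w * x) * r) * x⁻¹ := by rw [h1]
      _ = w * (x * r * x⁻¹) := by group
  have hlt : T < Z := lt_of_le_of_ne hTZ fun e => hxn (Core.mem_normalizer_iff_map_conj.2
    (eq_of_le_of_card_ge (hxT.trans e.ge)
      (by rw [card_map_of_injective (f := (MulAut.conj x).toMonoidHom) (MulAut.conj x).injective])))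
  rw [← hmaxX Z hlt inf_le_left]
  exact inf_le_right

end Cfsg.Lib.LenEight
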