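import Cfsg.Agent.Lib.LenEight.StepUComp

/-!
# A noncentral involution of a normal four-group has a 2-group centralizer
-/

set_option autoImplicit false
set_option linter.style.haveILetI false

namespace Cfsg.Lib.LenEight

open Subgroup Cfsg

universe u

variable {G : Type u} [Group G] [Finite G] [IsSimpleGroup G] {S : Sylow 2 G} {k : ℕ} {z0 u1 : G}

theorem NC.isPGroup_cent (c : NC S z0 u1) (h : Ctx G S k) : IsPGroup 2 ↥(centralizer ({u1} : Set G)) := by
  classical
  haveI : Fact (Nat.Prime 2) := ⟨Nat.prime_two⟩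
  by_contra hbad
  set C := centralizer ({u1} : Set G)
  have hRC : c.R ≤ C := inf_le_right
  have hnum : ∃ m, ∃ Z : Subgroup G, c.R < Z ∧ Z ≤ C ∧ Nat.card Z = m :=
    ⟨_, C, lt_of_le_of_ne hRC fun e => hbad (e ▸ S.2.to_le c.R_le), le_rfl, rfl⟩
  obtain ⟨X, hX, hXC, hXcard⟩ := Nat.find_spec hnum
  have hnot : ∀ Z : Subgroup G, c.R < Z → Z ≤ C → ¬ IsPGroup 2 Z := by
    intro Z hlt hle hp
    obtain ⟨P, hP⟩ := hp.exists_le_sylow
    have hZP : Z = (P : Subgroup G) := by
      refine eq_of_le_of_card_ge hP ?_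
      rw [P.card_eq_multiplicity, ← S.card_eq_multiplicity, h.card]
      obtain ⟨j, hj⟩ := IsPGroup.iff_card.1 hp
      have h1 : Nat.card c.R < Nat.card Z := by
        rcases (Nat.le_of_dvd Nat.card_pos (card_dvd_of_le hlt.le)).lt_or_eq with e | e
        · exact e
        · exact absurd (eq_of_le_of_card_ge hlt.le e.ge) hlt.ne
      rw [c.card_R h.card, hj, Nat.pow_lt_pow_iff_right (by norm_num)] at h1
      rw [hj]
      exact Nat.pow_le_pow_right two_pos (by omega)
    obtain ⟨g, hg⟩ := MulAction.exists_smul_eq G S P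
    have hmapP : (S : Subgroup G).map (MulAut.conj g).toMonoidHom = (P : Subgroup G) := by
      rw [← hg, Sylow.coe_subgroup_smul]; rfl
    have hcenP : ∀ x ∈ (P : Subgroup G), x * u1 = u1 * x := fun x hx => mem_cent.1 (hle (hZP ▸ hx))
    have hgS : g⁻¹ * u1 * g ≠ 1 := fun e => c.u_ne (by
      have := congrArg (fun w => g * w * g⁻¹) e
      simpa [mul_assoc] using this)
    have hCS := h.cent_eq hgS fun x hx => by
      have h1 := hcenP (g * x * g⁻¹) (hmapP ▸ ⟨x, hx, rfl⟩)
      calc x * (g⁻¹ * u1 * g) = g⁻¹ * (g * x * g⁻¹ * u1) * g := by group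
        _ = g⁻¹ * (u1 * (g * x * g⁻¹)) * g := by rw [h1]
        _ = g⁻¹ * u1 * g * x := by group
    refine hbad ((S.2.map (MulAut.conj g).toMonoidHom).to_le fun y hy => ⟨g⁻¹ * y * g, ?_, by simp [mul_assoc]⟩)
    show g⁻¹ * y * g ∈ (S : Subgroup G)
    rw [← hCS]
    have := conj_mem_cent (g := g⁻¹) hy
    simpa using this
  have ux : UX c X := by
    refine ⟨hX.le, hXC, hnot X hX hXC, fun Z hlt hle => eq_of_le_of_card_ge hle ?_⟩
    by_contra hlt'
    exact Nat.find_min hnum (m := Nat.card Z) (by rw [← hXcard]; omega) ⟨Z, hlt, hle.trans hXC, rfl⟩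
  by_cases hcons : centralizer (pCore 2 X : Set X) ≤ pCore 2 X
  · exact ux.cons_case h hbad hcons
  · exact ux.comp_case h hbad hcons

end Cfsg.Lib.LenEight
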