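import Cfsg.Agent.Lib.LenEight.StepUCons
import Cfsg.Agent.Lib.LenEight.OuterInvolution
import Cfsg.Agent.Lib.LenEight.DihedralRot

/-!
# A noncentral involution of a normal four-group: a component in its centralizer
-/

set_option autoImplicit false
set_option linter.style.haveILetI false

namespace Cfsg.Lib.LenEight

open Subgroup Cfsg
open scoped commutatorElement

universe u

/-- A central element of the kernel of a homomorphism to an abelian group, defined on a subgroup of odd
index, is not a product of commutators if the homomorphism does not kill it. -/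
theorem not_mem_commutator {X : Type u} [Group X] [Finite X] {H : Subgroup X} {A : Type u} [CommGroup A]
    (φ : H →* A) {g : X} (hg : ∀ x : X, x * g = g * x) (hg2 : g * g = 1) (hgH : g ∈ H)
    (hodd : ¬ 2 ∣ H.index) (hne : φ ⟨g, hgH⟩ ≠ 1) : g ∉ commutator X := by
  intro hmem
  have h1 : MonoidHom.transfer φ g = 1 := Abelianization.commutator_subset_ker (MonoidHom.transfer φ) hmem
  have hkey : ∀ (j : ℕ) (g₀ : X), g₀⁻¹ * g ^ j * g₀ ∈ H → g₀⁻¹ * g ^ j * g₀ = g ^ j := fun j g₀ _ => by
    rw [mul_assoc, ← (show Commute g₀ (g ^ j) from (show Commute g₀ g from hg g₀).pow_right j).eq,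
      inv_mul_cancel_left]
  rw [MonoidHom.transfer_eq_pow φ g hkey] at h1
  obtain ⟨m, hm⟩ : Odd H.index := Nat.odd_iff.2 (Nat.two_dvd_ne_zero.1 hodd)
  refine hne ?_
  rw [← h1]
  congr 1
  apply Subtype.ext
  show g = g ^ H.index
  rw [hm, pow_succ, pow_mul, pow_two, hg2, one_pow, one_mul]

variable {G : Type u} [Group G] [Finite G] [IsSimpleGroup G] {S : Sylow 2 G} {k : ℕ} {z0 u1 : G}
  {c : NC S z0 u1} {X : Subgroup G}

theorem UX.comp_case (h : Ctx G S k) (ux : UX c X) (hbad : ¬ IsPGroup 2 ↥(centralizer ({u1} : Set G)))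
    (hncons : ¬ centralizer (pCore 2 X : Set X) ≤ pCore 2 X) : False := by
  classical
  haveI : Fact (Nat.Prime 2) := ⟨Nat.prime_two⟩
  obtain ⟨s, hs, hsmove⟩ := c.moved
  have hsR : s ∉ c.R := fun e => hsmove (mul_inv_eq_iff_eq_mul.2 (c.mem_R.1 e).2)
  have hcardR := c.card_R h.card
  have hXtop := ux.ne_top h
  set T := c.R.subgroupOf X with hTdef
  have hTp : IsPGroup 2 T := (S.2.to_le c.R_le).comap_subtype
  have hTcard : Nat.card T = 2 ^ (k - 1) := by
    rw [← hcardR]; exact Nat.card_congr (subgroupOfEquivOfLe ux.le).toEquiv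
  have hTc : IsCoatom T := by
    refine ⟨fun e => ux.not_two ((S.2.to_le c.R_le).to_le (subgroupOf_eq_top.1 e)), fun M hM => ?_⟩
    have hle : c.R ≤ M.map X.subtype := by
      conv_lhs => rw [← map_subgroupOf_eq_of_le ux.le]
      exact map_mono hM.le
    rcases eq_or_lt_of_le hle with e | e
    · refine absurd ?_ hM.ne
      rw [hTdef, subgroupOf, e, comap_map_eq_self_of_injective X.subtype_injective]
    · have h' := ux.maximal _ e (map_subtype_le M)
      refine eq_top_iff.2 fun x _ => ?_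
      obtain ⟨y, hy, e'⟩ := (h'.symm ▸ x.2 : (x : G) ∈ M.map X.subtype)
      exact Subtype.ext e' ▸ hy
  set Q := pCore 2 ↥X with hQdef
  set f := QuotientGroup.mk' Q with hf
  have hfs : Function.Surjective f := QuotientGroup.mk'_surjective Q
  have hQT : Q ≤ T := pCore_le hTp hTc ux.not_two
  obtain ⟨q, hq⟩ := IsPGroup.iff_card.1 (Core.pCore_isPGroup 2 ↥X)
  -- `u₁` lies in `O₂(X)`
  set uX : X := ⟨u1, ux.le c.u_mem_R⟩ with huX
  have huc : ∀ x : X, x * uX = uX * x := fun x => Subtype.ext (mem_cent.1 (ux.le_cent x.2))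
  have huQ : uX ∈ Q := by
    haveI hn : (zpowers uX).Normal :=
      normalizer_eq_top_iff.1 (eq_top_iff.2 (le_normalizer_zpowers fun x _ => huc x))
    refine Core.le_pCore' hn (IsPGroup.of_card (n := 1) ?_) (mem_zpowers uX)
    rw [Nat.card_zpowers, pow_one, ← Subgroup.orderOf_coe]
    exact orderOf_two c.u_sq c.u_ne
  have hq1 : 1 ≤ q := by
    by_contra h0
    rw [show q = 0 by omega, pow_zero] at hq
    have : Q = ⊥ := card_eq_one.1 hq
    rw [this, mem_bot] at huQ
    exact c.u_ne (congrArg Subtype.val huQ)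
  -- the image of `R`
  set Tb := T.map f with hTb
  obtain ⟨t, ht⟩ := IsPGroup.iff_card.1 (hTp.map f : IsPGroup 2 Tb)
  have hqt : q + t = k - 1 := by
    refine Nat.pow_right_injective le_rfl ?_
    show 2 ^ (q + t) = 2 ^ (k - 1)
    rw [← hTcard, pow_add, ← hq, ← ht]
    have h1 := (f.subgroupMap T).ker.card_mul_index
    rw [index_ker, MonoidHom.range_eq_top.2 (f.subgroupMap_surjective T), card_top] at h1
    rw [← h1]
    congr 1
    rw [show (f.subgroupMap T).ker = Q.subgroupOf T by
        ext y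
        rw [MonoidHom.mem_ker, mem_subgroupOf]
        exact ⟨fun h => (QuotientGroup.eq_one_iff _).1 (congrArg Subtype.val h :),
          fun h => Subtype.ext ((QuotientGroup.eq_one_iff _).2 h)⟩]
    exact (Nat.card_congr (subgroupOfEquivOfLe hQT).toEquiv).symm
  have hlen7 : LenLe (⊤ : Subgroup (X ⧸ Q)) 7 := fun hn => by
    have := (h.len_proper hXtop).subtype.chain_le (chain_quotient hq hn)
    omega
  rcases odd_or_as hTp hTc ux.not_two hncons hlen7 with ⟨W, hWn, hW, hWodd⟩ | ⟨L, has, hLC⟩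
  · refine ux.odd_case h (W0 := W.map X.subtype) ?_ (map_subtype_le W) ?_ ?_ hbad
    · exact fun e => hW ((map_eq_bot_iff_of_injective _ X.subtype_injective).1 e)
    · refine Core.le_normalizer_iff_conj_mem.2 ?_
      rintro x hx _ ⟨w, hw, rfl⟩
      exact ⟨⟨x, hx⟩ * w * ⟨x, hx⟩⁻¹, hWn.conj_mem w hw _, rfl⟩
    · rwa [card_map_of_injective X.subtype_injective]
  obtain ⟨b, hb3, hb⟩ := has.card_inf
  have hcm := has.card_mul_index
  rw [hb, ht] at hcm
  obtain ⟨i, -, hi⟩ : ∃ i ≤ t, L.index = 2 ^ i :=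
    (Nat.dvd_prime_pow Nat.prime_two).1 ⟨2 ^ b, by rw [mul_comm]; exact hcm.symm⟩
  rw [hi, ← pow_add] at hcm
  have hbi : b + i = t := Nat.pow_right_injective le_rfl hcm
  have hk5 : 5 ≤ k := by omega
  have hchain : ∀ {n : ℕ}, Chain (⊤ : Subgroup L) n → n + i ≤ t + 1 := fun {n} hn => by
    have := (ux.len_le h hk5 hXtop).subtype.chain_le (chain_quotient hq (has.chain_add hn hi))
    omega
  rcases (show b = 3 ∨ 4 ≤ b by omega) with rfl | hb4
  · obtain ⟨D⟩ := has.dih_of_eight (by rw [hb]; norm_num)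
    have hDn : D.n = 4 := by
      have := D.card_eq
      rw [hb] at this
      omega
    have := hchain (D.chain_five has hDn)
    omega
  have hk7 := h.le_seven
  have hb5 : b ≤ 5 := by omega
  haveI := has.simple
  obtain ⟨SL, hSL⟩ := has.exists_sylow_inf
  have hSLc : Nat.card ↥(SL : Subgroup L) = 2 ^ b := by rw [has.card_sylow, hb]
  have hcit : CIT.IsCIT L := by
    refine h.ih L has.na ?_ SL b hSLc hb4 (by omega) ?_ ?_ ?_
    · calc Nat.card L ≤ Nat.card (X ⧸ Q) := Nat.le_of_dvd Nat.card_pos (card_subgroup_dvd_card L)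
        _ ≤ Nat.card X := Nat.le_of_dvd Nat.card_pos ⟨Nat.card Q, card_eq_card_quotient_mul_card_subgroup Q⟩
        _ < Nat.card G := Core.lt_card_of_ne_top hXtop
    · refine ⟨fun e => not_solvable_simple has.na ?_, fun M hM => ?_⟩
      · haveI : Group.IsNilpotent L := by
          have hp : IsPGroup 2 L := fun g => by
            obtain ⟨j, hj⟩ := SL.2 ⟨g, e ▸ mem_top g⟩
            exact ⟨j, congrArg Subtype.val hj⟩
          exact hp.isNilpotent
        infer_instance
      · by_contra hMtop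
        have := hchain (((chain_of_card_eq_pow hSLc).succ hM).succ (lt_top_iff_ne_top.2 hMtop))
        omega
    · intro hn; have := hchain hn; omega
    · intro _ hn; have := hchain hn; omega
  obtain ⟨D⟩ := has.dih_of_cit hcit (by rw [hb]; interval_cases b <;> norm_num)
  have hDn : 2 * D.n = 2 ^ b := by rw [← hb, D.card_eq]
  have hcase : L.index = 1 ∨ (D.n = 8 ∧ L.index = 2) := by
    rw [hi]
    have hi2 : i ≤ 1 := by omega
    interval_cases b <;> interval_cases i <;> omega
  have hDn' : D.n = 8 ∨ D.n = 16 := by interval_cases b <;> omega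
  have rf := D.rotFacts hDn'
  -- `R → R/Q`
  set F : c.R →* X ⧸ Q := f.comp (Subgroup.inclusion ux.le) with hFdef
  have hFT : ∀ r : c.R, F r ∈ Tb := fun r => mem_map_of_mem f (mem_subgroupOf.2 r.2)
  have hFsurj : ∀ y ∈ Tb, ∃ r : c.R, F r = y := by
    rintro _ ⟨x, hx, rfl⟩
    exact ⟨⟨x, mem_subgroupOf.1 hx⟩, rfl⟩
  -- `|Q| = 2`
  have hQ2 : q = 1 := by
    rcases hcase with h1 | ⟨-, h2⟩
    swap
    · rw [hi] at h2
      have : i = 1 := Nat.pow_right_injective le_rfl (by simpa using h2)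
      omega
    -- `Q` is central in `X`
    have hQab : ∀ x ∈ Q, ∀ y ∈ Q, x * y = y * x := by
      have hq2 : q ≤ 2 := by omega
      intro x hx y hy
      rcases (show q = 1 ∨ q = 2 by omega) with rfl | rfl
      · haveI := isCyclic_of_prime_card (α := Q) (by rw [hq, pow_one])
        exact congrArg Subtype.val (mul_comm' (⟨x, hx⟩ : Q) ⟨y, hy⟩)
      · haveI := IsPGroup.isMulCommutative_of_card_eq_prime_sq (p := 2) (G := Q) hq
        exact congrArg Subtype.val (mul_comm' (⟨x, hx⟩ : Q) ⟨y, hy⟩)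
    have hQc : ∀ x : X, ∀ y ∈ Q, x * y = y * x := by
      intro x y hy
      obtain ⟨z, hz, e⟩ := hLC (index_eq_one.1 h1 ▸ mem_top (f x))
      have hxz : x * z⁻¹ ∈ Q := (QuotientGroup.eq_one_iff _).1 (by
        show f (x * z⁻¹) = 1
        rw [map_mul, map_inv, e, mul_inv_cancel])
      calc x * y = x * z⁻¹ * (z * y) := by group
        _ = x * z⁻¹ * (y * z) := by rw [mem_centralizer_iff.1 hz y hy]
        _ = y * (x * z⁻¹) * z := by rw [← mul_assoc, hQab _ hxz y hy]
        _ = y * x := by group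
    -- elements of `Q ∩ Q^s` would be normalized by `S`
    have hQs : ∀ y ∈ Q, ∀ y' ∈ Q, s * (y : G) * s⁻¹ = y' → y = 1 := by
      intro y hy y' hy' e
      by_contra hy1
      set N : Subgroup G := Q.map X.subtype ⊓ (Q.map X.subtype).map (MulAut.conj s).toMonoidHom with hN
      have hne : N ≠ ⊥ := fun eN => hy1 (by
        have hm : s * (y : G) * s⁻¹ ∈ N := ⟨e ▸ ⟨y', hy', rfl⟩, (y : G), ⟨y, hy, rfl⟩, rfl⟩
        rw [eN, mem_bot, conj_eq_one_iff] at hm
        exact Subtype.ext hm)
      have hQR : Q.map X.subtype ≤ c.R := by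
        rintro _ ⟨w, hw, rfl⟩
        exact mem_subgroupOf.1 (hQT hw)
      have hNc : ∀ x ∈ X, ∀ w ∈ N, x * w = w * x := by
        rintro x hx w ⟨⟨w', hw', rfl⟩, -⟩
        exact congrArg Subtype.val (hQc ⟨x, hx⟩ w' hw')
      have hsN : ∀ w ∈ N, s * w * s⁻¹ ∈ N := by
        rintro w ⟨hw, w', hw', e'⟩
        refine ⟨?_, w, hw, rfl⟩
        change s * w' * s⁻¹ = w at e'
        have : s * s * w' * (s * s)⁻¹ = w' := by
          rw [(show s * s * w' = w' * (s * s) from by
            obtain ⟨w'', hw'', rfl⟩ := hw'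
            exact congrArg Subtype.val (hQc ⟨s * s, ux.le (c.sq_mem hs)⟩ w'' hw'')), mul_assoc, mul_inv_cancel, mul_one]
        rw [← e', show s * (s * w' * s⁻¹) * s⁻¹ = s * s * w' * (s * s)⁻¹ by group, this]
        exact hw'
      have hle : (S : Subgroup G) ≤ normalizer (N : Set G) := by
        refine Core.le_normalizer_iff_conj_mem.2 fun x hx w hw => ?_
        by_cases hxR : x ∈ c.R
        · rw [hNc x (ux.le hxR) w hw, mul_assoc, mul_inv_cancel, mul_one]; exact hw
        · have hr : s⁻¹ * x ∈ c.R := mem_subgroupOf.1 ((mul_mem_iff_of_index_two (H := c.R.subgroupOf (S : Subgroup G))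
            c.relIndex (a := (⟨s, hs⟩ : (S : Subgroup G))⁻¹) (b := ⟨x, hx⟩)).2
            (iff_of_false (fun h' => hsR (by simpa using mem_subgroupOf.1 h')) (fun h' => hxR (mem_subgroupOf.1 h'))))
          have := hsN w hw
          rwa [show x * w * x⁻¹ = s * ((s⁻¹ * x) * w * (s⁻¹ * x)⁻¹) * s⁻¹ by group, hNc _ (ux.le hr) w hw,
            mul_assoc w, mul_inv_cancel, mul_one]
      have hNS := h.normalizer_eq ((inf_le_left.trans hQR).trans c.R_le) hne hle
      refine ux.not_two (S.2.to_le fun x hx => hNS ▸ mem_normalizer_iff.2 fun w => ⟨fun hw => ?_, fun hw => ?_⟩)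
      · rwa [hNc x hx w hw, mul_assoc, mul_inv_cancel, mul_one]
      · have h1 := hNc x hx _ hw
        have : x * w * x⁻¹ = w := by
          calc x * w * x⁻¹ = x⁻¹ * (x * (x * w * x⁻¹)) := by group
            _ = x⁻¹ * (x * w * x⁻¹ * x) := by rw [h1]
            _ = w := by group
        rwa [this] at hw
    -- `Q^s` maps into the centre of `R/Q`
    have hsn : ∀ y ∈ Q, s * (y : G) * s⁻¹ ∈ c.R := fun y hy =>
      (mem_normalizer_iff.1 (c.S_le_normalizer_R hs) _).1 (mem_subgroupOf.1 (hQT hy))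
    set ι : Q → {w : X ⧸ Q // w = 1 ∨ w = D.z} := fun y => ⟨F ⟨_, hsn y y.2⟩, by
      have hin : F ⟨_, hsn y y.2⟩ ∈ L ⊓ Tb := ⟨index_eq_one.1 h1 ▸ mem_top _, hFT _⟩
      refine D.center_cases hDn' hin fun w hw => ?_
      obtain ⟨r, rfl⟩ := hFsurj w hw.2
      rw [← map_mul, ← map_mul]
      congr 1
      apply Subtype.ext
      show s * ((y : X) : G) * s⁻¹ * r = r * (s * ((y : X) : G) * s⁻¹)
      have hr' : s⁻¹ * r * s ∈ X := ux.le ((mem_normalizer_iff''.1 (c.S_le_normalizer_R hs) r).1 r.2)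
      have h2 : (s⁻¹ * r * s) * ((y : X) : G) = ((y : X) : G) * (s⁻¹ * r * s) :=
        congrArg Subtype.val (hQc ⟨_, hr'⟩ y y.2)
      calc s * ((y : X) : G) * s⁻¹ * r = s * (((y : X) : G) * (s⁻¹ * r * s)) * s⁻¹ := by group
        _ = s * ((s⁻¹ * r * s) * ((y : X) : G)) * s⁻¹ := by rw [h2]
        _ = r * (s * ((y : X) : G) * s⁻¹) := by group⟩
    have hι : Function.Injective ι := fun y y' e => by
      have e' : F ⟨_, hsn y y.2⟩ = F ⟨_, hsn y' y'.2⟩ := congrArg Subtype.val e
      have h2 : F (⟨_, hsn (y⁻¹ * y' : Q) (y⁻¹ * y' : Q).2⟩) = 1 := by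
        have e3 : (⟨_, hsn (y⁻¹ * y' : Q) (y⁻¹ * y' : Q).2⟩ : c.R) =
            (⟨_, hsn y y.2⟩ : c.R)⁻¹ * ⟨_, hsn y' y'.2⟩ := Subtype.ext (by
          show s * (((y : X) : G)⁻¹ * ((y' : X) : G)) * s⁻¹ =
            (s * ((y : X) : G) * s⁻¹)⁻¹ * (s * ((y' : X) : G) * s⁻¹)
          group)
        rw [e3, map_mul, map_inv, e', inv_mul_cancel]
      have hmem := (QuotientGroup.eq_one_iff _).1 h2
      have := hQs (y⁻¹ * y' : Q) (y⁻¹ * y' : Q).2 _ hmem rfl
      exact inv_mul_eq_one.1 (Subtype.ext this)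
    have hle2 := Nat.card_le_card_of_injective ι hι
    have h2 : Nat.card {w : X ⧸ Q // w = 1 ∨ w = D.z} ≤ 2 := by
      rw [show Nat.card {w : X ⧸ Q // w = 1 ∨ w = D.z} = ({1, D.z} : Set (X ⧸ Q)).ncard from Nat.card_coe_set_eq _]
      exact (Set.ncard_insert_le _ _).trans (by rw [Set.ncard_singleton])
    rw [hq] at hle2
    by_contra hne
    have : 2 ^ 2 ≤ 2 ^ q := Nat.pow_le_pow_right two_pos (by omega)
    omega
  subst hQ2
  -- the kernel of `F`
  have hQmem : ∀ x ∈ Q, x = 1 ∨ x = uX := by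
    intro x hx
    by_contra hne
    push Not at hne
    have hs3 : ({1, uX, x} : Set X) ⊆ (Q : Set X) := by
      rintro w (rfl | rfl | rfl)
      exacts [one_mem _, huQ, hx]
    have h3 := Set.ncard_le_ncard hs3 (Set.toFinite _)
    rw [← Nat.card_coe_set_eq (Q : Set X), show Nat.card (Q : Set X) = 2 ^ 1 from hq,
      Set.ncard_insert_of_notMem (by
        simp only [Set.mem_insert_iff, Set.mem_singleton_iff, not_or]
        exact ⟨fun e => c.u_ne (congrArg Subtype.val e).symm, Ne.symm hne.1⟩),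
      Set.ncard_pair hne.2.symm] at h3
    omega
  set ur : c.R := ⟨u1, c.u_mem_R⟩ with hur
  have hker : ∀ r : c.R, F r = 1 → r = 1 ∨ r = ur := fun r hr => by
    rcases hQmem _ ((QuotientGroup.eq_one_iff _).1 hr) with e | e
    · exact Or.inl (Subtype.ext (congrArg (fun x : X => (x : G)) e))
    · exact Or.inr (Subtype.ext (congrArg (fun x : X => (x : G)) e))
  have hFu : F ur = 1 := (QuotientGroup.eq_one_iff _).2 huQ
  have hurc : ∀ r : c.R, r * ur = ur * r := fun r => Subtype.ext (c.mem_R.1 r.2).2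
  have hur2 : ur * ur = 1 := Subtype.ext c.u_sq
  have hlift : ∀ {r r' : c.R}, F r = F r' → r = r' ∨ r = r' * ur := fun {r r'} e => by
    rcases hker (r'⁻¹ * r) (by rw [map_mul, map_inv, e, inv_mul_cancel]) with e' | e'
    · exact Or.inl (inv_mul_eq_one.1 e').symm
    · exact Or.inr (by rw [← e', mul_inv_cancel_left])
  have hn0 : D.n ≠ 0 := by omega
  obtain ⟨al, hal⟩ := hFsurj _ (D.s_mem 0).2
  obtain ⟨d, hd⟩ := hFsurj _ (D.mem (DihedralGroup.r 1)).2
  -- the preimage of the rotations
  have hA0 : ∀ r : c.R, F r ∈ D.rot → ∃ (i : ℤ) (e : c.R), (e = 1 ∨ e = ur) ∧ r = d ^ i * e := by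
    intro r hr
    obtain ⟨i, hi⟩ := mem_zpowers_iff.1 hr
    rcases hlift (r := r) (r' := d ^ i) (by rw [map_zpow, hd, hi]) with e | e
    · exact ⟨i, 1, Or.inl rfl, by rw [mul_one]; exact e⟩
    · exact ⟨i, ur, Or.inr rfl, e⟩
  have hA0c : ∀ r r' : c.R, F r ∈ D.rot → F r' ∈ D.rot → r * r' = r' * r := by
    intro r r' hr hr'
    obtain ⟨i, e, he, rfl⟩ := hA0 r hr
    obtain ⟨j, e', he', rfl⟩ := hA0 r' hr'
    have hcu : ∀ {e : c.R}, (e = 1 ∨ e = ur) → ∀ x : c.R, Commute e x := fun he x => by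
      rcases he with rfl | rfl
      exacts [Commute.one_left x, (hurc x).symm]
    have h1 : Commute (d ^ i) (d ^ j * e') := ((Commute.refl d).zpow_zpow i j).mul_right (hcu he' _).symm
    exact (h1.mul_left (hcu he _)).eq
  -- the commutator of the two lifts
  set c0 : c.R := al * d * al⁻¹ * d⁻¹ with hc0
  have hFc0 : F c0 = D.φ (DihedralGroup.r (-2)) := by
    rw [hc0, map_mul, map_mul, map_mul, map_inv, map_inv, hal, hd, Dih.s, ← map_inv, ← map_inv, ← map_mul,
      ← map_mul, ← map_mul, rf.comm]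
  set m := D.n / 2 with hm
  have hc0m : c0 ^ m = 1 ∨ c0 ^ m = ur := hker _ (by rw [map_pow, hFc0, ← map_pow, rf.r_two_pow, map_one])
  -- commutators of `R` map into the rotations
  have hcomrot : ∀ x y : c.R, F ⁅x, y⁆ ∈ D.rot := by
    have hrT : D.rot ≤ Tb := D.rot_le.trans inf_le_right
    have hnorm : Tb ≤ normalizer (D.rot : Set (X ⧸ Q)) := by
      refine Core.le_normalizer_iff_conj_mem.2 fun g hg w hw => ?_
      obtain ⟨j, rfl⟩ := D.mem_rot hw
      have hr1 : g * D.φ (DihedralGroup.r 1) * g⁻¹ ∈ L ⊓ Tb :=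
        ⟨has.normal.conj_mem _ (D.mem _).1 g, Tb.mul_mem (Tb.mul_mem hg (D.mem _).2) (Tb.inv_mem hg)⟩
      obtain ⟨x, hx⟩ := D.exists_of_mem hr1
      obtain ⟨l, rfl⟩ := rf.not_rot x fun e => by
        have h1 : D.φ (DihedralGroup.r 1) * D.φ (DihedralGroup.r 1) = 1 := by
          have h2 : g * (D.φ (DihedralGroup.r 1) * D.φ (DihedralGroup.r 1)) * g⁻¹ = 1 := by
            rw [show g * (D.φ (DihedralGroup.r 1) * D.φ (DihedralGroup.r 1)) * g⁻¹ =
              g * D.φ (DihedralGroup.r 1) * g⁻¹ * (g * D.φ (DihedralGroup.r 1) * g⁻¹) by group, ← hx, ← map_mul,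
              e, map_one]
          exact conj_eq_one_iff.1 h2
        have h3 : orderOf (D.φ (DihedralGroup.r 1)) ∣ 2 :=
          orderOf_dvd_of_pow_eq_one (by rw [pow_two]; exact h1)
        rw [orderOf_injective _ D.inj, DihedralGroup.orderOf_r_one] at h3
        have := Nat.le_of_dvd two_pos h3
        omega
      haveI : NeZero D.n := ⟨hn0⟩
      have e2 : g * D.φ (DihedralGroup.r j) * g⁻¹ = (D.φ (DihedralGroup.r l)) ^ j.val := by
        rw [hx, conj_pow, ← map_pow, DihedralGroup.r_one_pow, ZMod.natCast_zmod_val]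
      rw [e2]
      exact pow_mem (D.rot_mem hn0 l) _
    intro x y
    haveI hn : (D.rot.subgroupOf Tb).Normal := (normal_subgroupOf_iff_le_normalizer hrT).2 hnorm
    have hidx : Nat.card (Tb ⧸ D.rot.subgroupOf Tb) ∣ 4 := by
      have e : Nat.card ↥(D.rot.subgroupOf Tb) * Nat.card (Tb ⧸ D.rot.subgroupOf Tb) = Nat.card Tb :=
        (D.rot.subgroupOf Tb).card_mul_index
      rw [Nat.card_congr (subgroupOfEquivOfLe hrT).toEquiv, D.card_rot, ht] at e
      refine Nat.dvd_of_mul_dvd_mul_left (k := D.n) (by omega) ?_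
      rw [e]
      have hi1 : i ≤ 1 := by
        rcases hcase with h1 | ⟨-, h1⟩ <;> rw [hi] at h1
        · rcases i with _ | i
          · omega
          · exact absurd h1 (Nat.one_lt_two_pow (by omega)).ne'
        · exact (Nat.pow_right_injective le_rfl (h1.trans (pow_one 2).symm)).le
      rw [← hbi, pow_add, ← hDn]
      rcases (show i = 0 ∨ i = 1 by omega) with rfl | rfl
      · exact ⟨2, by ring⟩
      · exact ⟨1, by ring⟩
    have hcommq : ∀ a b : Tb ⧸ D.rot.subgroupOf Tb, a * b = b * a := by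
      obtain ⟨j, hj, e⟩ := (Nat.dvd_prime_pow Nat.prime_two).1
        (show Nat.card (Tb ⧸ D.rot.subgroupOf Tb) ∣ 2 ^ 2 from hidx)
      intro a b
      interval_cases j
      · haveI := (Nat.card_eq_one_iff_unique.1 e).1
        exact Subsingleton.elim _ _
      · haveI := isCyclic_of_prime_card (α := Tb ⧸ D.rot.subgroupOf Tb) (by rw [e, pow_one])
        exact mul_comm' a b
      · haveI := IsPGroup.isMulCommutative_of_card_eq_prime_sq (p := 2) (G := Tb ⧸ D.rot.subgroupOf Tb) e
        exact mul_comm' a b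
    have h1 : QuotientGroup.mk' (D.rot.subgroupOf Tb) ⁅(⟨F x, hFT x⟩ : Tb), ⟨F y, hFT y⟩⁆ = 1 := by
      rw [commutatorElement_def, map_mul, map_mul, map_mul, map_inv, map_inv, hcommq _ (QuotientGroup.mk' _ _)]
      group
    rw [map_commutatorElement]
    exact mem_subgroupOf.1 ((QuotientGroup.eq_one_iff _).1 h1)
  have hR' : ∀ r ∈ ⁅(⊤ : Subgroup c.R), (⊤ : Subgroup c.R)⁆, F r ∈ D.rot := by
    intro r hr
    have hle : ⁅(⊤ : Subgroup c.R), (⊤ : Subgroup c.R)⁆ ≤ D.rot.comap F :=
      commutator_le.2 fun x _ y _ => hcomrot x y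
    exact hle hr
  set R' := ⁅(⊤ : Subgroup c.R), (⊤ : Subgroup c.R)⁆ with hR'def
  have hc0R' : c0 ∈ R' := commutator_mem_commutator (mem_top al) (mem_top d)
  -- conjugation by elements of `S`
  have hconjR' : ∀ x ∈ (S : Subgroup G), ∀ r ∈ R', ∃ r' ∈ R', (r' : G) = x * r * x⁻¹ := by
    intro x hx r hr
    let σ : c.R →* c.R :=
      { toFun := fun r => ⟨x * r * x⁻¹, (mem_normalizer_iff.1 (c.S_le_normalizer_R hx) r).1 r.2⟩
        map_one' := Subtype.ext (show x * 1 * x⁻¹ = 1 by group)
        map_mul' := fun a b => Subtype.ext (show x * (a * b : G) * x⁻¹ = x * a * x⁻¹ * (x * b * x⁻¹) by group) }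
    refine ⟨σ r, ?_, rfl⟩
    have hm' : R'.map σ ≤ R' := by
      rw [hR'def, map_commutator]
      exact commutator_mono le_top le_top
    exact hm' (mem_map_of_mem σ hr)
  -- `u₁` is not a commutator in `R`
  have hF_rot_pow : ∀ r : c.R, F r ∈ D.rot → ∃ i : ℤ, F r = D.φ (DihedralGroup.r 1) ^ i := fun r hr => by
    obtain ⟨i, hi⟩ := mem_zpowers_iff.1 hr
    exact ⟨i, hi.symm⟩
  have huR' : ur ∉ R' := by
    have hc0ne : c0 ^ m = 1 := by
      refine hc0m.resolve_right fun hu => ?_
      -- then `R'` would be cyclic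
      haveI : IsCyclic ↥(R'.map F) := Subgroup.isCyclic_of_le (H' := zpowers (D.φ (DihedralGroup.r 1)))
        (show R'.map F ≤ D.rot from map_le_iff_le_comap.2 hR')
      obtain ⟨⟨g, hg⟩, hgen⟩ := IsCyclic.exists_generator (α := ↥(R'.map F))
      obtain ⟨e, he, rfl⟩ := hg
      obtain ⟨j, hj⟩ := mem_zpowers_iff.1 (hgen ⟨F c0, mem_map_of_mem F hc0R'⟩)
      have hj' : F c0 = F (e ^ j) := by rw [map_zpow]; exact (congrArg Subtype.val hj).symm
      have huze : ur ∈ zpowers e := by
        rw [← hu]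
        rcases hlift hj' with r | r <;> rw [r]
        · exact pow_mem (zpow_mem (mem_zpowers e) j) _
        · rw [(show Commute (e ^ j) ur from hurc _).mul_pow]
          obtain ⟨m', hm'⟩ : Even m := by
            rcases hDn' with h8 | h8
            · exact ⟨2, by omega⟩
            · exact ⟨4, by omega⟩
          rw [show ur ^ m = 1 by rw [hm', ← two_mul, pow_mul, pow_two, hur2, one_pow], mul_one]
          exact pow_mem (zpow_mem (mem_zpowers e) j) _
      have hall : R' ≤ zpowers e := by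
        intro r hr
        obtain ⟨i, hi⟩ := mem_zpowers_iff.1 (hgen ⟨F r, mem_map_of_mem F hr⟩)
        have hi' : F r = F (e ^ i) := by rw [map_zpow]; exact (congrArg Subtype.val hi).symm
        rcases hlift hi' with r' | r' <;> rw [r']
        · exact zpow_mem (mem_zpowers e) i
        · exact mul_mem (zpow_mem (mem_zpowers e) i) huze
      have hcyc : ∀ w : c.R, w ∈ R' → w * w = 1 → w ≠ 1 → w = ur := by
        intro w hw hw2 hw1
        have ho : ∀ v : c.R, v * v = 1 → v ≠ 1 → orderOf v = 2 := fun v h1 h2 => orderOf_two h1 h2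
        have huo := ho ur hur2 (fun e' => c.u_ne (congrArg Subtype.val e'))
        by_contra hne
        haveI := Fintype.ofFinite (zpowers e)
        have h2 : ∀ v : zpowers e, orderOf v = 2 → v ∈ (Finset.univ.filter fun v : zpowers e => orderOf v = 2) :=
          fun v hv => Finset.mem_filter.2 ⟨Finset.mem_univ _, hv⟩
        have hle := IsCyclic.card_orderOf_eq_totient (α := zpowers e) (d := 2) (by
          have := orderOf_dvd_natCard (⟨ur, huze⟩ : zpowers e)
          rw [Subgroup.orderOf_mk, huo] at this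
          rwa [← Nat.card_eq_fintype_card])
        have h3 : 1 < (Finset.univ.filter fun v : zpowers e => orderOf v = 2).card :=
          Finset.one_lt_card.2 ⟨⟨w, hall hw⟩, h2 _ (by rw [Subgroup.orderOf_mk]; exact ho w hw2 hw1),
            ⟨ur, huze⟩, h2 _ (by rw [Subgroup.orderOf_mk]; exact huo), fun e' => hne (congrArg Subtype.val e')⟩
        rw [hle, Nat.totient_two] at h3
        omega
      obtain ⟨r', hr', hre⟩ := hconjR' s hs ur (hu ▸ pow_mem hc0R' _)
      have hr'u : r' = ur := hcyc r' hr' (Subtype.ext (by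
          show (r' : G) * r' = 1
          rw [hre]
          show s * u1 * s⁻¹ * (s * u1 * s⁻¹) = 1
          rw [show s * u1 * s⁻¹ * (s * u1 * s⁻¹) = s * (u1 * u1) * s⁻¹ by group, c.u_sq]; group))
        (fun e' => c.u_ne (conj_eq_one_iff.1 (by
          have h' := congrArg Subtype.val e'
          rw [hre] at h'
          exact h')))
      rw [hr'u] at hre
      exact c.z_ne (mul_eq_left.1 ((c.moved_eq hs hsR).symm.trans hre.symm))
    -- the transfer into the preimage of `L`
    set X0 := L.comap f with hX0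
    set R0 := T.subgroupOf X0 with hR0
    have huX0 : uX ∈ X0 := by
      show f uX ∈ L
      rw [show f uX = 1 from (QuotientGroup.eq_one_iff _).2 huQ]
      exact one_mem _
    have hodd : ¬ 2 ∣ R0.index := by
      obtain ⟨SX, hSX⟩ := exists_sylow_of_coatom hTp hTc ux.not_two
      haveI := has.normal
      haveI : X0.Normal := inferInstance
      have h2 : R0.index = T.index := by
        show T.relIndex X0 = T.index
        have hsup : X0 ⊔ T = ⊤ := by
          refine sup_eq_top hTp hTc fun hle => ?_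
          have hLT : L ≤ Tb := by
            rw [← map_comap_eq_self_of_surjective hfs L]
            exact map_mono hle
          haveI := (has.isPGroup.to_le hLT).isNilpotent
          exact not_solvable_simple has.na inferInstance
        have e1 := T.card_mul_index
        have e2 := (T.subgroupOf X0).card_mul_index
        have e3 := X0.card_mul_index
        have e4 : X0.index = (X0 ⊓ T).relIndex T := by
          rw [inf_relIndex_right, ← relIndex_sup_left (H := T) (K := X0), hsup, relIndex_top_right]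
        rw [e4] at e3
        have e5 := Core.card_mul_relIndex (inf_le_right : X0 ⊓ T ≤ T)
        rw [show Nat.card ↥(T.subgroupOf X0) = Nat.card ↥(X0 ⊓ T) by
          rw [← card_map_of_injective (K := T.subgroupOf X0) X0.subtype_injective, subgroupOf_map_subtype,
            inf_comm]] at e2
        rw [← e3, ← e2, ← e5, mul_right_comm (Nat.card ↥(X0 ⊓ T))] at e1
        exact (Nat.eq_of_mul_eq_mul_left Nat.card_pos (Nat.eq_of_mul_eq_mul_right
          (Nat.pos_of_ne_zero Subgroup.index_ne_zero_of_finite) e1)).symm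
      rw [h2, ← hSX]
      exact SX.not_dvd_index
    -- `R₀` is generated by `al`, `d`, `ur`
    let ρ : R0 →* c.R :=
      { toFun := fun x => ⟨(((x : X0) : X) : G), mem_subgroupOf.1 (mem_subgroupOf.1 x.2)⟩
        map_one' := rfl
        map_mul' := fun _ _ => rfl }
    set RB : Subgroup c.R := L.comap F with hRB
    have hgenRB : ∀ r ∈ RB, ∃ (ε : ℕ) (i : ℤ) (e : c.R), (e = 1 ∨ e = ur) ∧ r = al ^ ε * (d ^ i * e) := by
      intro r hr
      obtain ⟨x, hx⟩ := D.exists_of_mem ⟨hr, hFT r⟩
      rcases x with j | j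
      · obtain ⟨i, e, he, e'⟩ := hA0 r (hx ▸ D.rot_mem hn0 j)
        exact ⟨0, i, e, he, by rw [pow_zero, one_mul]; exact e'⟩
      · have hrot : F (al⁻¹ * r) ∈ D.rot := by
          rw [map_mul, map_inv, hal, ← hx, Dih.s, ← map_inv, ← map_mul, DihedralGroup.inv_sr,
            DihedralGroup.sr_mul_sr]
          exact D.rot_mem hn0 _
        obtain ⟨i, e, he, e'⟩ := hA0 _ hrot
        exact ⟨1, i, e, he, by rw [pow_one, ← e', mul_inv_cancel_left]⟩
    have halRB : al ∈ RB := by show F al ∈ L; rw [hal]; exact (D.s_mem 0).1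
    have hdRB : d ∈ RB := by show F d ∈ L; rw [hd]; exact (D.mem _).1
    have hal2 : ∀ r : c.R, al * al * r = r * (al * al) := by
      intro r
      rcases hker (al * al) (by rw [map_mul, hal, D.s_sq]) with e | e <;> rw [e]
      · rw [one_mul, mul_one]
      · exact (hurc r).symm
    set N0 := (zpowers c0).subgroupOf RB with hN0
    have hc0RB : c0 ∈ RB := RB.mul_mem (RB.mul_mem (RB.mul_mem halRB hdRB) (RB.inv_mem halRB)) (RB.inv_mem hdRB)
    have hc0rot : F c0 ∈ D.rot := by rw [hFc0]; exact D.rot_mem hn0 _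
    have halc0 : al * c0 * al⁻¹ = c0⁻¹ := by
      have h' := hal2 d
      calc al * c0 * al⁻¹ = al * al * d * al⁻¹ * d⁻¹ * al⁻¹ := by rw [hc0]; group
        _ = d * (al * al) * al⁻¹ * d⁻¹ * al⁻¹ := by rw [h']
        _ = c0⁻¹ := by rw [hc0]; group
    haveI hN0n : N0.Normal := by
      refine (normal_subgroupOf_iff_le_normalizer (zpowers_le.2 hc0RB)).2 fun r hr => ?_
      obtain ⟨ε, i, e, he, rfl⟩ := hgenRB r hr
      refine mul_mem (pow_mem ?_ ε) ?_
      · refine Core.mem_normalizer_iff_map_conj.2 ?_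
        rw [MonoidHom.map_zpowers]
        show zpowers (al * c0 * al⁻¹) = _
        rw [halc0, zpowers_inv]
      · refine le_normalizer_zpowers (H := zpowers (d ^ i * e)) (fun x hx => ?_) (mem_zpowers _)
        obtain ⟨l, rfl⟩ := mem_zpowers_iff.1 hx
        refine hA0c _ _ ?_ hc0rot
        rw [map_zpow]
        refine zpow_mem ?_ l
        rw [map_mul, map_zpow, hd]
        rcases he with rfl | rfl
        · rw [map_one, mul_one]; exact zpow_mem (mem_zpowers _) i
        · rw [hFu, mul_one]; exact zpow_mem (mem_zpowers _) i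
    have hcomRB : ∀ a b : RB ⧸ N0, a * b = b * a := by
      let π := QuotientGroup.mk' N0
      have hcad : Commute (π ⟨al, halRB⟩) (π ⟨d, hdRB⟩) := by
        have h1 : π (⟨al, halRB⟩ * ⟨d, hdRB⟩ * ⟨al, halRB⟩⁻¹ * ⟨d, hdRB⟩⁻¹) = 1 :=
          (QuotientGroup.eq_one_iff _).2 (mem_subgroupOf.2 (mem_zpowers c0))
        rw [map_mul, map_mul, map_mul, map_inv, map_inv] at h1
        exact mul_inv_eq_iff_eq_mul.1 (mul_inv_eq_one.1 h1)
      have huRB : ur ∈ RB := by show F ur ∈ L; rw [hFu]; exact one_mem _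
      have hcu : ∀ x, Commute (π ⟨ur, huRB⟩) x := fun x => by
        obtain ⟨w, rfl⟩ := QuotientGroup.mk'_surjective N0 x
        have hw : (⟨ur, huRB⟩ : RB) * w = w * ⟨ur, huRB⟩ := Subtype.ext (hurc _).symm
        show π _ * π w = π w * π _
        rw [← map_mul, ← map_mul, hw]
      intro a b
      obtain ⟨x, rfl⟩ := QuotientGroup.mk'_surjective N0 a
      obtain ⟨y, rfl⟩ := QuotientGroup.mk'_surjective N0 b
      have key : ∀ x : RB, ∃ (ε : ℕ) (i : ℤ) (l : ℕ),
          π x = π ⟨al, halRB⟩ ^ ε * (π ⟨d, hdRB⟩ ^ i * π ⟨ur, huRB⟩ ^ l) := by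
        rintro ⟨x, hx⟩
        obtain ⟨ε, i, e, he, rfl⟩ := hgenRB x hx
        obtain ⟨l, hl⟩ : ∃ l : ℕ, e = ur ^ l := by
          rcases he with r | r
          exacts [⟨0, r.trans (pow_zero _).symm⟩, ⟨1, r.trans (pow_one _).symm⟩]
        refine ⟨ε, i, l, ?_⟩
        rw [← map_pow, ← map_zpow, ← map_pow, ← map_mul, ← map_mul]
        congr 1
        exact Subtype.ext (by simp [hl])
      obtain ⟨ε, i, l, hx⟩ := key x
      obtain ⟨ε', i', l', hy⟩ := key y
      rw [hx, hy]
      have hd' : ∀ z, Commute z (π ⟨al, halRB⟩) → Commute z (π ⟨d, hdRB⟩) →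
          Commute z (π ⟨al, halRB⟩ ^ ε' * (π ⟨d, hdRB⟩ ^ i' * π ⟨ur, huRB⟩ ^ l')) := fun z h1 h2 =>
        (h1.pow_right ε').mul_right ((h2.zpow_right i').mul_right ((hcu z).symm.pow_right l'))
      have c1 := hd' _ (Commute.refl _) hcad
      have c2 := hd' _ hcad.symm (Commute.refl _)
      exact ((c1.pow_left ε).mul_left ((c2.zpow_left i).mul_left ((hcu _).pow_left l))).eq
    letI : CommGroup (RB ⧸ N0) := { (inferInstance : Group (RB ⧸ N0)) with mul_comm := hcomRB }
    have hρRB : ∀ x : R0, ρ x ∈ RB := fun x => (x : X0).2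
    let φ : R0 →* RB ⧸ N0 := (QuotientGroup.mk' N0).comp (ρ.codRestrict RB hρRB)
    have huR0 : (⟨uX, huX0⟩ : X0) ∈ R0 := mem_subgroupOf.2 (mem_subgroupOf.2 c.u_mem_R)
    have hnot := not_mem_commutator φ (g := (⟨uX, huX0⟩ : X0)) (fun x => Subtype.ext (huc (x : X)))
      (Subtype.ext (Subtype.ext c.u_sq)) huR0 hodd (by
        intro e
        obtain ⟨j, hj⟩ := mem_zpowers_iff.1 (mem_subgroupOf.1 ((QuotientGroup.eq_one_iff _).1 e))
        change c0 ^ j = ur at hj
        -- `⟨c₀⟩` meets the kernel trivially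
        have hmpos : (0 : ℤ) < m := by omega
        have hj0 : c0 ^ j = c0 ^ (j % (m : ℤ)).toNat := by
          rw [← zpow_natCast, Int.toNat_of_nonneg (Int.emod_nonneg _ hmpos.ne')]
          conv_lhs => rw [← Int.mul_ediv_add_emod j m, zpow_add, zpow_mul, zpow_natCast, hc0ne, one_zpow, one_mul]
        have hlt : (j % (m : ℤ)).toNat < m := by
          have := Int.emod_lt_of_pos j hmpos
          omega
        have hFj : (DihedralGroup.r (-2) : DihedralGroup D.n) ^ (j % (m : ℤ)).toNat = 1 := D.inj (by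
          rw [map_pow, ← hFc0, ← map_pow, ← hj0, hj, hFu, map_one])
        have hi0 : (j % (m : ℤ)).toNat = 0 := by
          by_contra h0
          exact rf.r_two_ne _ hlt h0 hFj
        rw [hj0, hi0, pow_zero] at hj
        exact c.u_ne (congrArg Subtype.val hj).symm)
    -- `R ∩ X₀'` has abelian quotient
    intro hu
    refine hnot ?_
    haveI := has.normal
    haveI : X0.Normal := inferInstance
    set K0 : Subgroup X := (commutator X0).map X0.subtype with hK0
    haveI hK0n : K0.Normal := Core.normal_map_char_of_normal _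
    set B0 : Subgroup c.R := K0.comap (Subgroup.inclusion ux.le) with hB0
    haveI hB0n : B0.Normal := inferInstance
    suffices hle : R' ≤ B0 by
      obtain ⟨w, hw, e⟩ := hle hu
      have hw' : w = ⟨uX, huX0⟩ := Subtype.ext e
      exact hw' ▸ hw
    have hcards : 2 ^ b ≤ Nat.card B0 := by
      have hKL : L ≤ K0.map f := by
        have hperf : ⁅L, L⁆ = L := by
          haveI := has.simple
          have := congrArg (map L.subtype) (commutator_eq_top has.na)
          rwa [_root_.commutator_def, map_commutator, ← MonoidHom.range_eq_map, range_subtype] at this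
        have hXL : X0.map f = L := map_comap_eq_self_of_surjective hfs L
        rw [hK0, _root_.commutator_def, map_commutator, ← MonoidHom.range_eq_map, range_subtype, map_commutator, hXL,
          hperf]
      let κ : B0 →* X ⧸ Q := F.comp B0.subtype
      have hκ : L ⊓ Tb ≤ κ.range := by
        rintro y ⟨hyL, hyT⟩
        obtain ⟨w, hw, e⟩ := hKL hyL
        have hwT : w ∈ T := by
          have : w ∈ Tb.comap f := by show f w ∈ Tb; rw [e]; exact hyT
          rwa [hTb, comap_map_eq_self (by rw [hf, QuotientGroup.ker_mk']; exact hQT)] at this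
        exact ⟨⟨⟨w, mem_subgroupOf.1 hwT⟩, hw⟩, e⟩
      calc 2 ^ b = Nat.card ↥(L ⊓ Tb) := hb.symm
        _ ≤ Nat.card κ.range := Nat.le_of_dvd Nat.card_pos (card_dvd_of_le hκ)
        _ ≤ Nat.card B0 := Nat.le_of_dvd Nat.card_pos (card_range_dvd κ)
    have hidx : B0.index ∣ 4 := by
      obtain ⟨j, hj, e⟩ := (Nat.dvd_prime_pow Nat.prime_two).1 (hcardR ▸ B0.index_dvd_card)
      rw [e]
      refine (pow_dvd_pow 2 (show j ≤ 2 from ?_)).trans (by norm_num)
      have h1 := B0.card_mul_index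
      rw [hcardR, e] at h1
      have h2 : 2 ^ b * 2 ^ j ≤ 2 ^ (k - 1) := h1 ▸ Nat.mul_le_mul_right _ hcards
      rw [← pow_add, Nat.pow_le_pow_iff_right (by norm_num)] at h2
      have hi1 : i ≤ 1 := by
        rcases hcase with h1 | ⟨-, h1⟩ <;> rw [hi] at h1
        · rcases i with _ | i
          · omega
          · exact absurd h1 (Nat.one_lt_two_pow (by omega)).ne'
        · exact (Nat.pow_right_injective le_rfl (h1.trans (pow_one 2).symm)).le
      omega
    have hcommq : ∀ a b : c.R ⧸ B0, a * b = b * a := by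
      obtain ⟨j, hj, e⟩ := (Nat.dvd_prime_pow Nat.prime_two).1
        (show Nat.card (c.R ⧸ B0) ∣ 2 ^ 2 from hidx)
      intro a b
      interval_cases j
      · haveI := (Nat.card_eq_one_iff_unique.1 e).1
        exact Subsingleton.elim _ _
      · haveI := isCyclic_of_prime_card (α := c.R ⧸ B0) (by rw [e, pow_one])
        exact mul_comm' a b
      · haveI := IsPGroup.isMulCommutative_of_card_eq_prime_sq (p := 2) (G := c.R ⧸ B0) e
        exact mul_comm' a b
    refine commutator_le.2 fun x _ y _ => ?_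
    rw [← QuotientGroup.eq_one_iff]
    show QuotientGroup.mk' B0 ⁅x, y⁆ = 1
    rw [commutatorElement_def, map_mul, map_mul, map_mul, map_inv, map_inv, hcommq _ (QuotientGroup.mk' B0 y)]
    group
  -- `R'` maps injectively; its element over `a`
  have hinj : ∀ r ∈ R', ∀ r' ∈ R', F r = F r' → r = r' := fun r hr r' hr' e =>
    (hlift e).resolve_right fun e' => huR' (by
      have := R'.mul_mem (R'.inv_mem hr') hr
      rwa [e', inv_mul_cancel_left] at this)
  obtain ⟨c4, hc4R, hc4⟩ : ∃ c4 ∈ R', F c4 = D.a := by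
    obtain ⟨j, hj⟩ := rf.a_mem
    exact ⟨c0 ^ j, pow_mem hc0R' _, by rw [map_pow, hFc0, ← map_pow, ← hj]; rfl⟩
  have hc44 : c4 * c4 * (c4 * c4) = 1 := by
    refine hinj _ (R'.mul_mem (R'.mul_mem hc4R hc4R) (R'.mul_mem hc4R hc4R)) _ (one_mem _) ?_
    rw [map_mul, map_mul, hc4, D.a_sq, D.z_sq, map_one]
  have hc4ne : c4 * c4 ≠ 1 := fun e => D.z_ne (by rw [← D.a_sq, ← hc4, ← map_mul, e, map_one])
  have hconj4 : ∀ x ∈ (S : Subgroup G), x * (c4 : G) * x⁻¹ = c4 ∨ x * (c4 : G) * x⁻¹ = (c4 : G)⁻¹ := by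
    intro x hx
    obtain ⟨r', hr', hre⟩ := hconjR' x hx c4 hc4R
    have hrot := hR' r' hr'
    obtain ⟨l, hl⟩ := D.mem_rot hrot
    have hr2 : F (r' * r') = D.z := by
      have hnot1 : r' * r' ≠ 1 := fun e => hc4ne (Subtype.ext (by
        have e' : (r' : G) * r' = 1 := congrArg Subtype.val e
        rw [hre, show x * (c4 : G) * x⁻¹ * (x * c4 * x⁻¹) = x * ((c4 : G) * c4) * x⁻¹ by group,
          conj_eq_one_iff] at e'
        exact e'))
      have hsq : r' * r' * (r' * r') = 1 := Subtype.ext (by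
        show (r' : G) * r' * ((r' : G) * r') = 1
        rw [hre, show x * (c4 : G) * x⁻¹ * (x * c4 * x⁻¹) * (x * c4 * x⁻¹ * (x * c4 * x⁻¹))
          = x * ((c4 : G) * c4 * ((c4 : G) * c4)) * x⁻¹ by group,
          show (c4 : G) * c4 * ((c4 : G) * c4) = 1 from congrArg Subtype.val hc44]
        group)
      obtain ⟨l2, hl2⟩ := D.mem_rot (hR' _ (R'.mul_mem hr' hr'))
      rcases rf.inv_z l2 (D.inj (by rw [map_mul, ← hl2, ← map_mul, hsq, map_one, map_one])) with e | e
      · exact absurd (hinj _ (R'.mul_mem hr' hr') _ (one_mem _) (by rw [hl2, e, map_one, map_one])) hnot1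
      · rw [hl2, e]; rfl
    rcases rf.sq_z l (D.inj (by rw [map_mul, ← hl, ← map_mul]; exact hr2)) with e | e
    · left
      rw [← hre]
      exact congrArg Subtype.val (hinj _ hr' _ hc4R (by rw [hl, e, hc4]; rfl))
    · right
      rw [← hre, ← Subgroup.coe_inv]
      exact congrArg Subtype.val (hinj _ hr' _ (R'.inv_mem hc4R) (by rw [hl, e, map_inv, map_inv, hc4]; rfl))
  set ε : G := (c4 : G) * c4 with hεdef
  have hεfix : ∀ x ∈ (S : Subgroup G), x * ε * x⁻¹ = ε := by
    intro x hx
    have hε2 : ε * ε = 1 := congrArg Subtype.val hc44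
    rw [show x * ε * x⁻¹ = x * (c4 : G) * x⁻¹ * (x * c4 * x⁻¹) by rw [hεdef]; group]
    rcases hconj4 x hx with e | e <;> rw [e]
    rw [← mul_inv_rev]; exact inv_eq_of_mul_eq_one_right hε2
  have hFz : F (c4 * c4) = D.z := by rw [map_mul, hc4, D.a_sq]
  have hzε : z0 = ε := by
    set zr : c.R := ⟨z0, c.z_mem_R⟩
    have hz1 : F zr = 1 ∨ F zr = D.z := by
      refine D.cent_a has hcase (hFT _) (by rw [← map_mul, show zr * zr = 1 from Subtype.ext c.z_sq, map_one]) ?_
      rw [← hc4, ← map_mul, ← map_mul]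
      exact congrArg F (Subtype.ext (c.z_central _ c4.2.1).symm)
    rcases hz1 with e | e
    · rcases hker zr e with r | r
      · exact absurd (congrArg Subtype.val r) c.z_ne
      · exfalso
        have hzu : z0 = u1 := congrArg Subtype.val r
        exact hsmove (by rw [← hzu, c.z_central s hs, mul_assoc, mul_inv_cancel, mul_one])
    · rcases hlift (e.trans hFz.symm) with r | r
      · exact congrArg Subtype.val r
      · exfalso
        have hzu : z0 = ε * u1 := congrArg Subtype.val r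
        refine hsmove ?_
        have hu : u1 = ε⁻¹ * z0 := by rw [hzu, inv_mul_cancel_left]
        calc s * u1 * s⁻¹ = (s * ε * s⁻¹)⁻¹ * (s * z0 * s⁻¹) := by rw [hu]; group
          _ = ε⁻¹ * z0 := by rw [hεfix s hs, c.z_central s hs, mul_assoc z0, mul_inv_cancel, mul_one]
          _ = u1 := hu.symm
  refine c.square h hbad (fun x hx hxx => ?_) fun w hw hwR hw2 => ?_
  · set σ : c.R := ⟨x * x, c.sq_mem hx⟩
    have hcom : σ * c4 = c4 * σ := by
      apply Subtype.ext
      show x * x * (c4 : G) = (c4 : G) * (x * x)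
      refine mul_inv_eq_iff_eq_mul.1 ?_
      rw [show x * x * (c4 : G) * (x * x)⁻¹ = x * (x * c4 * x⁻¹) * x⁻¹ by group]
      rcases hconj4 x hx with e | e <;> rw [e]
      · exact e
      · rw [show x * (c4 : G)⁻¹ * x⁻¹ = (x * c4 * x⁻¹)⁻¹ by group, e, inv_inv]
    rcases D.cent_a has hcase (hFT σ) (by rw [← map_mul, show σ * σ = 1 from Subtype.ext hxx, map_one])
      (by rw [← hc4, ← map_mul, ← map_mul, hcom]) with e | e
    · rcases hker σ e with r | r
      · exact Or.inl (congrArg Subtype.val r)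
      · exact Or.inr (Or.inr (Or.inl (congrArg Subtype.val r)))
    · rcases hlift (e.trans hFz.symm) with r | r
      · exact Or.inr (Or.inl ((congrArg Subtype.val r).trans hzε.symm))
      · refine Or.inr (Or.inr (Or.inr ?_))
        have e' : x * x = ε * u1 := congrArg Subtype.val r
        rw [e', ← hzε]
        exact (c.z_central u1 c.u_mem).symm
  · refine c.exists_commuting hw hwR hw2 c4.2 hzε.symm ?_
    rcases hconj4 w hw with e | e <;> rw [e]
    · exact Or.inl (inv_mul_cancel _)
    · refine Or.inr (Or.inl ?_)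
      rw [← mul_inv_rev]
      exact (inv_eq_of_mul_eq_one_right (congrArg Subtype.val hc44)).trans hzε.symm

end Cfsg.Lib.LenEight
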