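import Cfsg.Agent.Lib.LenEight.StepUOdd
import Cfsg.Agent.Lib.LenEight.Push

/-!
# A noncentral involution of a normal four-group: a constrained group in its centralizer
-/

set_option autoImplicit false
set_option linter.style.haveILetI false

namespace Cfsg.Lib.LenEight

open Subgroup Cfsg

universe u

variable {G : Type u} [Group G] [Finite G] [IsSimpleGroup G] {S : Sylow 2 G} {k : ℕ} {z0 u1 : G}
  {c : NC S z0 u1} {X : Subgroup G}

theorem five_le_card {H : Subgroup G} {a b d : G} (ha : a ∈ H) (hb : b ∈ H) (hd : d ∈ H) (ha1 : a ≠ 1)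
    (hb1 : b ≠ 1) (hab : a ≠ b) (hd1 : d ≠ 1) (hda : d ≠ a) (hdb : d ≠ b) (hdab : d ≠ a * b)
    (h1 : a * b ≠ 1) : 5 ≤ Nat.card H := by
  classical
  have hs : (({1, a, b, a * b, d} : Finset G) : Set G) ⊆ (H : Set G) := by
    intro y hy
    simp only [Finset.coe_insert, Finset.coe_singleton, Set.mem_insert_iff, Set.mem_singleton_iff] at hy
    rcases hy with rfl | rfl | rfl | rfl | rfl
    exacts [one_mem _, ha, hb, H.mul_mem ha hb, hd]
  have h := Set.ncard_le_ncard hs (Set.toFinite _)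
  rw [Set.ncard_coe_finset, Finset.card_insert_of_notMem (by simp [ha1.symm, hb1.symm, h1.symm, hd1.symm]),
    Finset.card_insert_of_notMem (by
      simp only [Finset.mem_insert, Finset.mem_singleton, not_or]
      exact ⟨hab, fun e => hb1 (mul_eq_left.1 e.symm), hda.symm⟩),
    Finset.card_insert_of_notMem (by
      simp only [Finset.mem_insert, Finset.mem_singleton, not_or]
      exact ⟨fun e => ha1 (mul_eq_right.1 e.symm), hdb.symm⟩),
    Finset.card_insert_of_notMem (by simpa using hdab.symm), Finset.card_singleton, ← Nat.card_coe_set_eq] at h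
  exact h

theorem UX.cons_case (h : Ctx G S k) (ux : UX c X) (hbad : ¬ IsPGroup 2 ↥(centralizer ({u1} : Set G)))
    (hcons : centralizer (pCore 2 X : Set X) ≤ pCore 2 X) : False := by
  classical
  haveI : Fact (Nat.Prime 2) := ⟨Nat.prime_two⟩
  obtain ⟨s, hs, hsmove⟩ := c.moved
  have hsR : s ∉ c.R := fun e => hsmove (mul_inv_eq_iff_eq_mul.2 (c.mem_R.1 e).2)
  have hcardR := c.card_R h.card
  have hXtop := ux.ne_top h
  have hsn := c.S_le_normalizer_R
  have hout : ∀ x ∈ (S : Subgroup G), x ∉ c.R → s⁻¹ * x ∈ c.R := by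
    intro x hx hxR
    have := (mul_mem_iff_of_index_two (H := c.R.subgroupOf (S : Subgroup G)) c.relIndex
      (a := (⟨s, hs⟩ : (S : Subgroup G))⁻¹) (b := ⟨x, hx⟩)).2
      (iff_of_false (fun h' => hsR (by simpa using mem_subgroupOf.1 h')) (fun h' => hxR (mem_subgroupOf.1 h')))
    exact mem_subgroupOf.1 this
  have hno : ∀ N : Subgroup G, N ≤ c.R → X ≤ normalizer (N : Set G) → s ∈ normalizer (N : Set G) → N = ⊥ := by
    intro N hN hX hsN
    by_contra hne
    have hle : (S : Subgroup G) ≤ normalizer (N : Set G) := fun x hx => by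
      by_cases hxR : x ∈ c.R
      · exact hX (ux.le hxR)
      · have := (normalizer (N : Set G)).mul_mem hsN (hX (ux.le (hout x hx hxR)))
        rwa [mul_inv_cancel_left] at this
    rw [h.normalizer_eq (hN.trans c.R_le) hne hle] at hX
    exact ux.not_two (S.2.to_le hX)
  have cfg : Cfg X c.R s := ⟨ux.le, S.2.to_le c.R_le, ux.not_two, ux.maximal, hsn hs, c.sq_mem hs, hno,
    h.len_proper hXtop, by
      rw [hcardR]
      exact Nat.pow_le_pow_right two_pos (by have := h.le_seven; omega) |>.trans (by norm_num : 2 ^ 6 ≤ 64)⟩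
  obtain ⟨-, hcases, helem⟩ := cfg.push hcons
  set A := pCoreOf 2 X with hA
  have hAR : A ≤ c.R := cfg.core_le
  have hAn : X ≤ normalizer (A : Set G) := Cfg.le_normalizer_core X
  have hcA : ∀ y ∈ X, (∀ a ∈ A, a * y = y * a) → y ∈ A := fun y hy hcom =>
    ⟨⟨y, hy⟩, hcons (mem_centralizer_iff.2 fun q hq => Subtype.ext (hcom q ⟨q, hq, rfl⟩)), rfl⟩
  have hUA : ∀ w, c.InU w → w ∈ A := fun w hw => hcA w (ux.le (c.inU_mem hw)) fun a ha => c.inU_comm hw (hAR ha)
  have hzu : z0 ≠ u1 := fun e => hbad (by rw [← e, h.cent_eq c.z_ne c.z_central]; exact S.2)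
  have huz1 : u1 * z0 ≠ 1 := fun e => hzu (by rw [← inv_eq_of_mul_eq_one_right e, inv_self c.u_sq])
  have hmemA : ∀ w ∈ A, c.InU w ∨ 5 ≤ Nat.card A := by
    intro w hw
    by_cases hwU : c.InU w
    · exact Or.inl hwU
    · simp only [NC.InU, not_or] at hwU
      exact Or.inr (five_le_card (hUA _ (Or.inr (Or.inr (Or.inl rfl)))) (hUA _ (Or.inr (Or.inl rfl))) hw c.u_ne
        c.z_ne hzu.symm hwU.1 hwU.2.2.1 hwU.2.1 hwU.2.2.2 huz1)
  rcases hcases with ⟨hR8, hA4⟩ | ⟨hR16, hA8⟩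
  · -- `R` would centralize `O₂(X)`
    have hall : c.R ≤ A := fun r hr => hcA r (ux.le hr) fun a ha =>
      ((hmemA a ha).resolve_right (by omega)).elim (fun e => by subst e; rw [one_mul, mul_one]) fun e =>
        (c.inU_comm (Or.inr e) hr).symm
    have := Nat.le_of_dvd Nat.card_pos (card_dvd_of_le hall)
    omega
  set B := A.map (MulAut.conj s).toMonoidHom with hB
  have hBR : B ≤ c.R := by
    rw [hB, ← Core.map_conj_eq_of_mem_normalizer (hsn hs)]
    exact map_mono hAR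
  have hBc : Nat.card B = 8 := by
    rw [hB, card_map_of_injective (f := (MulAut.conj s).toMonoidHom) (MulAut.conj s).injective, hA8]
  have hBA : B ≠ A := fun e => by
    have := hno A hAR hAn (Core.mem_normalizer_iff_map_conj.2 e)
    rw [this, card_bot] at hA8
    omega
  have hBn : c.R ≤ normalizer (B : Set G) := by
    rw [hB, ← Core.map_conj_eq_of_mem_normalizer (hsn hs)]
    exact (map_mono (ux.le.trans hAn)).trans (le_normalizer_map _)
  have hswap : ∀ x ∈ (S : Subgroup G), x ∉ c.R → A.map (MulAut.conj x).toMonoidHom = B := by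
    intro x hx hxR
    rw [show x = s * (s⁻¹ * x) by group, Core.map_conj_mul,
      Core.map_conj_eq_of_mem_normalizer (hAn (ux.le (hout x hx hxR)))]
  have hidxA : (A.subgroupOf c.R).index = 2 := by
    have e := (A.subgroupOf c.R).card_mul_index
    rw [Nat.card_congr (subgroupOfEquivOfLe hAR).toEquiv, hA8, hR16] at e
    omega
  have hidxB : (B.subgroupOf c.R).index = 2 := by
    have e := (B.subgroupOf c.R).card_mul_index
    rw [Nat.card_congr (subgroupOfEquivOfLe hBR).toEquiv, hBc, hR16] at e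
    omega
  have hUB : ∀ w, c.InU w → w ∈ B := by
    have hz : z0 ∈ B := ⟨z0, hUA _ (Or.inr (Or.inl rfl)), by
      show s * z0 * s⁻¹ = z0
      rw [c.z_central s hs, mul_assoc, mul_inv_cancel, mul_one]⟩
    have hu : u1 * z0 ∈ B := ⟨u1, hUA _ (Or.inr (Or.inr (Or.inl rfl))), c.moved_eq hs hsR⟩
    rintro w (rfl | rfl | rfl | rfl)
    · exact one_mem _
    · exact hz
    · have := B.mul_mem hu hz
      rwa [mul_assoc, c.z_sq, mul_one] at this
    · exact hu
  -- `A ∩ B` is the four-group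
  have hD : ∀ w, w ∈ A → w ∈ B → c.InU w := by
    intro w hwA hwB
    by_contra hw
    have h5 : 5 ≤ Nat.card ↥(A ⊓ B) := by
      simp only [NC.InU, not_or] at hw
      exact five_le_card ⟨hUA _ (Or.inr (Or.inr (Or.inl rfl))), hUB _ (Or.inr (Or.inr (Or.inl rfl)))⟩
        ⟨hUA _ (Or.inr (Or.inl rfl)), hUB _ (Or.inr (Or.inl rfl))⟩ ⟨hwA, hwB⟩ c.u_ne c.z_ne hzu.symm hw.1
        hw.2.2.1 hw.2.1 hw.2.2.2 huz1
    have hd := card_dvd_of_le (inf_le_left : A ⊓ B ≤ A)
    rw [hA8] at hd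
    obtain ⟨i, hi, e⟩ := (Nat.dvd_prime_pow Nat.prime_two).1 (show Nat.card ↥(A ⊓ B) ∣ 2 ^ 3 from hd)
    have h8 : Nat.card ↥(A ⊓ B) = 8 := by
      rw [e] at h5 ⊢
      interval_cases i <;> omega
    exact hBA (eq_of_le_of_card_ge (inf_eq_left.1 (eq_of_le_of_card_ge inf_le_left
      (by rw [h8, hA8]) : A ⊓ B = A)) (by rw [hA8, hBc])).symm
  have hBelem : ∀ b ∈ B, b * b = 1 := by
    rintro _ ⟨a, ha, rfl⟩
    rw [← map_mul, helem a ha, map_one]
  have hsqA : ∀ r ∈ c.R, r * r ∈ A := fun r hr => by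
    simpa using mem_subgroupOf.1 ((mul_mem_iff_of_index_two hidxA (a := (⟨r, hr⟩ : c.R)) (b := ⟨r, hr⟩)).2 Iff.rfl)
  have hsqB : ∀ r ∈ c.R, r * r ∈ B := fun r hr => by
    simpa using mem_subgroupOf.1 ((mul_mem_iff_of_index_two hidxB (a := (⟨r, hr⟩ : c.R)) (b := ⟨r, hr⟩)).2 Iff.rfl)
  have hinv : ∀ r ∈ c.R, r * r = 1 → r ∈ A ∨ r ∈ B := by
    intro r hr hr2
    by_contra hne
    push Not at hne
    obtain ⟨b, hbB, hbA⟩ : ∃ b ∈ B, b ∉ A := SetLike.not_le_iff_exists.1 fun hle =>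
      hBA (eq_of_le_of_card_ge hle (by rw [hA8, hBc]))
    have haA : r * b ∈ A :=
      mem_subgroupOf.1 ((mul_mem_iff_of_index_two hidxA (a := (⟨r, hr⟩ : c.R)) (b := ⟨b, hBR hbB⟩)).2
        (iff_of_false (fun e => hne.1 (mem_subgroupOf.1 e)) (fun e => hbA (mem_subgroupOf.1 e))))
    have haB : r * b ∉ B := fun e => hne.2 ((B.mul_mem_cancel_right hbB).1 e)
    have hab : r * b * b = b * (r * b) := by
      have h1 := helem _ haA
      have h2 := hBelem b hbB
      calc r * b * b = r := by rw [mul_assoc, h2, mul_one]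
        _ = r⁻¹ := (inv_self hr2).symm
        _ = (r * b * b)⁻¹ := by rw [mul_assoc, h2, mul_one]
        _ = b * (r * b) := by rw [mul_inv_rev, inv_self h2, inv_self h1]
    have h5 : 5 ≤ Nat.card ↥(A ⊓ centralizer ({b} : Set G)) := by
      have hUm : ∀ w, c.InU w → w ∈ A ⊓ centralizer ({b} : Set G) := fun w hw =>
        ⟨hUA w hw, mem_cent.2 (c.inU_comm hw (hBR hbB)).symm⟩
      have hnU : ∀ w, c.InU w → r * b ≠ w := fun w hw e => haB (e ▸ hUB w hw)
      exact five_le_card (hUm _ (Or.inr (Or.inr (Or.inl rfl)))) (hUm _ (Or.inr (Or.inl rfl)))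
        ⟨haA, mem_cent.2 hab⟩ c.u_ne c.z_ne hzu.symm (hnU _ (Or.inl rfl))
        (hnU _ (Or.inr (Or.inr (Or.inl rfl)))) (hnU _ (Or.inr (Or.inl rfl)))
        (hnU _ (Or.inr (Or.inr (Or.inr rfl)))) huz1
    have hd := card_dvd_of_le (inf_le_left : A ⊓ centralizer ({b} : Set G) ≤ A)
    rw [hA8] at hd
    obtain ⟨i, hi, e⟩ := (Nat.dvd_prime_pow Nat.prime_two).1
      (show Nat.card ↥(A ⊓ centralizer ({b} : Set G)) ∣ 2 ^ 3 from hd)
    have h8 : Nat.card ↥(A ⊓ centralizer ({b} : Set G)) = 8 := by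
      rw [e] at h5 ⊢
      interval_cases i <;> omega
    exact hbA (hcA b (ux.le (hBR hbB)) fun a ha => mem_cent.1
      ((eq_of_le_of_card_ge inf_le_left (by rw [h8, hA8]) : A ⊓ centralizer ({b} : Set G) = A).ge ha).2)
  refine c.square h hbad (fun x hx hxx => ?_) fun t ht htR ht2 => ?_
  · by_cases hxR : x ∈ c.R
    · exact hD _ (hsqA x hxR) (hsqB x hxR)
    · have hconj : x * (x * x) * x⁻¹ = x * x := by group
      rcases hinv _ (c.sq_mem hx) hxx with e | e
      · exact hD _ e (hswap x hx hxR ▸ ⟨x * x, e, hconj⟩)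
      · refine hD _ ?_ e
        obtain ⟨a, ha, hae⟩ := (hswap x hx hxR).ge e
        change x * a * x⁻¹ = x * x at hae
        rw [← hconj] at hae
        exact mul_left_cancel (mul_right_cancel hae) ▸ ha
  · obtain ⟨b, hbB, hbA⟩ : ∃ b ∈ B, b ∉ A := SetLike.not_le_iff_exists.1 fun hle =>
      hBA (eq_of_le_of_card_ge hle (by rw [hA8, hBc]))
    obtain ⟨a, haA, haB⟩ : ∃ a ∈ A, a ∉ B := SetLike.not_le_iff_exists.1 fun hle =>
      hBA (eq_of_le_of_card_ge hle (by rw [hA8, hBc])).symm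
    set x := a * b with hx
    have hxR : x ∈ c.R := c.R.mul_mem (hAR haA) (hBR hbB)
    have hxA : x ∉ A := fun e => hbA ((A.mul_mem_cancel_left haA).1 e)
    have hxB : x ∉ B := fun e => haB ((B.mul_mem_cancel_right hbB).1 e)
    set y := t * x * t⁻¹ with hy
    have hyR : y ∈ c.R := (mem_normalizer_iff.1 (hsn ht) x).1 hxR
    have hyB : y ∉ B := fun e => hxA (by
      obtain ⟨q, hq, hqe⟩ := (hswap t ht htR).ge e
      change t * q * t⁻¹ = y at hqe
      exact mul_left_cancel (mul_right_cancel hqe) ▸ hq)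
    have hyA : y ∉ A := fun e => hxB (by
      rw [← hswap t ht htR]
      refine ⟨y, e, ?_⟩
      show t * (t * x * t⁻¹) * t⁻¹ = x
      calc t * (t * x * t⁻¹) * t⁻¹ = t * t * x * (t * t)⁻¹ := by group
        _ = x := by rw [ht2]; group)
    have hwA : x⁻¹ * y ∈ A := mem_subgroupOf.1 ((mul_mem_iff_of_index_two hidxA (a := (⟨x, hxR⟩ : c.R)⁻¹)
      (b := ⟨y, hyR⟩)).2 (iff_of_false (fun e => hxA (by simpa using mem_subgroupOf.1 e))
        (fun e => hyA (mem_subgroupOf.1 e))))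
    have hwB : x⁻¹ * y ∈ B := mem_subgroupOf.1 ((mul_mem_iff_of_index_two hidxB (a := (⟨x, hxR⟩ : c.R)⁻¹)
      (b := ⟨y, hyR⟩)).2 (iff_of_false (fun e => hxB (by simpa using mem_subgroupOf.1 e))
        (fun e => hyB (mem_subgroupOf.1 e))))
    have hw := hD _ hwA hwB
    have hxx : x * x ≠ 1 := fun e => (hinv x hxR e).elim hxA hxB
    have hxU : c.InU (x * x) := hD _ (hsqA x hxR) (hsqB x hxR)
    have hfix : t * (x * x) * t⁻¹ = x * x := by
      calc t * (x * x) * t⁻¹ = y * y := by rw [hy]; group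
        _ = x * (x⁻¹ * y) * (x * (x⁻¹ * y)) := by group
        _ = x * x := by
          rw [(show Commute (x⁻¹ * y) x from (c.inU_comm hw hxR).symm).mul_mul_mul_comm, c.inU_sq hw, mul_one]
    exact c.exists_commuting ht htR ht2 hxR ((c.inU_fixed hxU ht htR hfix).resolve_left hxx) hw

end Cfsg.Lib.LenEight
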