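import Cfsg.Agent.Lib.LenEight.Setting
import Cfsg.Agent.Lib.EightThree.Core

/-!
# A noncentral involution of a normal four-group: an odd normal subgroup in its centralizer
-/

set_option autoImplicit false
set_option linter.style.haveILetI false

namespace Cfsg.Lib.LenEight

open Subgroup

universe u

variable {G : Type u} [Group G] [Finite G] [IsSimpleGroup G] {S : Sylow 2 G} {k : ℕ} {z0 u1 : G}

/-- A minimal non-2-group between `C_S(u₁)` and `C(u₁)`. -/
structure UX (c : NC S z0 u1) (X : Subgroup G) : Prop where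
  le : c.R ≤ X
  le_cent : X ≤ centralizer ({u1} : Set G)
  not_two : ¬ IsPGroup 2 X
  maximal : ∀ Z : Subgroup G, c.R < Z → Z ≤ X → Z = X

theorem card_sup_coprime {A B : Subgroup G} (hn : A ≤ normalizer (B : Set G))
    (hcop : (Nat.card A).Coprime (Nat.card B)) : Nat.card ↥(A ⊔ B) = Nat.card A * Nat.card B := by
  have hinf : A ⊓ B = ⊥ := inf_eq_bot_of_coprime hcop
  haveI : (B.subgroupOf (A ⊔ B)).Normal :=
    (normal_subgroupOf_iff_le_normalizer le_sup_right).2 (sup_le hn le_normalizer)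
  rw [← Core.card_mul_relIndex (le_sup_right : B ≤ A ⊔ B), mul_comm]
  congr 1
  have h1 : B.relIndex (A ⊔ B) = B.relIndex A := by
    have e : (B.subgroupOf (A ⊔ B)).relIndex (A.subgroupOf (A ⊔ B) ⊔ B.subgroupOf (A ⊔ B))
        = (B.subgroupOf (A ⊔ B)).relIndex (A.subgroupOf (A ⊔ B)) := relIndex_sup_right _ _
    rw [← subgroupOf_sup le_sup_left le_sup_right, subgroupOf_self, relIndex_top_right] at e
    rw [relIndex_subgroupOf le_sup_left] at e
    exact e
  rw [h1, ← inf_relIndex_right, inf_comm, hinf, relIndex_bot_left]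

namespace UX

variable {c : NC S z0 u1} {X : Subgroup G} (h : Ctx G S k) (ux : UX c X)
include h ux

omit [IsSimpleGroup G] in
theorem len_le (hk : 5 ≤ k) (hX : X ≠ ⊤) : LenLe X k := (h.len hk).of_lt (lt_top_iff_ne_top.2 hX)

theorem ne_top : X ≠ ⊤ := fun e =>
  centralizer_ne_top h.na c.u_ne (top_le_iff.1 (e ▸ ux.le_cent))

/-- An `R`-invariant odd subgroup of `X` generates `X` with `R`. -/
theorem sup_eq {P : Subgroup G} (hP : P ≠ ⊥) (hle : P ≤ X) (hodd : Odd (Nat.card P)) : c.R ⊔ P = X := by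
  refine ux.maximal _ (lt_of_le_of_ne le_sup_left fun e => hP ?_) (sup_le ux.le hle)
  have hPR : P ≤ c.R := e ▸ le_sup_right
  obtain ⟨a, ha⟩ := IsPGroup.iff_card.1 (S.2.to_le (hPR.trans c.R_le))
  rw [ha] at hodd
  rcases a with _ | a
  · exact card_eq_one.1 ha
  · exact absurd hodd (Nat.not_odd_iff_even.2 (Nat.even_pow.2 ⟨even_two, by omega⟩))

theorem odd_case {W0 : Subgroup G} (hW0 : W0 ≠ ⊥) (hW0X : W0 ≤ X) (hW0n : X ≤ normalizer (W0 : Set G))
    (hW0o : Odd (Nat.card W0)) (hbad : ¬ IsPGroup 2 ↥(centralizer ({u1} : Set G))) : False := by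
  classical
  haveI : Fact (Nat.Prime 2) := ⟨Nat.prime_two⟩
  have hRp : IsPGroup 2 c.R := S.2.to_le c.R_le
  have hcardR := c.card_R h.card
  -- an invariant Sylow subgroup of `W₀`
  obtain ⟨p, hp, hpd⟩ := Nat.exists_prime_and_dvd (n := Nat.card W0) fun e => hW0 (card_eq_one.1 e)
  haveI := Fact.mk hp
  have hp2 : p ≠ 2 := fun e => by
    rw [e] at hpd
    obtain ⟨m, hm⟩ := hW0o
    omega
  have hcop0 : (Nat.card c.R).Coprime (Nat.card W0) := by
    rw [hcardR]; exact (Nat.coprime_two_left.2 hW0o).pow_left _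
  haveI := hRp.isNilpotent
  obtain ⟨P0, hP0⟩ := Cfsg.Lib.Coprime.exists_invariant_sylow (ux.le.trans hW0n) hcop0
    (Or.inl inferInstance) p
  set P : Subgroup G := (P0 : Subgroup W0).map W0.subtype with hPdef
  have hPW : P ≤ W0 := map_subtype_le _
  have hPX : P ≤ X := hPW.trans hW0X
  have hPp : IsPGroup p P := P0.2.map _
  obtain ⟨d, hd⟩ := IsPGroup.iff_card.1 hPp
  have hd0 : d ≠ 0 := fun e => by
    have h1 : Nat.card ↥(P0 : Subgroup W0) = 1 := by
      rw [← card_map_of_injective W0.subtype_injective, ← hPdef, hd, e, pow_zero]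
    have h2 := P0.not_dvd_index
    rw [card_eq_one.1 h1, index_bot] at h2
    exact h2 hpd
  have hPodd : Odd (Nat.card P) := by rw [hd]; exact (hp.odd_of_ne_two hp2).pow
  have hPne : P ≠ ⊥ := fun e => by
    rw [e, card_bot] at hd
    exact absurd hd.symm (Nat.one_lt_pow hd0 hp.one_lt).ne'
  have hcop : (Nat.card c.R).Coprime (Nat.card P) := by
    rw [hcardR]; exact (Nat.coprime_two_left.2 hPodd).pow_left _
  -- invariant subgroups of `P` are trivial or `P`
  have hirr : ∀ P1 : Subgroup G, P1 ≤ P → c.R ≤ normalizer (P1 : Set G) → P1 = ⊥ ∨ P1 = P := by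
    intro P1 hle hn
    by_cases h1 : P1 = ⊥
    · exact Or.inl h1
    refine Or.inr (eq_of_le_of_card_ge hle ?_)
    have hodd1 : Odd (Nat.card P1) := hPodd.of_dvd_nat (card_dvd_of_le hle)
    have hcop1 : (Nat.card c.R).Coprime (Nat.card P1) := by
      rw [hcardR]; exact (Nat.coprime_two_left.2 hodd1).pow_left _
    have e := card_sup_coprime hn hcop1
    rw [ux.sup_eq h h1 (hle.trans hPX) hodd1, ← ux.sup_eq h hPne hPX hPodd, card_sup_coprime hP0 hcop] at e
    exact le_of_eq (Nat.eq_of_mul_eq_mul_left Nat.card_pos e)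
  obtain ⟨s, hs, hsmove⟩ := c.moved
  have hsR : s ∉ c.R := fun e => hsmove (mul_inv_eq_iff_eq_mul.2 (c.mem_R.1 e).2)
  set K := c.R ⊓ centralizer (P : Set G) with hK
  -- `K ∩ K^s` is trivial
  have hKs : ∀ x ∈ K, s * x * s⁻¹ ∈ K → x = 1 := by
    intro x hx hsx
    set N := K ⊓ K.map (MulAut.conj s).toMonoidHom with hN
    have hRK : ∀ r ∈ c.R, ∀ y ∈ K, r * y * r⁻¹ ∈ K := fun r hr y hy =>
      ⟨c.R.mul_mem (c.R.mul_mem hr hy.1) (c.R.inv_mem hr), mem_centralizer_iff.2 fun q hq => by
        have h1 := mem_centralizer_iff.1 hy.2 _ ((mem_normalizer_iff''.1 (hP0 hr) q).1 hq)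
        calc q * (r * y * r⁻¹) = r * (r⁻¹ * q * r * y) * r⁻¹ := by group
          _ = r * (y * (r⁻¹ * q * r)) * r⁻¹ := by rw [h1]
          _ = r * y * r⁻¹ * q := by group⟩
    have hsn : ∀ r ∈ c.R, s * r * s⁻¹ ∈ c.R := fun r hr =>
      (mem_normalizer_iff.1 (c.S_le_normalizer_R hs) r).1 hr
    have hsn' : ∀ r ∈ c.R, s⁻¹ * r * s ∈ c.R := fun r hr =>
      (mem_normalizer_iff''.1 (c.S_le_normalizer_R hs) r).1 hr
    have hmemN : ∀ g ∈ (S : Subgroup G), ∀ y ∈ N, g * y * g⁻¹ ∈ N := by
      rintro g hg y ⟨hy, y', hy', e⟩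
      change s * y' * s⁻¹ = y at e
      by_cases hgR : g ∈ c.R
      · refine ⟨hRK g hgR y hy, s⁻¹ * g * s * y' * (s⁻¹ * g * s)⁻¹, hRK _ (hsn' g hgR) y' hy', ?_⟩
        show s * (s⁻¹ * g * s * y' * (s⁻¹ * g * s)⁻¹) * s⁻¹ = g * y * g⁻¹
        rw [← e]; group
      · have hgs : g * s ∈ c.R :=
          mem_subgroupOf.1 ((mul_mem_iff_of_index_two (H := c.R.subgroupOf (S : Subgroup G)) c.relIndex
            (a := ⟨g, hg⟩) (b := ⟨s, hs⟩)).2 (iff_of_false (fun h' => hgR (mem_subgroupOf.1 h'))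
              (fun h' => hsR (mem_subgroupOf.1 h'))))
        have hsg : s⁻¹ * g ∈ c.R := by
          have := hsn' _ (c.R.mul_mem hgs (c.R.inv_mem (c.sq_mem hs)))
          simpa [mul_assoc] using this
        refine ⟨?_, s⁻¹ * g * y * (s⁻¹ * g)⁻¹, hRK _ hsg y hy, ?_⟩
        · have := hRK _ hgs y' hy'
          rw [← e, show g * (s * y' * s⁻¹) * g⁻¹ = g * s * y' * (g * s)⁻¹ by group]
          exact this
        · show s * (s⁻¹ * g * y * (s⁻¹ * g)⁻¹) * s⁻¹ = g * y * g⁻¹
          group
    by_contra hx1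
    have hNne : N ≠ ⊥ := fun e => hx1 (by
      have : s * x * s⁻¹ ∈ N := ⟨hsx, x, hx, rfl⟩
      rw [e, mem_bot] at this
      exact conj_eq_one_iff.1 this)
    have hNS := h.normalizer_eq ((inf_le_left.trans inf_le_left).trans c.R_le) hNne
      (Core.le_normalizer_iff_conj_mem.2 fun g hg y hy => hmemN g hg y hy)
    have hPS : P ≤ (S : Subgroup G) := by
      rw [← hNS]
      refine fun q hq => mem_normalizer_iff.2 fun y => ⟨fun hy => ?_, fun hy => ?_⟩
      · have h1 := mem_centralizer_iff.1 hy.1.2 q hq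
        rwa [h1, mul_assoc, mul_inv_cancel, mul_one]
      · have h1 := mem_centralizer_iff.1 hy.1.2 q hq
        have : q * y * q⁻¹ = y := by
          calc q * y * q⁻¹ = q⁻¹ * (q * (q * y * q⁻¹)) := by group
            _ = q⁻¹ * (q * y * q⁻¹ * q) := by rw [h1]
            _ = y := by group
        rwa [this] at hy
    obtain ⟨a, ha⟩ := IsPGroup.iff_card.1 (S.2.to_le hPS)
    rw [hd] at ha
    exact hp2 ((Nat.prime_dvd_prime_iff_eq hp Nat.prime_two).1
      (hp.dvd_of_dvd_pow (ha ▸ dvd_pow_self p hd0)))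
  -- `R` is abelian
  have hab : ∀ a ∈ c.R, ∀ b ∈ c.R, a * b = b * a := by
    rcases (show k = 4 ∨ 5 ≤ k by have := h.four_le; omega) with hk4 | hk5
    · intro a ha b hb
      by_cases hau : c.InU a
      · exact (c.inU_comm hau hb).symm
      have hs5 : (({1, z0, u1, u1 * z0, a} : Finset G) : Set G) ⊆
          ((c.R ⊓ centralizer ({a} : Set G) : Subgroup G) : Set G) := by
        intro y hy
        simp only [Finset.coe_insert, Finset.coe_singleton, Set.mem_insert_iff, Set.mem_singleton_iff] at hy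
        rcases hy with rfl | rfl | rfl | rfl | rfl
        · exact one_mem _
        · exact ⟨c.z_mem_R, mem_cent.2 (c.inU_comm (Or.inr (Or.inl rfl)) ha).symm⟩
        · exact ⟨c.u_mem_R, mem_cent.2 (c.inU_comm (Or.inr (Or.inr (Or.inl rfl))) ha).symm⟩
        · exact ⟨c.R.mul_mem c.u_mem_R c.z_mem_R, mem_cent.2 (c.inU_comm (Or.inr (Or.inr (Or.inr rfl))) ha).symm⟩
        · exact ⟨ha, mem_cent.2 rfl⟩
      have h5 := Set.ncard_le_ncard hs5 (Set.toFinite _)
      have hne1 : u1 * z0 ≠ 1 := fun e => by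
        obtain ⟨x, -, hx⟩ := c.uz_conj
        rw [e] at hx
        exact c.u_ne (conj_eq_one_iff.1 hx)
      have hzu : z0 ≠ u1 := fun e => hbad (by
        rw [← e, h.cent_eq c.z_ne c.z_central]; exact S.2)
      simp only [NC.InU, not_or] at hau
      rw [Set.ncard_coe_finset, Finset.card_insert_of_notMem (by
          simp [c.z_ne.symm, c.u_ne.symm, hne1.symm, Ne.symm hau.1]),
        Finset.card_insert_of_notMem (by
          simp only [Finset.mem_insert, Finset.mem_singleton, not_or]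
          exact ⟨hzu, fun e => c.u_ne (mul_eq_right.1 e.symm), Ne.symm hau.2.1⟩),
        Finset.card_insert_of_notMem (by
          simp only [Finset.mem_insert, Finset.mem_singleton, not_or]
          exact ⟨fun e => c.z_ne (mul_eq_left.1 e.symm), Ne.symm hau.2.2.1⟩),
        Finset.card_insert_of_notMem (by simpa using Ne.symm hau.2.2.2), Finset.card_singleton,
        ← Nat.card_coe_set_eq] at h5
      have h5' : 5 ≤ Nat.card ↥(c.R ⊓ centralizer ({a} : Set G)) := h5
      have hdvd := card_dvd_of_le (inf_le_left : c.R ⊓ centralizer ({a} : Set G) ≤ c.R)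
      rw [hcardR, hk4, show (2 : ℕ) ^ (4 - 1) = 2 ^ 3 from rfl] at hdvd
      obtain ⟨j, hj, e⟩ := (Nat.dvd_prime_pow Nat.prime_two).1 hdvd
      have hall : c.R ⊓ centralizer ({a} : Set G) = c.R := by
        refine eq_of_le_of_card_ge inf_le_left ?_
        rw [hcardR, hk4]
        rw [e] at h5' ⊢
        interval_cases j <;> omega
      exact (mem_cent.1 (hall.ge hb).2).symm
    · -- `P` has prime order
      have hd1 : d = 1 := by
        haveI : (P.subgroupOf X).Normal := by
          refine (normal_subgroupOf_iff_le_normalizer hPX).2 ?_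
          rw [← ux.sup_eq h hPne hPX hPodd]
          exact sup_le hP0 le_normalizer
        have hsX := ux.len_le h hk5 (ux.ne_top h)
        have hq : Nat.card (↥X ⧸ P.subgroupOf X) = 2 ^ (k - 1) := by
          have e : Nat.card ↥(P.subgroupOf X) * Nat.card (↥X ⧸ P.subgroupOf X) = Nat.card X :=
            (P.subgroupOf X).card_mul_index
          have hXc : Nat.card X = Nat.card P * 2 ^ (k - 1) := by
            rw [← ux.sup_eq h hPne hPX hPodd, card_sup_coprime hP0 hcop, hcardR, mul_comm]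
          rw [Nat.card_congr (subgroupOfEquivOfLe hPX).toEquiv, hXc] at e
          exact Nat.eq_of_mul_eq_mul_left Nat.card_pos e
        have := hsX.subtype.chain_le (chain_quotient (p := p) (a := d)
          ((Nat.card_congr (subgroupOfEquivOfLe hPX).toEquiv).trans hd)
          (chain_of_card_eq_pow (p := 2) (a := k - 1) (by rw [card_top]; exact hq)))
        omega
      intro a ha b hb
      have hPc : Nat.card P = p := by rw [hd, hd1, pow_one]
      haveI : IsCyclic P := isCyclic_of_prime_card hPc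
      have hcen : ∀ a ∈ c.R, ∀ b ∈ c.R, a * b * a⁻¹ * b⁻¹ ∈ K := by
        intro a ha b hb
        refine ⟨c.R.mul_mem (c.R.mul_mem (c.R.mul_mem ha hb) (c.R.inv_mem ha)) (c.R.inv_mem hb), ?_⟩
        let φ := normalizerMonoidHom P
        have hcomm : ∀ f g : MulAut P, f * g = g * f := fun f g => by
          apply (IsCyclic.mulAutMulEquiv P).injective
          rw [map_mul, map_mul, mul_comm]
        have hker : (⟨a, hP0 ha⟩ * ⟨b, hP0 hb⟩ * ⟨a, hP0 ha⟩⁻¹ * ⟨b, hP0 hb⟩⁻¹ :
            normalizer (P : Set G)) ∈ φ.ker := by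
          rw [MonoidHom.mem_ker, map_mul, map_mul, map_mul, map_inv, map_inv,
            hcomm (φ ⟨a, hP0 ha⟩) (φ ⟨b, hP0 hb⟩)]
          group
        rw [normalizerMonoidHom_ker] at hker
        exact mem_subgroupOf.1 hker
      have hsn : ∀ r ∈ c.R, s * r * s⁻¹ ∈ c.R := fun r hr =>
        (mem_normalizer_iff.1 (c.S_le_normalizer_R hs) r).1 hr
      have h1 := hKs _ (hcen a ha b hb) (by
        have := hcen _ (hsn a ha) _ (hsn b hb)
        convert this using 1
        group)
      exact mul_inv_eq_iff_eq_mul.1 (mul_inv_eq_one.1 h1)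
  -- `z₀` does not centralize `P`
  have hzK : z0 ∉ K := fun e => by
    have hPS : P ≤ (S : Subgroup G) := by
      rw [← h.cent_eq c.z_ne c.z_central]
      exact fun q hq => mem_cent.2 (mem_centralizer_iff.1 e.2 q hq)
    obtain ⟨a, ha⟩ := IsPGroup.iff_card.1 (S.2.to_le hPS)
    rw [hd] at ha
    exact hp2 ((Nat.prime_dvd_prime_iff_eq hp Nat.prime_two).1
      (hp.dvd_of_dvd_pow (ha ▸ dvd_pow_self p hd0)))
  have huK : u1 ∈ K := ⟨c.u_mem_R, mem_centralizer_iff.2 fun q hq => mem_cent.1 (ux.le_cent (hPX hq))⟩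
  -- every involution of `R` lies in `U`
  have hinv : ∀ x ∈ c.R, x * x = 1 → c.InU x := by
    have hstar : ∀ y ∈ c.R, y * y = 1 → y ∈ K ∨ y * z0 ∈ K := by
      intro y hy hy2
      by_cases hy1 : y = 1
      · exact Or.inl (hy1 ▸ one_mem _)
      by_cases hyz : y = z0
      · exact Or.inr (by rw [hyz, c.z_sq]; exact one_mem _)
      have hcyz : Commute y z0 := c.z_central y hy.1
      set V := zpowers y ⊔ zpowers z0
      have hV : ∀ v ∈ V, v = 1 ∨ v = y ∨ v = z0 ∨ v = y * z0 := by
        intro v hv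
        have hle : zpowers y ≤ normalizer (zpowers z0 : Set G) :=
          le_normalizer_zpowers fun x hx => by
            obtain ⟨i, rfl⟩ := mem_zpowers_iff.1 hx
            exact (hcyz.zpow_left i).eq
        obtain ⟨a, ha, b, hb, rfl⟩ := (Core.mem_sup_of_le_normalizer hle).1 hv
        have h2 : ∀ {g w : G}, g * g = 1 → w ∈ zpowers g → w = 1 ∨ w = g := by
          intro g w hg hw
          obtain ⟨i, rfl⟩ := mem_zpowers_iff.1 hw
          rcases Int.even_or_odd i with ⟨j, rfl⟩ | ⟨j, rfl⟩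
          · left; rw [zpow_add, ← (Commute.refl g).mul_zpow, hg, one_zpow]
          · right
            rw [zpow_add_one, two_mul, zpow_add, ← (Commute.refl g).mul_zpow, hg, one_zpow, one_mul]
        rcases h2 hy2 ha with rfl | rfl <;> rcases h2 c.z_sq hb with rfl | rfl <;> simp
      have hV2 : ∀ v ∈ V, v * v = 1 := by
        intro v hv
        rcases hV v hv with rfl | rfl | rfl | rfl
        · exact one_mul 1
        · exact hy2
        · exact c.z_sq
        · rw [hcyz.symm.mul_mul_mul_comm, hy2, c.z_sq, one_mul]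
      have hyV : y ∈ V := mem_sup_left (mem_zpowers y)
      have hzV : z0 ∈ V := mem_sup_right (mem_zpowers z0)
      have hV4 : 4 ≤ Nat.card V := by
        have hs : (({1, y, z0, y * z0} : Finset G) : Set G) ⊆ (V : Set G) := by
          intro v hv
          simp only [Finset.coe_insert, Finset.coe_singleton, Set.mem_insert_iff, Set.mem_singleton_iff] at hv
          rcases hv with rfl | rfl | rfl | rfl
          exacts [one_mem _, hyV, hzV, V.mul_mem hyV hzV]
        have h4 := Set.ncard_le_ncard hs (Set.toFinite _)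
        rw [Set.ncard_coe_finset, Finset.card_insert_of_notMem (by
            simp only [Finset.mem_insert, Finset.mem_singleton, not_or]
            refine ⟨Ne.symm hy1, c.z_ne.symm, fun e => hyz ?_⟩
            rw [← inv_eq_of_mul_eq_one_left e.symm, inv_self c.z_sq]),
          Finset.card_insert_of_notMem (by
            simp only [Finset.mem_insert, Finset.mem_singleton, not_or]
            exact ⟨hyz, fun e => c.z_ne (mul_eq_left.1 e.symm)⟩),
          Finset.card_insert_of_notMem (by simpa using hy1),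
          Finset.card_singleton, ← Nat.card_coe_set_eq] at h4
        exact h4
      have hVR : V ≤ c.R := sup_le (zpowers_le.2 hy) (zpowers_le.2 c.z_mem_R)
      by_contra hne
      push Not at hne
      have hgen := EightThree.le_iSup_of_four hV2 hV4 (hVR.trans hP0) hPodd
      refine hPne (le_bot_iff.1 (hgen.trans (iSup_le fun e => ?_)))
      have heR := hVR e.2.1
      have hnor : c.R ≤ normalizer ((P ⊓ centralizer ({(e : G)} : Set G) : Subgroup G) : Set G) := fun r hr => by
        refine mem_normalizer_iff.2 fun w => ?_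
        have hre : r * (e : G) * r⁻¹ = e := by rw [hab r hr e heR, mul_assoc, mul_inv_cancel, mul_one]
        constructor
        · rintro ⟨hw, hwe⟩
          exact ⟨(mem_normalizer_iff.1 (hP0 hr) w).1 hw, hre ▸ conj_mem_cent (g := r) hwe⟩
        · rintro ⟨hw, hwe⟩
          refine ⟨(mem_normalizer_iff.1 (hP0 hr) w).2 hw, ?_⟩
          have := conj_mem_cent (g := r⁻¹) hwe
          rw [show r⁻¹ * (r * w * r⁻¹) * r⁻¹⁻¹ = w by group,
            show r⁻¹ * (e : G) * r⁻¹⁻¹ = e by rw [inv_inv, mul_assoc, ← hab r hr e heR, inv_mul_cancel_left]]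
            at this
          exact this
      rcases hirr (P ⊓ centralizer ({(e : G)} : Set G)) inf_le_left hnor with hb | hb
      · exact hb.le
      · exfalso
        have hmem : (e : G) ∈ K := ⟨heR, mem_centralizer_iff.2 fun q hq => mem_cent.1 (hb.ge hq).2⟩
        rcases hV e e.2.1 with r | r | r | r
        · exact e.2.2 r
        · exact hne.1 (r ▸ hmem)
        · exact hzK (r ▸ hmem)
        · exact hne.2 (r ▸ hmem)
    intro x hx hx2
    obtain ⟨x', hx'K, hx'2, hxx⟩ : ∃ x' ∈ K, x' * x' = 1 ∧ (x = x' ∨ x = x' * z0) := by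
      rcases hstar x hx hx2 with e | e
      · exact ⟨x, e, hx2, Or.inl rfl⟩
      · refine ⟨x * z0, e, ?_, Or.inr (by rw [mul_assoc, c.z_sq, mul_one])⟩
        rw [(show Commute x z0 from c.z_central x hx.1).symm.mul_mul_mul_comm, hx2, c.z_sq, one_mul]
    have hy : s * x' * s⁻¹ ∈ c.R := (mem_normalizer_iff.1 (c.S_le_normalizer_R hs) x').1 hx'K.1
    have hy2 : s * x' * s⁻¹ * (s * x' * s⁻¹) = 1 := by
      rw [show s * x' * s⁻¹ * (s * x' * s⁻¹) = s * (x' * x') * s⁻¹ by group, hx'2]; group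
    rcases hstar _ hy hy2 with e | e
    · have := hKs x' hx'K e
      subst this
      rcases hxx with rfl | rfl
      · exact Or.inl rfl
      · exact Or.inr (Or.inl (one_mul _))
    · have hxu := hKs (x' * u1) (K.mul_mem hx'K huK) (by
        have := K.mul_mem e huK
        convert this using 1
        rw [show s * (x' * u1) * s⁻¹ = s * x' * s⁻¹ * (s * u1 * s⁻¹) by group, c.moved_eq hs hsR,
          c.z_central u1 c.u_mem]
        group)
      have hx'u : x' = u1 := by rw [← inv_eq_of_mul_eq_one_left hxu, inv_self c.u_sq]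
      subst hx'u
      rcases hxx with rfl | rfl
      · exact Or.inr (Or.inr (Or.inl rfl))
      · exact Or.inr (Or.inr (Or.inr rfl))
  refine c.square h hbad (fun x hxS hxx => hinv _ (c.sq_mem hxS) hxx) fun t ht htR ht2 => ?_
  -- an element of order four of `R` with square `z₀`
  obtain ⟨x, hxR, hx4⟩ : ∃ x ∈ c.R, x * x * (x * x) = 1 ∧ x * x ≠ 1 := by
    have hex : ∃ y ∈ c.R, y * y ≠ 1 := by
      by_contra hne
      push Not at hne
      have hsub : (c.R : Set G) ⊆ {1, z0, u1, u1 * z0} := fun y hy => by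
        rcases hinv y hy (hne y hy) with r | r | r | r <;> simp [r]
      have h4 := Set.ncard_le_ncard hsub (Set.toFinite _)
      rw [← Nat.card_coe_set_eq, show Nat.card (c.R : Set G) = 2 ^ (k - 1) from hcardR] at h4
      have : ({1, z0, u1, u1 * z0} : Set G).ncard ≤ 4 :=
        (Set.ncard_insert_le _ _).trans (Nat.succ_le_succ ((Set.ncard_insert_le _ _).trans
          (Nat.succ_le_succ ((Set.ncard_insert_le _ _).trans (Nat.succ_le_succ (Set.ncard_singleton _).le)))))
      have h8 : 2 ^ 3 ≤ 2 ^ (k - 1) := Nat.pow_le_pow_right two_pos (by have := h.four_le; omega)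
      omega
    obtain ⟨y, hy, hy2⟩ := hex
    obtain ⟨a, -, ha⟩ := (Nat.dvd_prime_pow Nat.prime_two).1
      (show orderOf y ∣ 2 ^ (k - 1) by
        rw [← hcardR]
        have := orderOf_dvd_natCard (⟨y, hy⟩ : c.R)
        rwa [Subgroup.orderOf_mk] at this)
    rcases a with _ | _ | a
    · exact absurd (by rw [pow_zero, orderOf_eq_one_iff] at ha; rw [ha, one_mul]) hy2
    · exact absurd ((sq_of_orderOf (by rw [ha, pow_one])).1) hy2
    · refine ⟨y ^ 2 ^ a, pow_mem hy _, ?_, ?_⟩
      · rw [← pow_add, ← pow_add, show 2 ^ a + 2 ^ a + (2 ^ a + 2 ^ a) = 2 ^ (a + 1 + 1) by ring, ← ha,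
          pow_orderOf_eq_one]
      · rw [← pow_add]
        intro e
        have := orderOf_dvd_of_pow_eq_one e
        rw [ha, show 2 ^ a + 2 ^ a = 2 ^ (a + 1) by ring, Nat.pow_dvd_pow_iff_le_right (by norm_num)] at this
        omega
  have hxsR : t * x * t⁻¹ ∈ c.R := (mem_normalizer_iff.1 (c.S_le_normalizer_R ht) x).1 hxR
  have hxU : c.InU (x * x) := hinv _ (c.R.mul_mem hxR hxR) hx4.1
  obtain ⟨x', hx'R, hx'z⟩ : ∃ x' ∈ c.R, x' * x' = z0 := by
    have hsq : t * (x * x) * t⁻¹ = t * x * t⁻¹ * (t * x * t⁻¹) := by group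
    have hprod : x * (t * x * t⁻¹) * (x * (t * x * t⁻¹)) = x * x * (t * (x * x) * t⁻¹) := by
      have hc : Commute x (t * x * t⁻¹) := hab x hxR _ hxsR
      rw [hc.symm.mul_mul_mul_comm, hsq]
    rcases hxU with r | r | r | r
    · exact absurd r hx4.2
    · exact ⟨x, hxR, r⟩
    · refine ⟨x * (t * x * t⁻¹), c.R.mul_mem hxR hxsR, ?_⟩
      rw [hprod, r, c.moved_eq ht htR, ← mul_assoc, c.u_sq, one_mul]
    · refine ⟨x * (t * x * t⁻¹), c.R.mul_mem hxR hxsR, ?_⟩
      rw [hprod, r, c.conj_uz ht htR, mul_assoc, ← c.z_central u1 c.u_mem, ← mul_assoc, c.u_sq, one_mul]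
  have hx'sR : t * x' * t⁻¹ ∈ c.R := (mem_normalizer_iff.1 (c.S_le_normalizer_R ht) x').1 hx'R
  refine c.exists_commuting ht htR ht2 hx'R hx'z (hinv _ (c.R.mul_mem (c.R.inv_mem hx'R) hx'sR) ?_)
  have hc : Commute x'⁻¹ (t * x' * t⁻¹) := hab _ (c.R.inv_mem hx'R) _ hx'sR
  rw [hc.symm.mul_mul_mul_comm, show t * x' * t⁻¹ * (t * x' * t⁻¹) = t * (x' * x') * t⁻¹ by group, hx'z,
    c.z_central t ht, mul_assoc z0, mul_inv_cancel, mul_one, ← mul_inv_rev, hx'z, inv_mul_cancel]

end UX

end Cfsg.Lib.LenEight
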