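import Cfsg.Agent.Lib.Kondo.Transfer

/-!
# Transfer with an extremal conjugate of a 2-element of least order outside the kernel
-/

set_option autoImplicit false
set_option linter.style.haveILetI false

open Subgroup MulAction

namespace Cfsg.Lib.LenEight

open Cfsg.Agent

variable {G : Type*} [Group G] [Finite G]

/-- When `φ` kills the elements of smaller order, only the fixed cosets contribute. -/
theorem transfer_of_min {P : Subgroup G} [Fintype (G ⧸ P)] [DecidableEq (G ⧸ P)] (φ : P →* ℤˣ)
    (u : G) (hu2 : ∃ a : ℕ, orderOf u = 2 ^ a)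
    (hmin : ∀ x : P, orderOf x < orderOf u → φ x = 1) (ψ : G ⧸ P → ℤˣ)
    (hψ : ∀ c : G ⧸ P, u • c = c → ∀ hm : c.out⁻¹ * u * c.out ∈ P, ψ c = φ ⟨_, hm⟩) :
    MonoidHom.transfer φ u = ∏ c ∈ Finset.univ.filter (fun c : G ⧸ P => u • c = c), ψ c := by
  classical
  haveI := Fintype.ofFinite (Quotient (orbitRel (zpowers u) (G ⧸ P)))
  rw [MonoidHom.transfer_eq_prod_quotient_orbitRel_zpowers_quot]
  have hone : ∀ q : Quotient (orbitRel (zpowers u) (G ⧸ P)), u • q.out ≠ q.out →
      φ ⟨q.out.out⁻¹ * u ^ Function.minimalPeriod (u • ·) q.out * q.out.out,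
        QuotientGroup.out_conj_pow_minimalPeriod_mem P u q.out⟩ = 1 := by
    intro q hq
    apply hmin
    rw [Subgroup.orderOf_mk]
    set m := Function.minimalPeriod (u • ·) q.out
    have he : orderOf (q.out.out⁻¹ * u ^ m * q.out.out) = orderOf (u ^ m) := by
      rw [← MulEquiv.orderOf_eq (MulAut.conj q.out.out)]
      congr 1
      show q.out.out * (q.out.out⁻¹ * u ^ m * q.out.out) * q.out.out⁻¹ = u ^ m
      group
    rw [he]
    have hpos : 0 < orderOf u := orderOf_pos u
    have hfix : ∀ j : ℕ, u ^ j • q.out = q.out ↔ m ∣ j := fun j => by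
      rw [← Function.isPeriodicPt_iff_minimalPeriod_dvd]
      unfold Function.IsPeriodicPt Function.IsFixedPt
      rw [smul_iterate]
    have hm : m ∣ orderOf u := (hfix _).1 (by rw [pow_orderOf_eq_one, one_smul])
    have hm1 : m ≠ 1 := fun e => hq (by simpa using (hfix 1).2 (e ▸ dvd_rfl))
    have hm0 : m ≠ 0 := fun e => by rw [e, zero_dvd_iff] at hm; omega
    rw [orderOf_pow_of_dvd hm0 hm]
    exact Nat.div_lt_self hpos (by omega)
  have hout : ∀ c : G ⧸ P, u • c = c →
      (Quotient.mk (orbitRel (zpowers u) (G ⧸ P)) c).out = c := by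
    intro c hc
    obtain ⟨⟨k, hk⟩, he⟩ := Quotient.exact (Quotient.out_eq (Quotient.mk (orbitRel (zpowers u) (G ⧸ P)) c))
    obtain ⟨j, rfl⟩ := Subgroup.mem_zpowers_iff.1 hk
    rw [← he]
    exact MulAction.mem_stabilizer_iff.1 (Subgroup.zpow_mem _ (MulAction.mem_stabilizer_iff.2 hc) j)
  rw [← Finset.prod_filter_of_ne
    (p := fun q : Quotient (orbitRel (zpowers u) (G ⧸ P)) => u • q.out = q.out)
    fun q _ h => by_contra fun hq => h (hone q hq)]
  refine Finset.prod_bij' (fun q _ => q.out) (fun c _ => Quotient.mk _ c) ?_ ?_ ?_ ?_ ?_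
  · intro q hq
    exact Finset.mem_filter.2 ⟨Finset.mem_univ _, (Finset.mem_filter.1 hq).2⟩
  · intro c hc
    have hc' := (Finset.mem_filter.1 hc).2
    exact Finset.mem_filter.2 ⟨Finset.mem_univ _, by rw [hout c hc']; exact hc'⟩
  · intro q _
    exact Quotient.out_eq q
  · intro c hc
    exact hout c (Finset.mem_filter.1 hc).2
  · intro q hq
    have hq' := (Finset.mem_filter.1 hq).2
    have h1 : Function.minimalPeriod (u • ·) q.out = 1 := Function.minimalPeriod_eq_one_iff_isFixedPt.2 hq'
    have hm := QuotientGroup.out_conj_pow_minimalPeriod_mem P u q.out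
    rw [h1, pow_one] at hm
    rw [hψ _ hq' hm]
    congr 1
    apply Subtype.ext
    show q.out.out⁻¹ * u ^ Function.minimalPeriod (u • ·) q.out * q.out.out = _
    rw [h1, pow_one]

/-- A 2-element `u`, such that `φ` kills the elements of `P` of smaller order, has a conjugate in
the kernel of `φ` whose centralizer in `P` is a largest 2-subgroup of its centralizer. -/
theorem exists_extremal_of_min (hG : ∀ H : Subgroup G, H.Normal → H.index ≠ 2) (P : Sylow 2 G)
    (φ : (P : Subgroup G) →* ℤˣ) (u : G) (hu2 : ∃ a : ℕ, orderOf u = 2 ^ a)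
    (hmin : ∀ x : (P : Subgroup G), orderOf x < orderOf u → φ x = 1) :
    ∃ g : G, ∃ hg : g⁻¹ * u * g ∈ (P : Subgroup G), φ ⟨_, hg⟩ = 1 ∧
      ∀ Q : Subgroup G, IsPGroup 2 Q → Q ≤ centralizer {g⁻¹ * u * g} →
        Nat.card Q ≤ Nat.card ↥((P : Subgroup G) ⊓ centralizer {g⁻¹ * u * g}) := by
  classical
  haveI : Fact (Nat.Prime 2) := ⟨Nat.prime_two⟩
  haveI := Fintype.ofFinite (G ⧸ (P : Subgroup G))
  by_contra hcon
  push Not at hcon
  let C : Subgroup G := centralizer {u}
  have hmem : ∀ c : G ⧸ (P : Subgroup G), u • c = c → c.out⁻¹ * u * c.out ∈ (P : Subgroup G) := by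
    intro c hc
    have h1 : (↑(u * c.out) : G ⧸ (P : Subgroup G)) = ↑c.out := by
      rw [show (↑(u * c.out) : G ⧸ (P : Subgroup G)) = u • (↑c.out) from rfl, QuotientGroup.out_eq', hc]
    have h2 := QuotientGroup.eq.mp h1.symm
    rwa [← mul_assoc] at h2
  let ψ : G ⧸ (P : Subgroup G) → ℤˣ := fun c =>
    if h : u • c = c then φ ⟨_, hmem c h⟩ else 1
  have hprod := transfer_of_min φ u hu2 hmin ψ (fun c hc hm => by simp [ψ, hc])
  rw [Kondo.transfer_eq_one hG] at hprod
  -- the fixed cosets, as a `C`-set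
  have hinv : ∀ (k : C) (c : G ⧸ (P : Subgroup G)), u • c = c → u • ((k : G) • c) = (k : G) • c := by
    intro k c hc
    rw [smul_smul, ← Subgroup.mem_centralizer_singleton_iff.mp k.2, ← smul_smul, hc]
  have hconst : ∀ (k : C) (c : G ⧸ (P : Subgroup G)) (hc : u • c = c),
      ψ ((k : G) • c) = ψ c := by
    intro k c hc
    simp only [ψ, dif_pos (hinv k c hc), dif_pos hc]
    have h1 : (↑((k : G) • c).out : G ⧸ (P : Subgroup G)) = ↑((k : G) * c.out) := by
      rw [QuotientGroup.out_eq', show (↑((k : G) * c.out) : G ⧸ (P : Subgroup G)) = (k : G) • (↑c.out) from rfl,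
        QuotientGroup.out_eq']
    obtain ⟨p, hp⟩ : ∃ p : (P : Subgroup G), ((k : G) • c).out = (k : G) * c.out * p := by
      refine ⟨⟨((k : G) * c.out)⁻¹ * ((k : G) • c).out, QuotientGroup.eq.mp h1.symm⟩, ?_⟩
      simp [mul_assoc]
    have e : (⟨_, hmem _ (hinv k c hc)⟩ : (P : Subgroup G)) = p⁻¹ * ⟨_, hmem c hc⟩ * p := by
      apply Subtype.ext
      simp only [Subgroup.coe_mul, Subgroup.coe_inv, hp]
      calc ((k : G) * c.out * p)⁻¹ * u * ((k : G) * c.out * p)
          = (p : G)⁻¹ * (c.out⁻¹ * ((k : G)⁻¹ * (u * k)) * c.out) * p := by group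
        _ = (p : G)⁻¹ * (c.out⁻¹ * u * c.out) * p := by
          rw [← Subgroup.mem_centralizer_singleton_iff.mp k.2]; group
    rw [e, map_mul, map_mul, map_inv, mul_comm (φ p)⁻¹, mul_assoc, inv_mul_cancel, mul_one]
  let F : Finset (G ⧸ (P : Subgroup G)) := Finset.univ.filter (fun c => u • c = c)
  let orb : G ⧸ (P : Subgroup G) → Set (G ⧸ (P : Subgroup G)) := fun c => MulAction.orbit C c
  -- on each orbit of `C` the product is `(-1) ^ size`
  have horbit : ∀ c ∈ F, ψ c = 1 → Even (Nat.card (MulAction.orbit C c)) := by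
    intro c hcF hψ1
    have hc := (Finset.mem_filter.mp hcF).2
    obtain ⟨Q, hQp, hQC, hQlt⟩ := hcon c.out (hmem c hc) (by simpa [ψ, hc] using hψ1)
    rw [← Nat.not_odd_iff_even]
    intro hodd
    set z := c.out⁻¹ * u * c.out
    -- the stabilizer of `c` in `C`
    have hstab : Nat.card (MulAction.stabilizer C c) =
        Nat.card ↥((P : Subgroup G) ⊓ centralizer {z}) := by
      have key : ∀ k : G, k • c = c ↔ c.out⁻¹ * k * c.out ∈ (P : Subgroup G) := by
        intro k
        conv_lhs => rw [← Quotient.out_eq c]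
        rw [show k • (↑c.out : G ⧸ (P : Subgroup G)) = ↑(k * c.out) from rfl, eq_comm]
        constructor
        · intro h
          have := QuotientGroup.eq.mp h
          rwa [← mul_assoc] at this
        · intro h
          exact QuotientGroup.eq.mpr (by rwa [← mul_assoc])
      refine Nat.card_congr ⟨fun k => ⟨c.out⁻¹ * ((k : C) : G) * c.out, (key _).mp k.2, ?_⟩,
        fun k => ⟨⟨c.out * (k : G) * c.out⁻¹, ?_⟩, (key _).mpr ?_⟩, ?_, ?_⟩
      · show _ ∈ centralizer ({z} : Set G)
        rw [Subgroup.mem_centralizer_singleton_iff]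
        have h := Subgroup.mem_centralizer_singleton_iff.mp (k : C).2
        calc c.out⁻¹ * ((k : C) : G) * c.out * z = c.out⁻¹ * (((k : C) : G) * u) * c.out := by
              simp only [z]; group
          _ = c.out⁻¹ * (u * ((k : C) : G)) * c.out := by rw [h]
          _ = z * (c.out⁻¹ * ((k : C) : G) * c.out) := by simp only [z]; group
      · rw [Subgroup.mem_centralizer_singleton_iff]
        have h := Subgroup.mem_centralizer_singleton_iff.mp k.2.2
        calc c.out * (k : G) * c.out⁻¹ * u = c.out * ((k : G) * z) * c.out⁻¹ := by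
              simp only [z]; group
          _ = c.out * (z * (k : G)) * c.out⁻¹ := by rw [h]
          _ = u * (c.out * (k : G) * c.out⁻¹) := by simp only [z]; group
      · show c.out⁻¹ * (c.out * (k : G) * c.out⁻¹) * c.out ∈ (P : Subgroup G)
        have : c.out⁻¹ * (c.out * (k : G) * c.out⁻¹) * c.out = k := by group
        rw [this]; exact k.2.1
      · intro k; apply Subtype.ext; apply Subtype.ext
        show c.out * (c.out⁻¹ * ((k : C) : G) * c.out) * c.out⁻¹ = ((k : C) : G)
        group
      · intro k; apply Subtype.ext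
        show c.out⁻¹ * (c.out * (k : G) * c.out⁻¹) * c.out = k
        group
    have hcardC : Nat.card (centralizer ({z} : Set G)) = Nat.card C := by
      refine Nat.card_congr ⟨fun k => ⟨c.out * (k : G) * c.out⁻¹, ?_⟩,
        fun k => ⟨c.out⁻¹ * (k : G) * c.out, ?_⟩, fun k => ?_, fun k => ?_⟩
      · rw [Subgroup.mem_centralizer_singleton_iff]
        have h := Subgroup.mem_centralizer_singleton_iff.mp k.2
        calc c.out * (k : G) * c.out⁻¹ * u = c.out * ((k : G) * z) * c.out⁻¹ := by
              simp only [z]; group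
          _ = c.out * (z * (k : G)) * c.out⁻¹ := by rw [h]
          _ = u * (c.out * (k : G) * c.out⁻¹) := by simp only [z]; group
      · rw [Subgroup.mem_centralizer_singleton_iff]
        have h := Subgroup.mem_centralizer_singleton_iff.mp k.2
        calc c.out⁻¹ * (k : G) * c.out * z = c.out⁻¹ * ((k : G) * u) * c.out := by
              simp only [z]; group
          _ = c.out⁻¹ * (u * (k : G)) * c.out := by rw [h]
          _ = z * (c.out⁻¹ * (k : G) * c.out) := by simp only [z]; group
      · apply Subtype.ext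
        show c.out⁻¹ * (c.out * (k : G) * c.out⁻¹) * c.out = k
        group
      · apply Subtype.ext
        show c.out * (c.out⁻¹ * (k : G) * c.out) * c.out⁻¹ = k
        group
    have hmul : Nat.card (MulAction.orbit C c) * Nat.card ↥((P : Subgroup G) ⊓ centralizer {z})
        = Nat.card (centralizer ({z} : Set G)) := by
      rw [← hstab, hcardC, ← Subgroup.index_mul_card (MulAction.stabilizer C c),
        MulAction.index_stabilizer, Nat.card_coe_set_eq]
    obtain ⟨a, ha⟩ := IsPGroup.iff_card.mp hQp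
    have hdvd : Nat.card Q ∣ Nat.card (centralizer ({z} : Set G)) := Subgroup.card_dvd_of_le hQC
    rw [← hmul, ha] at hdvd
    have hcop : Nat.Coprime (2 ^ a) (Nat.card (MulAction.orbit C c)) :=
      (Nat.coprime_two_left.mpr hodd).pow_left a
    have := Nat.le_of_dvd Nat.card_pos (hcop.dvd_of_dvd_mul_left hdvd)
    omega
  have hprod' : ∏ c ∈ F, ψ c = (-1) ^ F.card := by
    rw [← Finset.prod_fiberwise_of_maps_to (g := orb) (t := F.image orb)
        (fun c hc => Finset.mem_image_of_mem orb hc),
      Finset.card_eq_sum_card_image orb F, ← Finset.prod_pow_eq_pow_sum]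
    refine Finset.prod_congr rfl fun o ho => ?_
    obtain ⟨c, hcF, rfl⟩ := Finset.mem_image.mp ho
    have hc := (Finset.mem_filter.mp hcF).2
    have hval : ∀ d ∈ F.filter (fun d => orb d = orb c), ψ d = ψ c := by
      intro d hd
      have hd2 : d ∈ MulAction.orbit C c := by
        have := (Finset.mem_filter.mp hd).2
        show d ∈ orb c
        rw [← this]; exact MulAction.mem_orbit_self d
      obtain ⟨k, rfl⟩ := hd2
      exact hconst k c hc
    rw [Finset.prod_congr rfl hval, Finset.prod_const]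
    have hcard : (F.filter (fun d => orb d = orb c)).card = Nat.card (MulAction.orbit C c) := by
      rw [Nat.card_coe_set_eq, ← Set.ncard_coe_finset]
      congr 1
      ext d
      simp only [Finset.coe_filter, Set.mem_setOf_eq]
      constructor
      · rintro ⟨-, h⟩
        show d ∈ orb c
        rw [← h]; exact MulAction.mem_orbit_self d
      · intro h
        refine ⟨?_, (MulAction.orbit_eq_iff.mpr h)⟩
        obtain ⟨k, rfl⟩ := h
        exact Finset.mem_filter.mpr ⟨Finset.mem_univ _, hinv k c hc⟩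
    rcases Int.units_eq_one_or (ψ c) with h | h
    · have := horbit c hcF h
      rw [h, one_pow, hcard, this.neg_one_pow]
    · rw [h]
  have hFodd : Odd F.card := by
    obtain ⟨a, ha⟩ := hu2
    have hp : IsPGroup 2 (zpowers u) := IsPGroup.of_card (n := a) (by rw [Nat.card_zpowers, ha])
    have hmod := hp.card_modEq_card_fixedPoints (G ⧸ (P : Subgroup G))
    have hfix : Nat.card (MulAction.fixedPoints (zpowers u) (G ⧸ (P : Subgroup G))) = F.card := by
      rw [Nat.card_coe_set_eq, ← Set.ncard_coe_finset]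
      congr 1
      ext c
      simp only [F, Finset.coe_filter, Finset.mem_univ, true_and, Set.mem_setOf_eq, MulAction.mem_fixedPoints]
      constructor
      · exact fun h => h ⟨u, mem_zpowers u⟩
      · rintro h ⟨k, hk⟩
        obtain ⟨j, rfl⟩ := Subgroup.mem_zpowers_iff.1 hk
        exact MulAction.mem_stabilizer_iff.1 (Subgroup.zpow_mem _ (MulAction.mem_stabilizer_iff.2 h) j)
    rw [hfix] at hmod
    have hidx := Nat.two_dvd_ne_zero.mp P.not_dvd_index
    rw [Subgroup.index] at hidx
    exact Nat.odd_iff.2 ((Eq.symm hmod).trans hidx)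
  have heq : (1 : ℤˣ) = -1 := by
    calc (1 : ℤˣ) = ∏ c ∈ F, ψ c := hprod
      _ = (-1) ^ F.card := hprod'
      _ = -1 := hFodd.neg_one_pow
  exact absurd heq (by decide)

end Cfsg.Lib.LenEight
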